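import Cfsg.Agent.FusionAux.SeriesStab
import Cfsg.Agent.FusionAux.Induction
import Cfsg.Agent.FusionBatch.Basic
import Cfsg.Agent.PGroup.Frattini
import Cfsg.Agent.PGroup.Basic
import Cfsg.Agent.FusionAlperin.NormalCriteria

/-!
An essential subgroup has no invariant flag refining its Frattini quotient, when that quotient has
order at most `p ^ 2`.
-/

set_option autoImplicit false

open Cfsg Cfsg.FusionSystem Cfsg.Agent.FusionSys

namespace Cfsg.Agent.FusionSys

variable {Ω : Type*} [Group Ω] {S : Subgroup Ω} [Finite S] {p : ℕ} [Fact p.Prime]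

lemma essential_ne_self (hS : IsPGroup p S) {F : FusionSystem S} (hF : F.IsSaturated p)
    {H : Subgroup Ω} (hH : F.IsEssential p H) : H ≠ S := by
  rintro rfl
  obtain ⟨-, -, hI, E, hE⟩ := hH
  obtain ⟨R, hR⟩ := FusionBatch.autGroup_self_sylow hS hF
  refine R.not_dvd_index ?_
  rw [hR, Subgroup.index_eq_card]
  exact hE.1

/-- An element of `N_S(H) \ H` for an essential `H`. -/
lemma exists_mem_normalizerIn_not_mem (hS : IsPGroup p S) {F : FusionSystem S}
    (hF : F.IsSaturated p) {H : Subgroup Ω} (hH : F.IsEssential p H) :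
    ∃ g ∈ normalizerIn S H, g ∉ H :=
  SetLike.exists_of_lt (FusionAux.lt_normalizerIn hS hH.1.1 (essential_ne_self hS hF hH))

/-- An automorphism of a `p`-group stabilising `Φ ≤ M ≤ H` has `p`-power order. -/
lemma exists_pow_eq_one_of_stab {H : Type*} [Group H] [Finite H] (hH : IsPGroup p H)
    {M : Subgroup H} (hΦM : frattini H ≤ M) {γ : MulAut H}
    (h1 : ∀ x ∈ M, x⁻¹ * γ x ∈ frattini H) (h2 : ∀ x, x⁻¹ * γ x ∈ M) :
    ∃ e : ℕ, γ ^ p ^ e = 1 := by
  have hpow : ∀ x : H, x⁻¹ * (γ ^ p) x ∈ frattini H := by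
    intro x
    haveI : (frattini H).Normal := inferInstance
    set m := x⁻¹ * γ x with hm
    have key : ∀ n : ℕ, (m ^ n)⁻¹ * (x⁻¹ * (γ ^ n) x) ∈ frattini H := by
      intro n
      induction n with
      | zero => simp
      | succ n ih =>
        set f := (m ^ n)⁻¹ * (x⁻¹ * (γ ^ n) x) with hf
        have e1 : (γ ^ n) x = x * m ^ n * f := by rw [hf]; group
        have hγf : γ f ∈ frattini H := by
          have h3 := mul_mem ih (h1 f (hΦM ih))
          rwa [mul_inv_cancel_left] at h3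
        have hγm : (m ^ n)⁻¹ * γ (m ^ n) ∈ frattini H := h1 _ (pow_mem (h2 x) n)
        have e2 : (m ^ (n + 1))⁻¹ * (x⁻¹ * (γ ^ (n + 1)) x) =
            ((m ^ n)⁻¹ * γ (m ^ n)) * γ f := by
          rw [pow_succ' γ, MulAut.mul_apply, e1, map_mul, map_mul,
            show γ x = x * m by rw [hm]; group]
          simp [pow_succ', mul_assoc]
        rw [e2]
        exact mul_mem hγm hγf
    have h4 := mul_mem (PGroup.pow_mem_frattini hH m) (key p)
    rwa [mul_inv_cancel_left] at h4
  have hfin : IsOfFinOrder (γ ^ p) := isOfFinOrder_of_finite _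
  obtain ⟨s, u, hu, hsu⟩ := Nat.exists_eq_pow_mul_and_not_dvd
    hfin.orderOf_pos.ne' p (Fact.out : p.Prime).ne_one
  refine ⟨1 + s, ?_⟩
  rw [pow_add, pow_one, pow_mul]
  refine PGroup.mulAut_eq_one_of_frattini hH _ ?_ fun x => ?_
  · have h5 : orderOf ((γ ^ p) ^ p ^ s) ∣ u := by
      refine orderOf_dvd_of_pow_eq_one ?_
      rw [← pow_mul, ← hsu, pow_orderOf_eq_one]
    exact ((Fact.out : p.Prime).coprime_iff_not_dvd.2 hu).symm.coprime_dvd_left h5
  · have key : ∀ n x, x⁻¹ * ((γ ^ p) ^ n) x ∈ frattini H := by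
      intro n
      induction n with
      | zero => intro x; simp
      | succ n ih =>
        intro x
        rw [pow_succ, MulAut.mul_apply]
        have h3 := mul_mem (hpow x) (ih ((γ ^ p) x))
        simpa [mul_assoc] using h3
    exact key _ x

/-- An element of `N_S(H)` stabilising an invariant `Φ ≤ M ≤ H` lies in the centric radical `H`. -/
lemma mem_of_stabilizes_flag (hS : IsPGroup p S) {F : FusionSystem S} {H : Subgroup Ω}
    (hc : F.IsCentric H) (hr : F.IsRadical p H) {M : Subgroup H} (hΦM : frattini H ≤ M)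
    (hM : ∀ α ∈ F.autGroup H, ∀ x ∈ M, α x ∈ M) {g : Ω} (hg : g ∈ normalizerIn S H)
    (h1 : ∀ x ∈ M, x⁻¹ * H.normalizerMonoidHom ⟨g, hg.2⟩ x ∈ frattini H)
    (h2 : ∀ x, x⁻¹ * H.normalizerMonoidHom ⟨g, hg.2⟩ x ∈ M) : g ∈ H := by
  haveI : Finite H := finite_of_le ‹_› hc.1
  have hΦ : ∀ (α : MulAut H), ∀ x ∈ frattini H, α x ∈ frattini H := fun α x hx =>
    (Subgroup.characteristic_iff_le_comap.1 inferInstance α) hx
  let N : Subgroup (F.autGroup H) :=
    { carrier := {a | (∀ x ∈ M, x⁻¹ * (a : MulAut H) x ∈ frattini H) ∧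
        ∀ x, x⁻¹ * (a : MulAut H) x ∈ M}
      one_mem' := ⟨fun x _ => by simp, fun x => by simp⟩
      mul_mem' := fun {a b} ha hb => ⟨fun x hx => by
          have h := mul_mem (hb.1 x hx) (ha.1 ((b : MulAut H) x) (hM _ b.2 x hx))
          simpa [mul_assoc] using h, fun x => by
          have h := mul_mem (hb.2 x) (ha.2 ((b : MulAut H) x))
          simpa [mul_assoc] using h⟩
      inv_mem' := fun {a} ha => ⟨fun x hx => by
          have h := inv_mem (ha.1 ((a : MulAut H).symm x) (hM _ (inv_mem a.2) x hx))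
          simpa [mul_assoc] using h, fun x => by
          have h := inv_mem (ha.2 ((a : MulAut H).symm x))
          simpa [mul_assoc] using h⟩ }
  haveI hNn : N.Normal := ⟨fun a ha b => ⟨fun x hx => by
      have h := hΦ (b : MulAut H) _ (ha.1 ((b : MulAut H).symm x) (hM _ (inv_mem b.2) x hx))
      simpa using h, fun x => by
      have h := hM _ b.2 _ (ha.2 ((b : MulAut H).symm x))
      simpa using h⟩⟩
  have hNp : IsPGroup p N := FusionAux.isPGroup_of_pow_eq_one _ fun a ha => by
    obtain ⟨e, he⟩ := exists_pow_eq_one_of_stab (hS.to_le hc.1) hΦM ha.1 ha.2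
    exact ⟨e, Subtype.ext (by simpa using he)⟩
  exact FusionAux.mem_of_normal_pGroup hc hr hNp hg
    (a := ⟨H.normalizerMonoidHom ⟨g, hg.2⟩, autInducedBy_le_autGroup F hc.1
      (mem_autInducedBy.2 ⟨g, hg.1, fun _ => rfl⟩)⟩) ⟨h1, h2⟩ fun x => rfl

/-- A `p`-element acts trivially on an invariant layer of index `p`. -/
lemma layer_trivial (hS : IsPGroup p S) {H : Subgroup Ω} (hHS : H ≤ S) {A B : Subgroup H}
    (hAB : A ≤ B) (hidx : A.relIndex B = p) {g : Ω} (hg : g ∈ normalizerIn S H) [A.Normal]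
    [B.Normal] (hA : ∀ x ∈ A, H.normalizerMonoidHom ⟨g, hg.2⟩ x ∈ A)
    (hB : ∀ x ∈ B, H.normalizerMonoidHom ⟨g, hg.2⟩ x ∈ B) :
    ∀ x ∈ B, x⁻¹ * H.normalizerMonoidHom ⟨g, hg.2⟩ x ∈ A := by
  haveI : Finite H := finite_of_le ‹_› hHS
  set T := normalizerIn S H ⊓ Subgroup.normalizer ((A.map H.subtype : Subgroup Ω) : Set Ω) ⊓
    Subgroup.normalizer ((B.map H.subtype : Subgroup Ω) : Set Ω) with hT
  have hTS : T ≤ S := inf_le_left.trans (inf_le_left.trans (normalizerIn_le H))
  haveI : Finite T := finite_of_le ‹_› hTS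
  have hnorm : ∀ (C : Subgroup H) [C.Normal], (∀ x ∈ C, H.normalizerMonoidHom ⟨g, hg.2⟩ x ∈ C) →
      g ∈ Subgroup.normalizer ((C.map H.subtype : Subgroup Ω) : Set Ω) := by
    intro C _ hC
    haveI : Finite (C.map H.subtype : Subgroup Ω) := finite_of_le ‹_› (Subgroup.map_subtype_le _)
    refine Subgroup.mem_normalizer_fintype (S := ((C.map H.subtype : Subgroup Ω) : Set Ω)) ?_
    rintro _ ⟨x, hx, rfl⟩
    exact ⟨_, hC x hx, rfl⟩
  have hgT : g ∈ T := ⟨⟨hg, hnorm A hA⟩, hnorm B hB⟩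
  have hHC : ∀ (C : Subgroup H) [C.Normal],
      H ≤ Subgroup.normalizer ((C.map H.subtype : Subgroup Ω) : Set Ω) := fun C _ => by
    refine le_trans (le_of_eq ?_) (Subgroup.le_normalizer_map H.subtype)
    rw [Subgroup.normalizer_eq_top, ← MonoidHom.range_eq_map, Subgroup.range_subtype]
  have hHT : H ≤ T := le_inf (le_inf (le_normalizerIn hHS) (hHC A)) (hHC B)
  haveI hAn : ((A.map H.subtype).subgroupOf T).Normal :=
    Subgroup.normal_subgroupOf_of_le_normalizer (inf_le_left.trans inf_le_right)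
  haveI hBn : ((B.map H.subtype).subgroupOf T).Normal :=
    Subgroup.normal_subgroupOf_of_le_normalizer inf_le_right
  set A' := (A.map H.subtype).subgroupOf T with hA'
  set π := QuotientGroup.mk' A' with hπ
  have hBp : ((B.map H.subtype).subgroupOf T).map π ≤ Subgroup.center (T ⧸ A') := by
    haveI : (((B.map H.subtype).subgroupOf T).map π).Normal :=
      Subgroup.Normal.map inferInstance π (QuotientGroup.mk'_surjective _)
    refine PGroup.le_center_of_card_eq ((hS.to_le hTS).to_quotient A') ?_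
    rw [← Subgroup.relIndex_ker, hπ, QuotientGroup.ker_mk', hA',
      Subgroup.relIndex_subgroupOf ((Subgroup.map_subtype_le B).trans hHT),
      Subgroup.relIndex_map_map_of_injective _ _ H.subtype_injective]
    exact hidx
  intro x hx
  have hxT : ((x : H) : Ω) ∈ T := hHT x.2
  have h := Subgroup.mem_center_iff.1 (hBp (Subgroup.mem_map_of_mem π
    (show (⟨x, hxT⟩ : T) ∈ (B.map H.subtype).subgroupOf T from ⟨x, hx, rfl⟩))) (π ⟨g, hgT⟩)
  have h' : (⟨x, hxT⟩ : T)⁻¹ * (⟨g, hgT⟩ * ⟨x, hxT⟩ * ⟨g, hgT⟩⁻¹) ∈ A' := by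
    refine (QuotientGroup.eq_one_iff _).1 ?_
    show π _ = 1
    simp only [map_mul, map_inv]
    rw [h]
    simp [mul_assoc]
  obtain ⟨y, hy, hye⟩ := h'
  rwa [show x⁻¹ * H.normalizerMonoidHom ⟨g, hg.2⟩ x = y from Subtype.ext hye.symm]

/-- An essential subgroup with `|H : Φ(H)| ≤ p²` has no invariant subgroup of index `p` over
`Φ(H)` (nor `Φ(H)` of index `p`). -/
theorem false_of_flag (hS : IsPGroup p S) {F : FusionSystem S} (hF : F.IsSaturated p)
    {H : Subgroup Ω} (hH : F.IsEssential p H) {M : Subgroup H} (hΦM : frattini H ≤ M)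
    (hidx : M.index = p) (hΦ : (frattini H).index ≤ p ^ 2)
    (hM : ∀ α ∈ F.autGroup H, ∀ x ∈ M, α x ∈ M) : False := by
  have hHS := hH.1.1
  haveI : Finite H := finite_of_le ‹_› hHS
  have hHp : IsPGroup p H := hS.to_le hHS
  obtain ⟨g, hg, hgH⟩ := exists_mem_normalizerIn_not_mem hS hF hH
  have hgA : H.normalizerMonoidHom ⟨g, hg.2⟩ ∈ F.autGroup H :=
    autInducedBy_le_autGroup F hHS (mem_autInducedBy.2 ⟨g, hg.1, fun _ => rfl⟩)
  have hΦc : ∀ x ∈ frattini H, H.normalizerMonoidHom ⟨g, hg.2⟩ x ∈ frattini H := fun x hx =>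
    (Subgroup.characteristic_iff_le_comap.1 inferInstance (H.normalizerMonoidHom ⟨g, hg.2⟩)) hx
  haveI hMn : M.Normal :=
    PGroup.normal_of_commutator_le ((PGroup.commutator_le_frattini hHp).trans hΦM)
  refine hgH (mem_of_stabilizes_flag hS hH.1 (FusionAlperin.isRadical_of_essential hS hH) hΦM hM hg
    ?_ ?_)
  · rcases eq_or_lt_of_le hΦM with he | hlt
    · intro x hx
      have h := mul_mem (inv_mem hx) (hM _ hgA x hx)
      rwa [← he] at h
    · refine layer_trivial hS hHS hΦM ?_ hg hΦc fun x hx => hM _ hgA x hx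
      obtain ⟨a, -, ha⟩ := (Nat.dvd_prime_pow (Fact.out : p.Prime)).1
        (show (frattini H).relIndex M ∣ p ^ Nat.log p (Nat.card H) by
          obtain ⟨r, hr⟩ := IsPGroup.iff_card.1 hHp
          rw [hr, Nat.log_pow (Fact.out : p.Prime).one_lt, ← hr]
          exact ((frattini H).subgroupOf M).index_dvd_card.trans M.card_subgroup_dvd_card)
      have h3 := Subgroup.relIndex_mul_index hΦM
      rw [hidx] at h3
      have h4 : p ^ (a + 1) ≤ p ^ 2 := by rw [pow_succ, ← ha, h3]; exact hΦ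
      have h5 := (Nat.pow_le_pow_iff_right (Fact.out : p.Prime).one_lt).1 h4
      have h6 : a ≠ 0 := by
        rintro rfl
        rw [pow_zero, Subgroup.relIndex_eq_one] at ha
        exact hlt.not_ge ha
      rw [ha, show a = 1 by omega, pow_one]
  · intro x
    exact layer_trivial hS hHS (le_top : M ≤ ⊤) (by rw [Subgroup.relIndex_top_right, hidx]) hg
      (fun x hx => hM _ hgA x hx) (fun x _ => Subgroup.mem_top _) x (Subgroup.mem_top x)

/-- The Frattini quotient of an essential subgroup is not cyclic. -/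
theorem frattini_index_ne_prime (hS : IsPGroup p S) {F : FusionSystem S} (hF : F.IsSaturated p)
    {H : Subgroup Ω} (hH : F.IsEssential p H) : (frattini H).index ≠ p := fun h =>
  false_of_flag hS hF hH le_rfl h
    (by rw [h, sq]; exact Nat.le_mul_of_pos_right _ (Fact.out : p.Prime).pos)
    fun α _ _ hx => (Subgroup.characteristic_iff_le_comap.1 inferInstance α) hx

end Cfsg.Agent.FusionSys
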