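import Cfsg.Agent.FusionSys.Carries
import Cfsg.Agent.FusionSys.Criteria

/-!
The saturation criterion: a fusion system generated by, and saturated on, a family of subgroups is
saturated if every centric subgroup outside the family has, up to conjugation,
`Aut_S(P) ∩ O_p(Aut_F(P))` larger than `Inn(P)`.
-/

set_option autoImplicit false

open Cfsg Cfsg.FusionSystem
open scoped Pointwise
open Cfsg.Agent.FusionAlperin (SylIn exists_sylIn_ge)

namespace Cfsg.Agent.FusionSys

variable {Ω : Type*} [Group Ω] {S : Subgroup Ω} {p : ℕ} {F : FusionSystem S} {P : Subgroup Ω}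

/-- Some map on `N_S(R)` carries `R` onto `P`. -/
def Nice (F : FusionSystem S) (P R : Subgroup Ω) : Prop :=
  ∃ α ∈ F.Hom (normalizerIn S R), Carries α R P

lemma Carries.mem_normalizerIn {Y R R' : Subgroup Ω} {ψ : Y →* Ω} (h : Carries ψ R R')
    (hψ : ψ ∈ F.Hom Y) (hY : Y ≤ normalizerIn S R) (x : Y) : ψ x ∈ normalizerIn S R' :=
  ⟨map_mem_S F hψ x, h.mem_normalizer (hY.trans inf_le_right) x⟩

lemma nice_self (hP : P ≤ S) : Nice F P P := by
  refine ⟨_, subtype_mem F (normalizerIn_le P), le_normalizerIn hP, ?_⟩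
  exact Subgroup.map_subgroupOf_eq_of_le (le_normalizerIn hP)

lemma Nice.isConj {R : Subgroup Ω} (h : Nice F P R) : F.IsConj R P := by
  obtain ⟨α, hα, hc⟩ := h
  exact ⟨_, restr_mem F hc.1 hα, hc.range_restr_eq⟩

lemma Nice.card_normalizerIn_le [Finite S] {R : Subgroup Ω} (h : Nice F P R) :
    Nat.card (normalizerIn S R) ≤ Nat.card (normalizerIn S P) := by
  obtain ⟨α, hα, hc⟩ := h
  have : Finite (normalizerIn S P) := finite_of_le ‹_› (normalizerIn_le P)
  exact Nat.card_le_card_of_injective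
    (fun x => (⟨α x, hc.mem_normalizerIn hα le_rfl x⟩ : normalizerIn S P))
    fun a b hab => F.injective_of_mem hα (congrArg Subtype.val hab)

lemma Nice.card_centralizerIn_le [Finite S] {R : Subgroup Ω} (h : Nice F P R) :
    Nat.card (centralizerIn S R) ≤ Nat.card (centralizerIn S P) := by
  obtain ⟨α, hα, hc⟩ := h
  have hle := centralizerIn_le_normalizerIn (S := S) R
  have : Finite (centralizerIn S P) := finite_of_le ‹_› (centralizerIn_le P)
  exact Nat.card_le_card_of_injective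
    (fun x : centralizerIn S R => (⟨α (Subgroup.inclusion hle x), map_mem_S F hα _,
      map_mem_centralizer hc.1 hc.2 (mem_centralizerIn.1 x.2).2⟩ : centralizerIn S P))
    fun a b hab => Subgroup.inclusion_injective hle
      (F.injective_of_mem hα (congrArg Subtype.val hab))

lemma kNorm_sup_le {Y R : Subgroup Ω} (hRY : R ≤ Y) (hY : Y ≤ normalizerIn S R) :
    Y ⊔ kNorm S Y (subStab Y R) ≤ normalizerIn S R :=
  sup_le hY fun _ hg => ⟨hg.1, ((mem_kNorm_subStab hRY).1 hg).2⟩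

lemma lt_kNorm_sup [Finite S] [Fact p.Prime] (hS : IsPGroup p S) {Y R : Subgroup Ω} (hRY : R ≤ Y)
    (hY : Y < normalizerIn S R) :
    Nat.card Y < Nat.card ↥(Y ⊔ kNorm S Y (subStab Y R)) := by
  have : Finite (normalizerIn S R) := finite_of_le ‹_› (normalizerIn_le R)
  have hlt := lt_inf_normalizer_of_lt (hS.to_le (normalizerIn_le R)) hY
  have hle : normalizerIn S R ⊓ Subgroup.normalizer (Y : Set Ω) ≤
      Y ⊔ kNorm S Y (subStab Y R) := fun g hg =>
    Subgroup.mem_sup_right ((mem_kNorm_subStab hRY).2 ⟨⟨hg.1.1, hg.2⟩, hg.1.2⟩)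
  have : Finite ↥(Y ⊔ kNorm S Y (subStab Y R)) :=
    finite_of_le ‹_› ((kNorm_sup_le hRY hY.le).trans (normalizerIn_le R))
  exact lt_of_not_ge fun h =>
    (hlt.trans_le hle).ne (eq_of_le_of_card_le le_sup_left h)

/-- A good conjugate of `Y`, seen together with `R`. -/
lemma exists_good_target [Finite S] [Fact p.Prime] (hS : IsPGroup p S) {Y R : Subgroup Ω}
    (hY : Y ≤ S) (hcl : ClassSaturated F p Y) (hRY : R ≤ Y) :
    ∃ Y'' R'' : Subgroup Ω, F.IsReceptive Y'' ∧ KGood F p Y'' (subStab Y'' R'') ∧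
      ∃ e : Y ≃* Y'', IsIso F e ∧ Carries (Y''.subtype.comp e.toMonoidHom) R R'' := by
  obtain ⟨Y'', hYY, hY''⟩ := exists_fullyNormalized F hY
  have hcl'' : ClassSaturated F p Y'' := by
    obtain ⟨Q, hQ, h₁, h₂⟩ := hcl
    exact ⟨Q, isConj_trans (isConj_symm hYY) hQ, h₁, h₂⟩
  obtain ⟨hfc, hfa⟩ := fullyNormalized_of_classSaturated hS hcl'' hY''
  obtain ⟨e, he, hgood⟩ := exists_kGood_of_fullyAutomized hS hYY hfc hfa (subStab Y R)
  refine ⟨Y'', _, receptive_of_classSaturated hS hcl'' hfc, ?_, e, he, carries_image e hRY⟩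
  rwa [← map_congr_subStab (f := e) fun x =>
    (carries_image e hRY).mem_iff (Subtype.val_injective.comp e.injective) x]

/-- Extension of an isomorphism onto a good target. -/
lemma exists_extension_to_target [Finite S] [Fact p.Prime] (hS : IsPGroup p S)
    {Y Y'' R R'' : Subgroup Ω} (hrec : F.IsReceptive Y'')
    (hgood : KGood F p Y'' (subStab Y'' R'')) {e : Y ≃* Y''} (he : IsIso F e)
    (hc : Carries (Y''.subtype.comp e.toMonoidHom) R R'') :
    ∃ f ∈ F.Hom (Y ⊔ kNorm S Y (subStab Y R)), Carries f R R'' ∧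
      ∃ e₁ : Y ≃* Y'', IsIso F e₁ ∧ (∀ x : Y, f (Subgroup.inclusion le_sup_left x) = e₁ x) ∧
        ∀ x : Y, (e₁ x : Ω) ∈ R'' ↔ (x : Ω) ∈ R := by
  have hiff : ∀ x : Y, (e x : Ω) ∈ R'' ↔ (x : Ω) ∈ R :=
    fun x => hc.mem_iff (Subtype.val_injective.comp e.injective) x
  obtain ⟨χ, hχ, f, hf, hfe⟩ := kGood_extend_of_receptive hS he (K := subStab Y R)
    (by rwa [map_congr_subStab hiff]) hrec
  rw [map_congr_subStab hiff] at hχ
  refine ⟨f, hf, ⟨hc.1.trans le_sup_left, ?_⟩, e.trans χ,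
    he.trans ((mem_autGroup F he.le_right).1 hχ.1), hfe, fun x => (hχ.2 (e x)).trans (hiff x)⟩
  ext y
  rw [mem_map_subgroupOf]
  constructor
  · rintro ⟨x, hx, rfl⟩
    have h : f x = χ (e ⟨x, hc.1 hx⟩) := hfe ⟨x, hc.1 hx⟩
    rw [h]
    exact (hχ.2 _).2 ((hiff _).2 hx)
  · intro hy
    have hY'' : y ∈ Y'' := by
      obtain ⟨x, -, hxy⟩ := hc.exists_preimage hy
      exact hxy ▸ (e x).2
    obtain ⟨x, hx⟩ := (e.trans χ).surjective ⟨y, hY''⟩
    refine ⟨Subgroup.inclusion le_sup_left x, ((hχ.2 (e x)).trans (hiff x)).1 ?_, ?_⟩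
    · rw [show χ (e x) = ⟨y, hY''⟩ from hx]
      exact hy
    · rw [hfe]
      exact congrArg Subtype.val hx

variable [Finite S] [Fact p.Prime]

/-- A map defined on `Y > R` and carrying `R` onto `P` gives a map on `N_S(R)`. -/
theorem nice_of_ext (hS : IsPGroup p S)
    (hbig : ∀ Y, Y ≤ S → Nat.card P < Nat.card Y → ClassSaturated F p Y)
    (hP : F.IsFullyNormalized P) {Y R : Subgroup Ω} {ψ : Y →* Ω} (hψ : ψ ∈ F.Hom Y)
    (hc : Carries ψ R P) (hlt : Nat.card R < Nat.card Y) (hY : Y ≤ normalizerIn S R) :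
    Nice F P R := by
  induction hd : Nat.card S - Nat.card Y using Nat.strong_induction_on generalizing Y R with
  | _ d IH =>
    have hYS := le_S F hψ
    rcases eq_or_lt_of_le hY with rfl | hYlt
    · exact ⟨ψ, hψ, hc⟩
    have : Finite S := ‹_›
    have : Finite Y := finite_of_le ‹_› hYS
    have hcard := hc.card_eq (F.injective_of_mem hψ)
    obtain ⟨Y'', R'', hrec, hgood, e, he, hec⟩ :=
      exists_good_target hS hYS (hbig Y hYS (hcard ▸ hlt)) hc.1
    obtain ⟨f, hf, hfc, -⟩ := exists_extension_to_target hS hrec hgood he hec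
    let eψ := toIso F hψ rfl
    have hψinv := carries_symm F hψ rfl hc
    have he' : IsIso F (eψ.symm.trans e) := (toIso_isIso F hψ rfl).symm.trans he
    have hec' : Carries (Y''.subtype.comp (eψ.symm.trans e).toMonoidHom) P R'' :=
      (hψinv.comp hec fun x => (eψ.symm x).2).of_congr fun _ => rfl
    obtain ⟨g, hg, hgc, -⟩ := exists_extension_to_target hS hrec hgood he' hec'
    have hY'le : ψ.range ≤ normalizerIn S P := by
      rintro _ ⟨x, rfl⟩
      exact hc.mem_normalizerIn hψ hY x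
    have hY'card : Nat.card ψ.range = Nat.card Y := (Nat.card_congr eψ.toEquiv).symm
    have hY'lt : ψ.range < normalizerIn S P := by
      refine lt_of_le_of_ne hY'le fun he => ?_
      have : Finite (normalizerIn S R) := finite_of_le ‹_› (normalizerIn_le R)
      have hn := hP.2 R (isConj_symm ⟨_, restr_mem F hc.1 hψ, hc.range_restr_eq⟩)
      rw [← he, hY'card] at hn
      exact hYlt.ne (eq_of_le_of_card_le hY hn)
    have hZ' := lt_kNorm_sup hS hc.le_range hY'lt
    have hgZ : Nat.card g.range = Nat.card ↥(ψ.range ⊔ kNorm S ψ.range (subStab ψ.range P)) :=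
      (Nat.card_congr (toIso F hg rfl).toEquiv).symm
    have hgle : g.range ≤ normalizerIn S R'' := by
      rintro _ ⟨x, rfl⟩
      exact hgc.mem_normalizerIn hg (kNorm_sup_le hc.le_range hY'lt.le) x
    have hR''card : Nat.card R'' = Nat.card P := (hgc.card_eq (F.injective_of_mem hg)).symm
    have hmeas : ∀ Z : Subgroup Ω, Z ≤ S → Nat.card Y < Nat.card Z →
        Nat.card S - Nat.card Z < d := fun Z hZ h => by
      have := Subgroup.card_le_of_le (H := Z) (K := S) hZ
      omega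
    obtain ⟨α, hα, hαc⟩ : Nice F P R'' :=
      IH _ (hmeas g.range (range_le_S F hg) (by rw [hgZ, ← hY'card]; exact hZ'))
        (toIso_isIso F hg rfl).symm
        (carries_symm F hg rfl hgc) (by rw [hgZ, hR''card, ← hcard]; omega) hgle rfl
    have hfv : ∀ x, f x ∈ normalizerIn S R'' :=
      fun x => hfc.mem_normalizerIn hf (kNorm_sup_le hc.1 hYlt.le) x
    have hZ := lt_kNorm_sup hS hc.1 hYlt
    exact IH _ (hmeas _ (le_S F hf) hZ) (F.comp_mem hf hα hfv) (hfc.comp hαc hfv)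
      (hlt.trans hZ) (kNorm_sup_le hc.1 hYlt.le) rfl

/-- Conjugacy through a map defined on a larger subgroup respects `Nice`. -/
theorem nice_of_step (hS : IsPGroup p S)
    (hbig : ∀ Y, Y ≤ S → Nat.card P < Nat.card Y → ClassSaturated F p Y)
    (hP : F.IsFullyNormalized P) {Q R R' : Subgroup Ω} {θ : Q →* Ω} (hθ : θ ∈ F.Hom Q)
    (hc : Carries θ R R') (hlt : R < Q) (h : Nice F P R') : Nice F P R := by
  obtain ⟨α, hα, hαc⟩ := h
  have hQ := le_S F hθ
  have : Finite Q := finite_of_le ‹_› hQ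
  have hY := lt_inf_normalizer_of_lt (hS.to_le hQ) hlt
  have hle : Q ⊓ Subgroup.normalizer (R : Set Ω) ≤ normalizerIn S R :=
    inf_le_inf_right _ hQ
  have hres := hc.restrict hY.le inf_le_left
  have hv : ∀ x, restr inf_le_left θ x ∈ normalizerIn S R' :=
    fun x => hres.mem_normalizerIn (restr_mem F _ hθ) hle x
  refine nice_of_ext hS hbig hP (F.comp_mem (restr_mem F _ hθ) hα hv) (hres.comp hαc hv) ?_ hle
  have : Finite ↥(Q ⊓ Subgroup.normalizer (R : Set Ω)) := finite_of_le ‹_› (inf_le_left.trans hQ)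
  exact lt_of_not_ge fun h' => hY.ne (eq_of_le_of_card_le hY.le h')

/-- Every conjugate of `P` has a map on its normalizer carrying it onto `P`. -/
theorem nice_all (hS : IsPGroup p S)
    (hbig : ∀ Y, Y ≤ S → Nat.card P < Nat.card Y → ClassSaturated F p Y)
    (hP : F.IsFullyNormalized P) (hPS : P < S) {ℋ : Set (Subgroup Ω)}
    (hℋconj : ∀ P ∈ ℋ, ∀ Q, F.IsConj P Q → Q ∈ ℋ) (hPℋ : P ∉ ℋ)
    (hgen : ∀ E : FusionSystem S, (∀ P ∈ ℋ, F.Hom P ⊆ E.Hom P) → F ≤ E)
    {R : Subgroup Ω} (hR : F.IsConj R P) : Nice F P R := by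
  let E : FusionSystem S :=
    { Hom := fun R => {φ | φ ∈ F.Hom R ∧ (F.IsConj R P → (Nice F P R ↔ Nice F P φ.range))}
      le_of_mem := fun h => F.le_of_mem h.1
      injective_of_mem := fun h => F.injective_of_mem h.1
      conj_mem := fun {R g} hR hg => by
        refine ⟨F.conj_mem hR hg, fun hRP => ?_⟩
        have hc : Carries (conjHom S g) R (conjHom R g).range :=
          ⟨hR, map_subgroupOf_eq_range R hR fun _ => rfl⟩
        have hmem := F.conj_mem (P := S) (g := g) le_rfl hg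
        have hRlt : R < S := lt_of_le_of_ne hR fun e => hPS.ne
          (eq_of_le_of_card_le hPS.le (by rw [← isConj_card_eq hRP, e]))
        have : Finite S := ‹_›
        have hr : (conjHom S g).range = S := range_eq_of_image_le (F.injective_of_mem hmem)
          (range_le_S F hmem) le_rfl
        refine ⟨fun h => nice_of_step hS hbig hP (toIso_isIso F hmem hr).symm
          (carries_symm F hmem hr hc) ?_ h, fun h => nice_of_step hS hbig hP hmem hc hRlt h⟩
        refine lt_of_le_of_ne (range_le_S F (F.conj_mem hR hg)) fun e => hRlt.ne ?_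
        refine eq_of_le_of_card_le hR ?_
        rw [hc.card_eq (F.injective_of_mem hmem), e]
      comp_mem := by
        intro R Q φ ψ hφ hψ h
        refine ⟨F.comp_mem hφ.1 hψ.1 h, fun hRP => ?_⟩
        have hR'P : F.IsConj φ.range P := isConj_trans (isConj_symm ⟨φ, hφ.1, rfl⟩) hRP
        have hQ : φ.range ≤ Q := by
          rintro _ ⟨x, rfl⟩
          exact h x
        have hr : (restr hQ ψ).range = (ψ.comp (φ.codRestrict Q h)).range := by
          ext y
          constructor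
          · rintro ⟨⟨_, x, rfl⟩, rfl⟩
            exact ⟨x, rfl⟩
          · rintro ⟨x, rfl⟩
            exact ⟨⟨_, x, rfl⟩, rfl⟩
        have hc : Carries ψ φ.range (ψ.comp (φ.codRestrict Q h)).range :=
          ⟨hQ, by rw [← range_restr hQ, hr]⟩
        refine (hφ.2 hRP).trans ?_
        rcases eq_or_lt_of_le hQ with rfl | hlt
        · exact (hψ.2 hR'P).trans (by rw [← hr]; rfl)
        · have : Finite Q := finite_of_le ‹_› (le_S F hψ.1)
          refine ⟨fun hn => nice_of_step hS hbig hP (toIso_isIso F hψ.1 rfl).symm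
            (carries_symm F hψ.1 rfl hc) ?_ hn, nice_of_step hS hbig hP hψ.1 hc hlt⟩
          refine lt_of_le_of_ne hc.le_range fun e => hlt.ne (eq_of_le_of_card_le hQ ?_)
          rw [hc.card_eq (F.injective_of_mem hψ.1), e]
          exact (Nat.card_congr (toIso F hψ.1 rfl).toEquiv).le
      inv_mem := by
        intro R φ hφ
        obtain ⟨ψ, hψ, he⟩ := F.inv_mem hφ.1
        refine ⟨ψ, ⟨hψ, fun hRP => ?_⟩, he⟩
        have hr : ψ.range = R := by
          ext y
          constructor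
          · rintro ⟨⟨_, x, rfl⟩, rfl⟩
            rw [he]
            exact x.2
          · intro hy
            exact ⟨_, he ⟨y, hy⟩⟩
        rw [hr]
        exact (hφ.2 (isConj_trans ⟨φ, hφ.1, rfl⟩ hRP)).symm }
  obtain ⟨φ, hφ, hr⟩ := hR
  have hφE : φ ∈ E.Hom R := by
    refine hgen E (fun Q hQ ψ hψ => ?_) R hφ
    exact ⟨hψ, fun hQP => absurd (hℋconj Q hQ P hQP) hPℋ⟩
  exact (hφE.2 ⟨φ, hφ, hr⟩).2 (by rw [hr]; exact nice_self hP.1)

/-! ### Automorphisms of `P` extending to `X` -/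

/-- The preimage of `Aut_S(P) ∩ O_p(Aut_F(P))` in `N_S(P)`. -/
abbrev coreX (F : FusionSystem S) (p : ℕ) (P : Subgroup Ω) : Subgroup Ω :=
  kNorm S P (autCore F p P)

lemma le_coreX (hS : IsPGroup p S) (hP : P ≤ S) : P ≤ coreX F p P := fun g hg =>
  ⟨hP hg, MulAut.conj (⟨g, hg⟩ : P), inn_le_autCore hS F hP ⟨⟨g, hg⟩, rfl⟩, fun _ => rfl⟩

lemma coreX_normalized {n : Ω} (hP : P ≤ S) (hn : n ∈ normalizerIn S P) :
    n ∈ Subgroup.normalizer (coreX F p P : Set Ω) := by
  have key : ∀ m ∈ normalizerIn S P, ∀ x ∈ coreX F p P, m * x * m⁻¹ ∈ coreX F p P := by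
    rintro m hm x ⟨hxS, β, hβ, hβe⟩
    have hc : P.normalizerMonoidHom ⟨m, hm.2⟩ ∈ F.autGroup P :=
      autInducedBy_le_autGroup F hP (mem_autInducedBy.2 ⟨m, hm.1, fun _ => rfl⟩)
    refine ⟨S.mul_mem (S.mul_mem hm.1 hxS) (S.inv_mem hm.1), _, conj_mem_autCore F hc hβ,
      fun y => ?_⟩
    obtain ⟨z, rfl⟩ := (P.normalizerMonoidHom ⟨m, hm.2⟩).surjective y
    show ((P.normalizerMonoidHom ⟨m, hm.2⟩ (β ((P.normalizerMonoidHom ⟨m, hm.2⟩)⁻¹
      (P.normalizerMonoidHom ⟨m, hm.2⟩ z))) : P) : Ω) = _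
    rw [show (P.normalizerMonoidHom ⟨m, hm.2⟩)⁻¹ (P.normalizerMonoidHom ⟨m, hm.2⟩ z) = z from
      (P.normalizerMonoidHom ⟨m, hm.2⟩).symm_apply_apply z, normalizerMonoidHom_coe, hβe]
    simp [mul_assoc]
  refine Subgroup.mem_normalizer_iff.2 fun x => ⟨key n hn x, fun hx => ?_⟩
  have := key n⁻¹ (inv_mem hn) _ hx
  simpa [mul_assoc] using this

/-- The automorphisms of `P` extending to automorphisms of `X` in the system. -/
noncomputable def extAut (F : FusionSystem S) {P X : Subgroup Ω} (hPX : P ≤ X) :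
    Subgroup (MulAut P) :=
  ((F.autGroup X ⊓ subStab X P).subgroupOf (subStab X P)).map (restrStab hPX)

lemma mem_extAut {X : Subgroup Ω} {hPX : P ≤ X} {α : MulAut P} :
    α ∈ extAut F hPX ↔ ∃ θ ∈ F.autGroup X ⊓ subStab X P,
      ∀ x : P, (α x : Ω) = θ (Subgroup.inclusion hPX x) := by
  constructor
  · rintro ⟨θ, hθ, rfl⟩
    exact ⟨θ, hθ, fun x => rfl⟩
  · rintro ⟨θ, hθ, he⟩
    exact ⟨⟨θ, hθ.2⟩, hθ, MulEquiv.ext fun x => Subtype.ext (he x).symm⟩

lemma extAut_of_hom (hS : IsPGroup p S) (hP : P ≤ S) {Y : Subgroup Ω} {ψ : Y →* Ω}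
    (hψ : ψ ∈ F.Hom Y) (hXY : coreX F p P ≤ Y) (hc : Carries ψ P P) {α : MulAut P}
    (hα : ∀ x : P, (α x : Ω) = ψ (Subgroup.inclusion hc.1 x)) :
    α ∈ extAut F (le_coreX (F := F) hS hP) := by
  have hαF : α ∈ F.autGroup P :=
    (mem_autGroup_iff_hom F hP).2 (mem_of_restricts F hc.1 hψ hα)
  have hXS : coreX F p P ≤ S := kNorm_le _ _
  have : Finite (coreX F p P) := finite_of_le ‹_› hXS
  have hr : (restr hXY ψ).range = coreX F p P := by
    refine range_eq_of_image_le (F.injective_of_mem (restr_mem F hXY hψ)) ?_ le_rfl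
    rintro _ ⟨⟨x, hxS, β, hβ, hβe⟩, rfl⟩
    refine ⟨map_mem_S F hψ _, _, conj_mem_autCore F hαF hβ, fun y => ?_⟩
    obtain ⟨z, rfl⟩ := α.surjective y
    show ((α (β (α⁻¹ (α z))) : P) : Ω) = _
    rw [show α⁻¹ (α z) = z from α.symm_apply_apply z, hα, hα, restr_apply, ← map_inv, ← map_mul,
      ← map_mul]
    exact congrArg ψ (Subtype.ext (hβe z))
  refine mem_extAut.2 ⟨toIso F (restr_mem F hXY hψ) hr,
    ⟨toIso_mem_autGroup F _ _, fun x => ?_⟩, fun x => hα x⟩
  exact hc.mem_iff (F.injective_of_mem hψ) (Subgroup.inclusion hXY x)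

lemma conj_mem_extAut (hS : IsPGroup p S) (hP : P ≤ S) {n : Ω} (hn : n ∈ normalizerIn S P)
    {α : MulAut P} (hα : ∀ x : P, (α x : Ω) = n * x * n⁻¹) :
    α ∈ extAut F (le_coreX (F := F) hS hP) :=
  extAut_of_hom hS hP (F.conj_mem (kNorm_le P (autCore F p P)) hn.1) le_rfl
    (carries_conjHom (le_coreX hS hP) hn.2) hα

/-- Every automorphism of `P` that extends to a larger subgroup of `N_S(P)` extends to `X`. -/
theorem extAut_of_ext (hS : IsPGroup p S)
    (hbig : ∀ Y, Y ≤ S → Nat.card P < Nat.card Y → ClassSaturated F p Y)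
    (hP : F.IsFullyNormalized P) (hnice : ∀ R, F.IsConj R P → Nice F P R) {Y : Subgroup Ω}
    {ψ : Y →* Ω} (hψ : ψ ∈ F.Hom Y) (hc : Carries ψ P P) (hlt : Nat.card P < Nat.card Y)
    (hY : Y ≤ normalizerIn S P) {α : MulAut P}
    (hα : ∀ x : P, (α x : Ω) = ψ (Subgroup.inclusion hc.1 x)) :
    α ∈ extAut F (le_coreX (F := F) hS hP.1) := by
  induction hd : Nat.card S - Nat.card Y using Nat.strong_induction_on generalizing Y α with
  | _ d IH =>
    by_cases hXY : coreX F p P ≤ Y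
    · exact extAut_of_hom hS hP.1 hψ hXY hc hα
    have hYS := le_S F hψ
    have : Finite S := ‹_›
    have : Finite P := finite_of_le ‹_› hP.1
    have hXN : coreX F p P ≤ normalizerIn S P := kNorm_le_normalizerIn _ _
    have hYlt : Y < normalizerIn S P := lt_of_le_of_ne hY fun e => hXY (e ▸ hXN)
    have : Finite Y := finite_of_le ‹_› hYS
    obtain ⟨Y'', R'', hrec, hgood, e, he, hec⟩ :=
      exists_good_target hS hYS (hbig Y hYS hlt) hc.1
    obtain ⟨f, hf, hfc, e₁, he₁, hfe₁, he₁iff⟩ := exists_extension_to_target hS hrec hgood he hec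
    let eψ := toIso F hψ rfl
    have hψinv := carries_symm F hψ rfl hc
    have he' : IsIso F (eψ.symm.trans e) := (toIso_isIso F hψ rfl).symm.trans he
    have hec' : Carries (Y''.subtype.comp (eψ.symm.trans e).toMonoidHom) P R'' :=
      (hψinv.comp hec fun x => (eψ.symm x).2).of_congr fun _ => rfl
    obtain ⟨g, hg, hgc, e₂, he₂, hge₂, he₂iff⟩ := exists_extension_to_target hS hrec hgood he' hec'
    have hY'le : ψ.range ≤ normalizerIn S P := by
      rintro _ ⟨x, rfl⟩
      exact hc.mem_normalizerIn hψ hY x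
    have hY'card : Nat.card ψ.range = Nat.card Y := (Nat.card_congr eψ.toEquiv).symm
    have hY'lt : ψ.range < normalizerIn S P := lt_of_le_of_ne hY'le fun he => by
      have : Finite (normalizerIn S P) := finite_of_le ‹_› (normalizerIn_le P)
      refine hYlt.ne (eq_of_le_of_card_le hY ?_)
      rw [← he, hY'card]
    -- back to `P`
    have hR''P : F.IsConj R'' P := isConj_symm ⟨_, restr_mem F hfc.1 hf, hfc.range_restr_eq⟩
    obtain ⟨a, ha, hac⟩ := hnice R'' hR''P
    have hfv : ∀ x, f x ∈ normalizerIn S R'' :=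
      fun x => hfc.mem_normalizerIn hf (kNorm_sup_le hc.1 hY) x
    have hgv : ∀ x, g x ∈ normalizerIn S R'' :=
      fun x => hgc.mem_normalizerIn hg (kNorm_sup_le hc.le_range hY'le) x
    have hcf := hfc.comp hac hfv
    have hcg := hgc.comp hac hgv
    obtain ⟨γ₁, hγ₁, hγ₁e⟩ := exists_aut_of_carries F (F.comp_mem hf ha hfv) hcf
    obtain ⟨γ₂, hγ₂, hγ₂e⟩ := exists_aut_of_carries F (F.comp_mem hg ha hgv) hcg
    have hZ := lt_kNorm_sup hS hc.1 hYlt
    have hZ' := lt_kNorm_sup hS hc.le_range hY'lt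
    have hmeas : ∀ Z : Subgroup Ω, Z ≤ S → Nat.card Y < Nat.card Z →
        Nat.card S - Nat.card Z < d := fun Z hZ h => by
      have := Subgroup.card_le_of_le (H := Z) (K := S) hZ
      omega
    have hγ₁X := IH _ (hmeas _ (le_S F hf) hZ) (F.comp_mem hf ha hfv) hcf (hlt.trans hZ)
      (kNorm_sup_le hc.1 hY) hγ₁e rfl
    have hγ₂X := IH _ (hmeas _ (le_S F hg) (hY'card ▸ hZ')) (F.comp_mem hg ha hgv) hcg
      ((hY'card.symm ▸ hlt).trans hZ') (kNorm_sup_le hc.le_range hY'le) hγ₂e rfl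
    -- the middle automorphism
    have hR''Y : R'' ≤ Y'' := fun y hy => by
      obtain ⟨x, -, rfl⟩ := hec.exists_preimage hy
      exact (e x).2
    let ea : R'' ≃* P := toIso F (restr_mem F hac.1 ha) hac.range_restr_eq
    have hea : IsIso F ea := toIso_isIso F _ _
    set K'' := subStab Y'' R'' with hK''
    set H := F.autGroup Y'' ⊓ K'' with hH
    obtain ⟨π, hπF, hπe⟩ : ∃ π : H →* MulAut P, (∀ δ : H, π δ ∈ F.autGroup P) ∧
        ∀ (δ : H) (y : R''), (π δ (ea y) : Ω) =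
          ea ⟨(δ : MulAut Y'') (Subgroup.inclusion hR''Y y), (δ.2.2 _).2 y.2⟩ := by
      refine ⟨(MulAut.congr ea).toMonoidHom.comp
        ((restrStab hR''Y).comp (Subgroup.inclusion (inf_le_right : H ≤ K''))), fun δ =>
          autCongr_mem F hea (restrStab_mem_autGroup F hR''Y hgood.1.1 δ.2.1), fun δ y => ?_⟩
      show ((ea (restrStab hR''Y _ (ea.symm (ea y))) : P) : Ω) = _
      rw [ea.symm_apply_apply]
      exact congrArg (fun z : R'' => (ea z : Ω)) (Subtype.ext (restrStab_coe hR''Y _ y))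
    have hδ₀ : (e₁.symm.trans eψ).trans e₂ ∈ H := by
      refine ⟨(mem_autGroup F hgood.1.1).2 ((he₁.symm.trans (toIso_isIso F hψ rfl)).trans he₂),
        fun y => ?_⟩
      obtain ⟨x, rfl⟩ := e₁.surjective y
      show (e₂ (eψ (e₁.symm (e₁ x))) : Ω) ∈ R'' ↔ _
      rw [e₁.symm_apply_apply, he₂iff, he₁iff, toIso_coe]
      exact hc.mem_iff (F.injective_of_mem hψ) x
    let δ₀ : H := ⟨_, hδ₀⟩
    -- `α = γ₂⁻¹ π(δ₀) γ₁`
    have hαeq : α = γ₂⁻¹ * π δ₀ * γ₁ := by
      rw [mul_assoc, eq_inv_mul_iff_mul_eq]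
      refine MulEquiv.ext fun x => Subtype.ext ?_
      rw [MulAut.mul_apply, MulAut.mul_apply, hγ₂e]
      have hy : (e₁ ⟨x, hc.1 x.2⟩ : Ω) ∈ R'' := (he₁iff _).2 x.2
      have hγx : γ₁ x = ea ⟨_, hy⟩ := by
        refine Subtype.ext ((hγ₁e x).trans ?_)
        exact congrArg a (Subtype.ext (hfe₁ ⟨x, hc.1 x.2⟩))
      rw [hγx, hπe]
      refine congrArg a (Subtype.ext ?_)
      have e3 : Subgroup.inclusion hcg.1 (α x) =
          Subgroup.inclusion (le_sup_left : ψ.range ≤ ψ.range ⊔ _) (eψ ⟨x, hc.1 x.2⟩) :=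
        Subtype.ext (hα x)
      show g (Subgroup.inclusion hcg.1 (α x)) = (e₂ (eψ (e₁.symm (e₁ ⟨x, hc.1 x.2⟩))) : Ω)
      rw [e₁.symm_apply_apply, e3, hge₂]
    rw [hαeq]
    refine mul_mem (mul_mem (inv_mem hγ₂X) ?_) hγ₁X
    -- `π(δ₀)` extends to `X`
    set T := autInducedBy S Y'' ⊓ K'' with hT
    set D := ((autCore F p P).comap π).map H.subtype with hD
    have hDH : D ≤ H := Subgroup.map_subtype_le _
    have hDnorm : ∀ h ∈ H, ∀ d ∈ D, h * d * h⁻¹ ∈ D := by
      rintro h hh _ ⟨d, hd, rfl⟩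
      refine ⟨⟨h, hh⟩ * d * ⟨h, hh⟩⁻¹, ?_, rfl⟩
      show π (⟨h, hh⟩ * d * ⟨h, hh⟩⁻¹) ∈ autCore F p P
      rw [map_mul, map_mul, map_inv]
      exact conj_mem_autCore F (hπF _) hd
    have : Finite Y'' := finite_of_le ‹_› hgood.1.1
    have hTD : SylIn p (T ⊓ D) D := hgood.2.inf_normal hDH hDnorm
    obtain ⟨d, hd, hdn⟩ := hTD.frattini (a := (δ₀ : MulAut Y'')) fun k hk => hDnorm _ δ₀.2 k hk
    let δ₁ : H := ⟨d, hDH hd⟩ * δ₀
    have hπd : π ⟨d, hDH hd⟩ ∈ extAut F (le_coreX (F := F) hS hP.1) := by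
      obtain ⟨T₀, hT₀⟩ := hTD.2
      let πD : D →* MulAut P := π.comp (Subgroup.inclusion hDH)
      have himg : IsPGroup p πD.range := by
        refine (autCore_isPGroup F P).to_le ?_
        rintro _ ⟨⟨z, hz⟩, rfl⟩
        obtain ⟨z', hz', rfl⟩ := hz
        exact hz'
      have htop : (T₀.mapSurjective (f := πD.rangeRestrict)
          πD.rangeRestrict_surjective : Subgroup πD.range) = ⊤ :=
        (Sylow.is_maximal' _ (himg.to_subgroup ⊤) le_top).symm
      rw [Sylow.coe_mapSurjective] at htop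
      obtain ⟨t, ht, hte⟩ := htop.ge (Subgroup.mem_top (πD.rangeRestrict ⟨d, hd⟩))
      have hte' : π ⟨t, hDH t.2⟩ = π ⟨d, hDH hd⟩ := congrArg Subtype.val hte
      rw [← hte']
      have htT : (t : MulAut Y'') ∈ T ⊓ D := hT₀.le ht
      obtain ⟨y, hyS, hye⟩ := mem_autInducedBy.1 htT.1.1
      have hyR : y ∈ normalizerIn S R'' :=
        ⟨hyS, ((mem_kNorm_subStab hR''Y).1 ⟨hyS, _, htT.1.2, hye⟩).2⟩
      refine conj_mem_extAut hS hP.1 (hac.mem_normalizerIn ha le_rfl ⟨y, hyR⟩) fun x => ?_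
      obtain ⟨z, rfl⟩ := ea.surjective x
      rw [hπe, toIso_coe, toIso_coe, restr_apply, restr_apply, ← map_inv, ← map_mul, ← map_mul]
      exact congrArg a (Subtype.ext (hye _))
    suffices hπ1 : π δ₁ ∈ extAut F (le_coreX (F := F) hS hP.1) by
      have e : π δ₀ = (π ⟨d, hDH hd⟩)⁻¹ * π δ₁ := by
        simp only [δ₁, map_mul]
        simp
      rw [e]
      exact mul_mem (inv_mem hπd) hπ1
    -- an element of `X` normalizing `Y`, outside it
    have hYX : Y < Y ⊔ coreX F p P :=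
      lt_of_le_of_ne le_sup_left fun e => hXY (le_sup_right.trans e.ge)
    have : Finite ↥(Y ⊔ coreX F p P) := finite_of_le ‹_› (sup_le hYS (kNorm_le _ _))
    obtain ⟨w, ⟨hwYX, hwN⟩, hwY⟩ := SetLike.exists_of_lt
      (lt_inf_normalizer_of_lt (hS.to_le (sup_le hYS (kNorm_le _ _))) hYX)
    have hwprod : w ∈ ((Y : Set Ω) * (coreX F p P : Set Ω) : Set Ω) := by
      rw [← Subgroup.coe_mul_of_left_le_normalizer_right _ _
        (fun y hy => coreX_normalized hP.1 (hY hy))]
      exact hwYX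
    obtain ⟨y₀, hy₀, x, hx, rfl⟩ := hwprod
    have hxN : x ∈ Subgroup.normalizer (Y : Set Ω) := by
      simpa using mul_mem (inv_mem (Subgroup.le_normalizer hy₀)) hwN
    have hxY : x ∉ Y := fun h => hwY (Y.mul_mem hy₀ h)
    have hxk : x ∈ kNorm S Y (subStab Y P) :=
      (mem_kNorm_subStab hc.1).2 ⟨⟨hx.1, hxN⟩, (hXN hx).2⟩
    let x' : ↥(Y ⊔ kNorm S Y (subStab Y P)) := ⟨x, Subgroup.mem_sup_right hxk⟩
    set fx := f x' with hfx
    have hfxk : fx ∈ kNorm S Y'' K'' := by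
      have h := map_mem_kNorm F hf le_sup_left e₁ hfe₁ x' hxk
      rwa [map_congr_subStab he₁iff] at h
    have hfxY : fx ∉ Y'' := by
      intro h
      obtain ⟨z, hz⟩ := e₁.surjective ⟨fx, h⟩
      have e4 : Subgroup.inclusion le_sup_left z = x' :=
        F.injective_of_mem hf ((hfe₁ z).trans (congrArg Subtype.val hz))
      have e5 : (z : Ω) = x := congrArg Subtype.val e4
      exact hxY (e5 ▸ z.2)
    obtain ⟨hfxS, c, hcK, hce⟩ := hfxk
    have hcT : c ∈ T := ⟨mem_autInducedBy.2 ⟨fx, hfxS, hce⟩, hcK⟩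
    have hcH : c ∈ H := ⟨autInducedBy_le_autGroup F hgood.1.1 hcT.1, hcK⟩
    have hcD : c ∈ D := by
      obtain ⟨hxS, β, hβ, hβe⟩ := hx
      refine ⟨⟨c, hcH⟩, ?_, rfl⟩
      show π ⟨c, hcH⟩ ∈ autCore F p P
      have e5 : π ⟨c, hcH⟩ = γ₁ * β * γ₁⁻¹ := by
        refine MulEquiv.ext fun u => Subtype.ext ?_
        obtain ⟨z, rfl⟩ := γ₁.surjective u
        have hy : (e₁ ⟨z, hc.1 z.2⟩ : Ω) ∈ R'' := (he₁iff _).2 z.2
        have hγz : γ₁ z = ea ⟨_, hy⟩ :=
          Subtype.ext ((hγ₁e z).trans (congrArg a (Subtype.ext (hfe₁ ⟨z, hc.1 z.2⟩))))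
        rw [MulAut.mul_apply, MulAut.mul_apply, show γ₁⁻¹ (γ₁ z) = z from γ₁.symm_apply_apply z,
          hγ₁e, hγz, hπe]
        refine congrArg a (Subtype.ext ?_)
        show (c (e₁ ⟨z, hc.1 z.2⟩) : Ω) = f (Subgroup.inclusion hcf.1 (β z))
        rw [hce, ← hfe₁, hfx, ← map_inv, ← map_mul, ← map_mul]
        exact congrArg f (Subtype.ext (hβe z).symm)
      rw [e5]
      exact conj_mem_autCore F hγ₁ hβ
    -- extend `δ₁`
    obtain ⟨θ, hθ, hθe, -⟩ := receptive_extend hrec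
      (φ := Y''.subtype.comp ((δ₁ : MulAut Y'') : Y'' ≃* Y'').toMonoidHom)
      (autGroup_mem_hom F hgood.1.1 δ₁.2.1) (range_subtype_comp _)
    have hY2 : Y'' ⊔ Subgroup.zpowers fx ≤
        extender S Y'' (Y''.subtype.comp ((δ₁ : MulAut Y'') : Y'' ≃* Y'').toMonoidHom) := by
      refine sup_le (le_extender hgood.1.1 fun y => hgood.1.1 ((δ₁ : MulAut Y'') y).2)
        (Subgroup.zpowers_le.2 (mem_extender.2 ⟨hfxS, mem_normalizer_of_conj_eq c hce, ?_⟩))
      obtain ⟨k, hk, hke⟩ := mem_autInducedBy.1 (hdn c ⟨hcT, hcD⟩).1.1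
      refine ⟨k, hk, fun y hy => ?_⟩
      have h := hke ((δ₁ : MulAut Y'') y)
      rw [show (⟨fx * y * fx⁻¹, hy⟩ : Y'') = c y from Subtype.ext (hce y).symm]
      simpa [δ₁, MulAut.mul_apply] using h
    have hY2N : Y'' ⊔ Subgroup.zpowers fx ≤ normalizerIn S R'' := by
      refine sup_le (fun y hy => ?_)
        (Subgroup.zpowers_le.2 (hfv x'))
      obtain ⟨u, hu⟩ := e₁.surjective ⟨y, hy⟩
      have : f (Subgroup.inclusion le_sup_left u) = y := (hfe₁ u).trans (congrArg Subtype.val hu)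
      exact this ▸ hfv _
    have hθ2 : restr hY2 θ ∈ F.Hom (Y'' ⊔ Subgroup.zpowers fx) := restr_mem F hY2 hθ
    have hθ2c : Carries (restr hY2 θ) R'' R'' := by
      refine ⟨hR''Y.trans le_sup_left, ?_⟩
      ext y
      rw [mem_map_subgroupOf]
      constructor
      · rintro ⟨u, hu, rfl⟩
        have h : θ (Subgroup.inclusion hY2 u) = (δ₁ : MulAut Y'') ⟨u, hR''Y hu⟩ :=
          hθe ⟨u, hR''Y hu⟩
        rw [restr_apply, h]
        exact (δ₁.2.2 _).2 hu
      · intro hy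
        obtain ⟨u, hu⟩ := (δ₁ : MulAut Y'').surjective ⟨y, hR''Y hy⟩
        refine ⟨Subgroup.inclusion le_sup_left u, (δ₁.2.2 u).1 (by rw [hu]; exact hy), ?_⟩
        exact (hθe u).trans (congrArg Subtype.val hu)
    -- transport along `a`
    have ha2c := hac.restrict (hR''Y.trans le_sup_left) hY2N
    have ha2 := restr_mem F hY2N ha
    let ia := toIso F ha2 rfl
    have hia : Carries ((Y'' ⊔ Subgroup.zpowers fx).subtype.comp ia.symm.toMonoidHom) P R'' :=
      carries_symm F ha2 rfl ha2c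
    have hiam := (toIso_isIso F ha2 rfl).symm
    have hθv : ∀ u, restr hY2 θ u ∈ normalizerIn S R'' :=
      fun u => hθ2c.mem_normalizerIn hθ2 hY2N u
    have h1 := F.comp_mem hiam hθ2 fun u => (ia.symm u).2
    have h1c := hia.comp hθ2c fun u => (ia.symm u).2
    have h1v : ∀ u, ((restr hY2 θ).comp ((((Y'' ⊔ Subgroup.zpowers fx).subtype.comp
        ia.symm.toMonoidHom)).codRestrict _ fun u => (ia.symm u).2)) u ∈ normalizerIn S R'' :=
      fun u => hθv _
    have hY3 : (restr hY2N a).range ≤ normalizerIn S P := by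
      rintro _ ⟨u, rfl⟩
      exact hac.mem_normalizerIn ha le_rfl _
    have hY3card : Nat.card Y < Nat.card (restr hY2N a).range := by
      rw [← Nat.card_congr ia.toEquiv, Nat.card_congr e₁.toEquiv]
      have : Finite ↥(Y'' ⊔ Subgroup.zpowers fx) :=
        finite_of_le ‹_› (hY2N.trans (normalizerIn_le _))
      exact lt_of_not_ge fun h => hfxY ((eq_of_le_of_card_le le_sup_left h).ge
        (Subgroup.mem_sup_right (Subgroup.mem_zpowers fx)))
    refine IH _ (hmeas _ (hY3.trans (normalizerIn_le P)) hY3card) (F.comp_mem h1 ha h1v)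
      (h1c.comp hac h1v) (hlt.trans hY3card) hY3 (fun u => ?_) rfl
    obtain ⟨z, rfl⟩ := ea.surjective u
    rw [hπe]
    refine congrArg a (Subtype.ext ?_)
    have e6 : ia.symm (Subgroup.inclusion (h1c.comp hac h1v).1 (ea z)) =
        Subgroup.inclusion (hR''Y.trans le_sup_left) z := by
      rw [MulEquiv.symm_apply_eq]
      exact Subtype.ext rfl
    show ((δ₁ : MulAut Y'') (Subgroup.inclusion hR''Y z) : Ω) = restr hY2 θ (ia.symm _)
    rw [e6]
    exact (hθe (Subgroup.inclusion hR''Y z)).symm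

/-- A map defined on a larger subgroup, read through nice maps, extends to `X`. -/
theorem extAut_of_step (hS : IsPGroup p S)
    (hbig : ∀ Y, Y ≤ S → Nat.card P < Nat.card Y → ClassSaturated F p Y)
    (hP : F.IsFullyNormalized P) (hnice : ∀ R, F.IsConj R P → Nice F P R) {Q R R' : Subgroup Ω}
    {θ : Q →* Ω} (hθ : θ ∈ F.Hom Q) (hc : Carries θ R R') (hlt : R < Q)
    {a : normalizerIn S R →* Ω} (ha : a ∈ F.Hom (normalizerIn S R)) (hac : Carries a R P)
    {a' : normalizerIn S R' →* Ω} (ha' : a' ∈ F.Hom (normalizerIn S R'))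
    (ha'c : Carries a' R' P) {α : MulAut P}
    (hα : ∀ (x : R) (hx : a (Subgroup.inclusion hac.1 x) ∈ P),
      (α ⟨_, hx⟩ : Ω) = a' ⟨θ (Subgroup.inclusion hc.1 x), ha'c.1 (hc.apply_mem x.2)⟩) :
    α ∈ extAut F (le_coreX (F := F) hS hP.1) := by
  have hQ := le_S F hθ
  have : Finite Q := finite_of_le ‹_› hQ
  have hY := lt_inf_normalizer_of_lt (hS.to_le hQ) hlt
  have hle : Q ⊓ Subgroup.normalizer (R : Set Ω) ≤ normalizerIn S R := inf_le_inf_right _ hQ
  have h0c := hac.restrict hY.le hle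
  have h0 := restr_mem F hle ha
  let i := toIso F h0 rfl
  have hic := carries_symm F h0 rfl h0c
  have hi := (toIso_isIso F h0 rfl).symm
  have h1c := hc.restrict hY.le (inf_le_left : Q ⊓ Subgroup.normalizer (R : Set Ω) ≤ Q)
  have h1 := restr_mem F (inf_le_left : Q ⊓ Subgroup.normalizer (R : Set Ω) ≤ Q) hθ
  have h2 := F.comp_mem hi h1 fun u => (i.symm u).2
  have h2c := hic.comp h1c fun u => (i.symm u).2
  have h2v : ∀ u, ((restr inf_le_left θ).comp
      (((Q ⊓ Subgroup.normalizer (R : Set Ω)).subtype.comp i.symm.toMonoidHom).codRestrict _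
        fun u => (i.symm u).2)) u ∈ normalizerIn S R' :=
    fun u => h1c.mem_normalizerIn h1 hle _
  have hY3 : (restr hle a).range ≤ normalizerIn S P := by
    rintro _ ⟨u, rfl⟩
    exact hac.mem_normalizerIn ha le_rfl _
  refine extAut_of_ext hS hbig hP hnice (F.comp_mem h2 ha' h2v) (h2c.comp ha'c h2v) ?_ hY3
    fun u => ?_
  · rw [← Nat.card_congr i.toEquiv, ← hac.card_eq (F.injective_of_mem ha)]
    have : Finite ↥(Q ⊓ Subgroup.normalizer (R : Set Ω)) :=
      finite_of_le ‹_› (inf_le_left.trans hQ)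
    exact lt_of_not_ge fun h' => hY.ne (eq_of_le_of_card_le hY.le h')
  · obtain ⟨⟨x, hxN⟩, hxR, hxu⟩ := hac.exists_preimage u.2
    have hu : u = ⟨a (Subgroup.inclusion hac.1 ⟨x, hxR⟩), hac.apply_mem hxR⟩ :=
      Subtype.ext hxu.symm
    subst hu
    rw [hα ⟨x, hxR⟩ _]
    refine congrArg a' (Subtype.ext ?_)
    have e6 : i.symm (Subgroup.inclusion (h2c.comp ha'c h2v).1
        ⟨a (Subgroup.inclusion hac.1 ⟨x, hxR⟩), hac.apply_mem hxR⟩) =
        Subgroup.inclusion hY.le ⟨x, hxR⟩ := by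
      rw [MulEquiv.symm_apply_eq]
      exact Subtype.ext rfl
    show θ _ = θ (Subgroup.inclusion inf_le_left (i.symm _))
    rw [e6]
    rfl

lemma exists_aut_of_nice {R R' : Subgroup Ω} {φ : R →* Ω} (hφ : φ ∈ F.Hom R) (hr : φ.range = R')
    {a : normalizerIn S R →* Ω} (ha : a ∈ F.Hom (normalizerIn S R)) (hac : Carries a R P)
    {a' : normalizerIn S R' →* Ω} (ha' : a' ∈ F.Hom (normalizerIn S R'))
    (ha'c : Carries a' R' P) :
    ∃ α ∈ F.autGroup P, ∀ (x : R) (hx : a (Subgroup.inclusion hac.1 x) ∈ P),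
      (α ⟨_, hx⟩ : Ω) = a' ⟨φ x, ha'c.1 (hr ▸ ⟨x, rfl⟩)⟩ := by
  let i := toIso F (restr_mem F hac.1 ha) hac.range_restr_eq
  let j := toIso F hφ hr
  let k := toIso F (restr_mem F ha'c.1 ha') ha'c.range_restr_eq
  have hi := toIso_isIso F (restr_mem F hac.1 ha) hac.range_restr_eq
  refine ⟨(i.symm.trans j).trans k, (mem_autGroup F hi.le_right).2
    ((hi.symm.trans (toIso_isIso F hφ hr)).trans
      (toIso_isIso F (restr_mem F ha'c.1 ha') ha'c.range_restr_eq)), fun x hx => ?_⟩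
  show (k (j (i.symm ⟨_, hx⟩)) : Ω) = _
  rw [show (⟨_, hx⟩ : P) = i x from Subtype.ext rfl, i.symm_apply_apply]
  rfl

/-- All automorphisms of `P` extend to `X`. -/
theorem autGroup_le_extAut (hS : IsPGroup p S)
    (hbig : ∀ Y, Y ≤ S → Nat.card P < Nat.card Y → ClassSaturated F p Y)
    (hP : F.IsFullyNormalized P) (hPS : P < S) {ℋ : Set (Subgroup Ω)}
    (hℋconj : ∀ P ∈ ℋ, ∀ Q, F.IsConj P Q → Q ∈ ℋ) (hPℋ : P ∉ ℋ)
    (hgen : ∀ E : FusionSystem S, (∀ P ∈ ℋ, F.Hom P ⊆ E.Hom P) → F ≤ E)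
    (hnice : ∀ R, F.IsConj R P → Nice F P R) :
    F.autGroup P ≤ extAut F (le_coreX (F := F) hS hP.1) := by
  let E : FusionSystem S :=
    { Hom := fun R => {φ | φ ∈ F.Hom R ∧ (F.IsConj R P →
        ∀ (R' : Subgroup Ω) (hr : φ.range = R')
          (a : normalizerIn S R →* Ω) (_ : a ∈ F.Hom (normalizerIn S R)) (hac : Carries a R P)
          (a' : normalizerIn S R' →* Ω) (_ : a' ∈ F.Hom (normalizerIn S R'))
          (ha'c : Carries a' R' P) (α : MulAut P),
          (∀ (x : R) (hx : a (Subgroup.inclusion hac.1 x) ∈ P),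
            (α ⟨_, hx⟩ : Ω) = a' ⟨φ x, ha'c.1 (hr ▸ ⟨x, rfl⟩)⟩) →
          α ∈ extAut F (le_coreX (F := F) hS hP.1))}
      le_of_mem := fun h => F.le_of_mem h.1
      injective_of_mem := fun h => F.injective_of_mem h.1
      conj_mem := fun {R g} hR hg => by
        refine ⟨F.conj_mem hR hg, fun hRP R' hr a ha hac a' ha' ha'c α hα => ?_⟩
        have hc : Carries (conjHom S g) R R' :=
          ⟨hR, (map_subgroupOf_eq_range R hR fun _ => rfl).trans hr⟩
        have hRlt : R < S := lt_of_le_of_ne hR fun e => hPS.ne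
          (eq_of_le_of_card_le hPS.le (by rw [← isConj_card_eq hRP, e]))
        exact extAut_of_step hS hbig hP hnice (F.conj_mem le_rfl hg) hc hRlt ha hac ha' ha'c
          fun x hx => hα x hx
      comp_mem := by
        intro R Q φ ψ hφ hψ h
        refine ⟨F.comp_mem hφ.1 hψ.1 h, fun hRP R'' hr'' a ha hac a'' ha'' ha''c α hα => ?_⟩
        have hR'P : F.IsConj φ.range P := isConj_trans (isConj_symm ⟨φ, hφ.1, rfl⟩) hRP
        have hQ : φ.range ≤ Q := by
          rintro _ ⟨x, rfl⟩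
          exact h x
        have hr : (restr hQ ψ).range = R'' := by
          rw [← hr'']
          ext y
          constructor
          · rintro ⟨⟨_, x, rfl⟩, rfl⟩
            exact ⟨x, rfl⟩
          · rintro ⟨x, rfl⟩
            exact ⟨⟨_, x, rfl⟩, rfl⟩
        have hc : Carries ψ φ.range R'' := ⟨hQ, by rw [← range_restr hQ, hr]⟩
        obtain ⟨a', ha', ha'c⟩ := hnice φ.range hR'P
        obtain ⟨β₁, -, hβ₁⟩ := exists_aut_of_nice hφ.1 rfl ha hac ha' ha'c
        obtain ⟨β₂, -, hβ₂⟩ := exists_aut_of_nice (restr_mem F hQ hψ.1) hr ha' ha'c ha'' ha''c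
        have hβ₁X := hφ.2 hRP φ.range rfl a ha hac a' ha' ha'c β₁ hβ₁
        have hβ₂X : β₂ ∈ extAut F (le_coreX (F := F) hS hP.1) := by
          rcases eq_or_lt_of_le hQ with rfl | hlt
          · exact hψ.2 hR'P R'' hr a' ha' ha'c a'' ha'' ha''c β₂ fun x hx => hβ₂ x hx
          · exact extAut_of_step hS hbig hP hnice hψ.1 hc hlt ha' ha'c ha'' ha''c
              fun x hx => hβ₂ x hx
        have : α = β₂ * β₁ := by
          refine MulEquiv.ext fun u => Subtype.ext ?_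
          obtain ⟨⟨x, hxN⟩, hxR, hxu⟩ := hac.exists_preimage u.2
          obtain rfl : (⟨a (Subgroup.inclusion hac.1 ⟨x, hxR⟩), hac.apply_mem hxR⟩ : P) = u :=
            Subtype.ext hxu
          rw [MulAut.mul_apply, hα ⟨x, hxR⟩ _]
          have hm : φ ⟨x, hxR⟩ ∈ φ.range := ⟨_, rfl⟩
          refine Eq.symm ((congrArg (fun z : P => (β₂ z : Ω)) (Subtype.ext (hβ₁ ⟨x, hxR⟩ _) :
            β₁ ⟨a (Subgroup.inclusion hac.1 ⟨x, hxR⟩), hac.apply_mem hxR⟩ =
              (⟨a' (Subgroup.inclusion ha'c.1 ⟨_, hm⟩), ha'c.apply_mem hm⟩ : P))).trans ?_)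
          exact hβ₂ ⟨_, hm⟩ _
        rw [this]
        exact mul_mem hβ₂X hβ₁X
      inv_mem := by
        intro R φ hφ
        obtain ⟨ψ, hψ, he⟩ := F.inv_mem hφ.1
        refine ⟨ψ, ⟨hψ, fun hRP R' hr a ha hac a' ha' ha'c α hα => ?_⟩, he⟩
        have hR : R' = R := by
          rw [← hr]
          ext y
          constructor
          · rintro ⟨⟨_, x, rfl⟩, rfl⟩
            rw [he]
            exact x.2
          · intro hy
            exact ⟨_, he ⟨y, hy⟩⟩
        subst hR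
        obtain ⟨β, -, hβ⟩ := exists_aut_of_nice hφ.1 rfl ha' ha'c ha hac
        have hβX := hφ.2 (isConj_trans ⟨φ, hφ.1, rfl⟩ hRP) φ.range rfl a' ha' ha'c a ha hac β hβ
        have : α = β⁻¹ := by
          refine eq_inv_of_mul_eq_one_left (MulEquiv.ext fun u => Subtype.ext ?_)
          obtain ⟨⟨x, hxN⟩, hxR, hxu⟩ := ha'c.exists_preimage u.2
          obtain rfl : (⟨a' (Subgroup.inclusion ha'c.1 ⟨x, hxR⟩), ha'c.apply_mem hxR⟩ : P) = u :=
            Subtype.ext hxu
          have hm : φ ⟨x, hxR⟩ ∈ φ.range := ⟨_, rfl⟩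
          rw [MulAut.mul_apply]
          refine (congrArg (fun z : P => (α z : Ω)) (Subtype.ext (hβ ⟨x, hxR⟩ _) :
            β ⟨a' (Subgroup.inclusion ha'c.1 ⟨x, hxR⟩), ha'c.apply_mem hxR⟩ =
              (⟨a (Subgroup.inclusion hac.1 ⟨_, hm⟩), hac.apply_mem hm⟩ : P))).trans ?_
          refine (hα ⟨_, hm⟩ _).trans ?_
          exact congrArg a' (Subtype.ext (he ⟨x, hxR⟩))
        rw [this]
        exact inv_mem hβX }
  intro α hα
  have hmem : P.subtype.comp α.toMonoidHom ∈ E.Hom P :=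
    hgen E (fun Q hQ ψ hψ => ⟨hψ, fun hQP => absurd (hℋconj Q hQ P hQP) hPℋ⟩) P
      (autGroup_mem_hom F hP.1 hα)
  exact hmem.2 (isConj_refl F hP.1) P (range_subtype_comp _) (normalizerIn S P).subtype
    (subtype_mem F (normalizerIn_le P))
    ⟨le_normalizerIn hP.1, Subgroup.map_subgroupOf_eq_of_le (le_normalizerIn hP.1)⟩
    (normalizerIn S P).subtype (subtype_mem F (normalizerIn_le P))
    ⟨le_normalizerIn hP.1, Subgroup.map_subgroupOf_eq_of_le (le_normalizerIn hP.1)⟩ α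
    fun x _ => rfl

/-- The extension of automorphisms inside `N_S(P)` gives receptivity. -/
theorem receptive_of_extAut (hS : IsPGroup p S)
    (hbig : ∀ Y, Y ≤ S → Nat.card P < Nat.card Y → ClassSaturated F p Y)
    (hP : F.IsFullyNormalized P) (hnice : ∀ R, F.IsConj R P → Nice F P R)
    (hXlt : P < coreX F p P) (hext : F.autGroup P ≤ extAut F (le_coreX (F := F) hS hP.1)) :
    F.IsReceptive P := by
  have hPX : P ≤ coreX F p P := le_coreX hS hP.1
  have hXS : coreX F p P ≤ S := kNorm_le _ _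
  have hXN : coreX F p P ≤ normalizerIn S P := kNorm_le_normalizerIn _ _
  set X := coreX F p P with hXdef
  have : Finite X := finite_of_le ‹_› hXS
  have : Finite P := finite_of_le ‹_› hP.1
  have hXcard : Nat.card P < Nat.card X :=
    lt_of_not_ge fun h => hXlt.ne (eq_of_le_of_card_le hPX h)
  have hcl := hbig X hXS hXcard
  set K := subStab X P with hK
  -- `X` is good
  obtain ⟨X'', R'', -, hgood'', e, he, hec⟩ := exists_good_target hS hXS hcl hPX
  have hR''X : R'' ≤ X'' := fun y hy => by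
    obtain ⟨x, -, rfl⟩ := hec.exists_preimage hy
    exact (e x).2
  have hR''P : F.IsConj R'' P := isConj_symm ⟨_, restr_mem F hec.1 he, hec.range_restr_eq⟩
  have hKe : (subStab X'' R'').map (MulAut.congr e.symm).toMonoidHom = K := by
    refine map_congr_subStab fun y => ?_
    rw [← hec.mem_iff (Subtype.val_injective.comp e.injective) (e.symm y)]
    simp
  have hgood : KGood F p X K := by
    rw [← hKe]
    refine kGood_of_card_le hS he.symm hgood'' ?_
    rw [hKe]
    have h1 : kNorm S X'' (subStab X'' R'') ≤ normalizerIn S R'' := fun g hg =>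
      ⟨hg.1, ((mem_kNorm_subStab hR''X).1 hg).2⟩
    have h2 : normalizerIn S P ≤ kNorm S X K := fun g hg =>
      (mem_kNorm_subStab hPX).2 ⟨⟨hg.1, coreX_normalized hP.1 hg⟩, hg.2⟩
    have : Finite (normalizerIn S R'') := finite_of_le ‹_› (normalizerIn_le _)
    have : Finite (kNorm S X K) := finite_of_le ‹_› (kNorm_le _ _)
    exact ((Subgroup.card_le_of_le h1).trans (hnice R'' hR''P).card_normalizerIn_le).trans
      (Subgroup.card_le_of_le h2)
  have hrec : F.IsReceptive X := receptive_of_classSaturated hS hcl hgood.1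
  refine ⟨hP.1, fun R φ hφ hr => ?_⟩
  obtain ⟨a, ha, hac⟩ := hnice R ⟨φ, hφ, hr⟩
  let i := toIso F (restr_mem F hac.1 ha) hac.range_restr_eq
  let j := toIso F hφ hr
  have hαF : i.symm.trans j ∈ F.autGroup P := (mem_autGroup F hP.1).2
    ((toIso_isIso F (restr_mem F hac.1 ha) hac.range_restr_eq).symm.trans (toIso_isIso F hφ hr))
  set α : MulAut P := i.symm.trans j with hαdef
  obtain ⟨θ, hθ, hθα⟩ := mem_extAut.1 (hext hαF)
  have hRN := extender_le_normalizerIn (S := S) φ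
  set N := (restr hRN a).range with hN
  have hNP : N ≤ normalizerIn S P := by
    rintro _ ⟨g, rfl⟩
    exact hac.mem_normalizerIn ha le_rfl _
  have hNS : N ≤ S := hNP.trans (normalizerIn_le P)
  -- the transported action
  set H := F.autGroup X ⊓ K with hH
  set T := autInducedBy S X ⊓ K with hT
  set D := H ⊓ fixOn X P with hD
  have hTH : T ≤ H := inf_le_inf_right _ (autInducedBy_le_autGroup F hXS)
  let A := (autInducedBy N X).map (MulAut.congr (θ : X ≃* X)).toMonoidHom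
  have hAp : IsPGroup p A :=
    ((isPGroup_autInducedBy hS X).to_le (autInducedBy_mono hNS _)).map _
  have hA : A ≤ T ⊔ D := by
    rintro _ ⟨c, hc, rfl⟩
    obtain ⟨w, hw, hwc⟩ := mem_autInducedBy.1 hc
    obtain ⟨⟨g, hg⟩, rfl⟩ := hw
    obtain ⟨hgS, hgR, h, hh, hhe⟩ := mem_extender.1 hg
    have hhP : h ∈ Subgroup.normalizer (P : Set Ω) := by
      rw [Subgroup.mem_normalizer_iff_map_conj_eq]
      refine eq_of_le_of_card_le ?_ (Nat.card_congr ((MulAut.conj h).subgroupMap P).toEquiv).le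
      rintro _ ⟨y, hy, rfl⟩
      obtain ⟨x, rfl⟩ := hr.ge hy
      have hgx : g * x * g⁻¹ ∈ R := (Subgroup.mem_normalizer_iff.1 hgR x).1 x.2
      exact hr.le ⟨⟨_, hgx⟩, hhe x hgx⟩
    obtain ⟨-, γ, hγ, hγe⟩ :=
      (mem_kNorm_subStab hPX).2 ⟨⟨hh, coreX_normalized (F := F) (p := p) hP.1 ⟨hh, hhP⟩⟩, hhP⟩
    have hγT : γ ∈ T := ⟨mem_autInducedBy.2 ⟨h, hh, hγe⟩, hγ⟩
    have hcK : c ∈ K := fun y => by
      rw [hwc]
      exact (Subgroup.mem_normalizer_iff.1
        (hac.mem_normalizerIn ha le_rfl (Subgroup.inclusion hRN ⟨g, hg⟩)).2 y).symm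
    have hβH : MulAut.congr (θ : X ≃* X) c ∈ H := by
      show θ * c * θ⁻¹ ∈ H
      exact H.mul_mem (H.mul_mem hθ ⟨autInducedBy_le_autGroup F hXS
        (mem_autInducedBy.2 ⟨_, map_mem_S F ha _, hwc⟩), hcK⟩) (H.inv_mem hθ)
    have hagree : ∀ y : X, (y : Ω) ∈ P → MulAut.congr (θ : X ≃* X) c y = γ y := by
      intro y hy
      obtain ⟨u, hu⟩ := α.surjective ⟨y, hy⟩
      obtain ⟨x, rfl⟩ := i.surjective u
      have hgx : g * x * g⁻¹ ∈ R := (Subgroup.mem_normalizer_iff.1 hgR x).1 x.2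
      have hy' : y = θ (Subgroup.inclusion hPX (i x)) :=
        Subtype.ext ((congrArg Subtype.val hu).symm.trans (hθα _))
      have hαx : ∀ x : R, (α (i x) : Ω) = φ x := fun x => by
        show (j (i.symm (i x)) : Ω) = φ x
        rw [i.symm_apply_apply]
        rfl
      refine Subtype.ext ?_
      rw [hγe y, show (y : Ω) = φ x by rw [← hαx x, hu], ← hhe x hgx, hy', autCongr_apply,
        MulEquiv.symm_apply_apply, ← hαx ⟨_, hgx⟩, hθα]
      refine congrArg (fun z : X => (θ z : Ω)) (Subtype.ext ?_)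
      rw [hwc]
      show a _ * a _ * (a _)⁻¹ = a _
      rw [← map_inv, ← map_mul, ← map_mul]
      exact congrArg a (Subtype.ext rfl)
    have hd : γ⁻¹ * MulAut.congr (θ : X ≃* X) c ∈ D :=
      ⟨H.mul_mem (inv_mem (hTH hγT)) hβH, fun y hy => by
        rw [MulAut.mul_apply, hagree y hy]
        exact γ.symm_apply_apply y⟩
    have := Subgroup.mul_mem_sup (S := T) (T := D) hγT hd
    simpa using this
  have hTDle : T ⊔ D ≤ H := sup_le hTH inf_le_left
  have hsyl : SylIn p T (T ⊔ D) := by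
    obtain ⟨U, hU, hle⟩ := exists_sylIn_ge (p := p)
      (le_sup_left (a := T) (b := D)) hgood.2.isPGroup
    have e := le_antisymm hle (hgood.2.le_of_ge (hU.le.trans hTDle) hU.isPGroup hle)
    exact e ▸ hU
  obtain ⟨m, hm, hconj⟩ := hsyl.exists_conj_le hA hAp
  have hnorm : T ≤ Subgroup.normalizer (D : Set (MulAut X)) := by
    intro t ht
    have key : ∀ u ∈ H, ∀ d ∈ D, u * d * u⁻¹ ∈ D := fun u hu d hd =>
      ⟨H.mul_mem (H.mul_mem hu hd.1) (H.inv_mem hu), fun y hy => by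
        have hy' : ((u⁻¹ y : X) : Ω) ∈ P := ((mem_subStab.1 (inv_mem hu.2)) y).2 hy
        rw [MulAut.mul_apply, MulAut.mul_apply, hd.2 _ hy']
        exact u.apply_symm_apply y⟩
    refine Subgroup.mem_normalizer_iff.2 fun d => ⟨key t (hTH ht) d, fun hd => ?_⟩
    have := key t⁻¹ (inv_mem (hTH ht)) _ hd
    simpa [mul_assoc] using this
  have hm' : m ∈ ((T : Set (MulAut X)) * (D : Set (MulAut X)) : Set (MulAut X)) :=
    (Subgroup.coe_mul_of_left_le_normalizer_right _ _ hnorm).le hm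
  obtain ⟨t, ht, χ, hχ, rfl⟩ := hm'
  have hconjχ : ∀ z ∈ A, χ * z * χ⁻¹ ∈ T := by
    intro z hz
    have := T.mul_mem (T.mul_mem (T.inv_mem ht) (hconj z hz)) ht
    simpa [mul_assoc] using this
  obtain ⟨Θ, hΘ, hΘe, -⟩ := receptive_extend hrec
    (φ := X.subtype.comp ((θ : X ≃* X).trans χ).toMonoidHom)
    (((mem_autGroup F hXS).1 hθ.1).trans ((mem_autGroup F hXS).1 hχ.1.1)) (range_subtype_comp _)
  have hNext : N ≤ extender S X (X.subtype.comp ((θ : X ≃* X).trans χ).toMonoidHom) := by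
    intro w hw
    have hwn : w ∈ Subgroup.normalizer (X : Set Ω) := coreX_normalized hP.1 (hNP hw)
    refine mem_extender.2 ⟨hNS hw, hwn, ?_⟩
    have hc : X.normalizerMonoidHom ⟨w, hwn⟩ ∈ autInducedBy N X :=
      mem_autInducedBy.2 ⟨w, hw, fun _ => rfl⟩
    obtain ⟨s, hs, hse⟩ := mem_autInducedBy.1 (hconjχ _ (Subgroup.mem_map_of_mem _ hc)).1
    refine ⟨s, hs, fun x hgx => ?_⟩
    have h := hse ((θ : X ≃* X).trans χ x)
    rw [show (⟨w * x * w⁻¹, hgx⟩ : X) = X.normalizerMonoidHom ⟨w, hwn⟩ x from Subtype.ext rfl]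
    simpa [MulAut.mul_apply, autCongr_apply] using h
  refine ⟨Θ.comp ((restr hRN a).codRestrict _ fun g => hNext ⟨g, rfl⟩),
    F.comp_mem (restr_mem F hRN ha) hΘ _, fun x hxR hxE => ?_⟩
  refine Eq.trans (Eq.trans (congrArg Θ (Subtype.ext rfl))
    (hΘe (Subgroup.inclusion hPX (i ⟨x, hxR⟩)))) ?_
  show ((χ (θ (Subgroup.inclusion hPX (i ⟨x, hxR⟩))) : X) : Ω) = _
  rw [hχ.2 _ ((hθ.2 _).2 (i ⟨x, hxR⟩).2), ← hθα]
  show (j (i.symm (i ⟨x, hxR⟩)) : Ω) = _
  rw [i.symm_apply_apply]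
  rfl

/-- **Saturation criterion.** -/
theorem saturated_of_generated (hS : IsPGroup p S) {ℋ : Set (Subgroup Ω)}
    (hℋconj : ∀ P ∈ ℋ, ∀ Q, F.IsConj P Q → Q ∈ ℋ)
    (hsat : ∀ P ∈ ℋ, ∃ Q, F.IsConj P Q ∧ F.IsFullyAutomized p Q ∧ F.IsReceptive Q)
    (hgen : ∀ E : FusionSystem S, (∀ P ∈ ℋ, F.Hom P ⊆ E.Hom P) → F ≤ E)
    (hstar : ∀ P : Subgroup Ω, F.IsCentric P → P ∉ ℋ →
      ∃ Q, F.IsConj P Q ∧ ¬ (autInducedBy S Q ⊓ autCore F p Q ≤ Inn Q)) :
    F.IsSaturated p := by
  intro P₀ hP₀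
  induction hd : Nat.card S - Nat.card P₀ using Nat.strong_induction_on generalizing P₀ with
  | _ d IH =>
    by_cases hmem : P₀ ∈ ℋ
    · exact hsat P₀ hmem
    obtain ⟨P, hconj, hP⟩ := exists_fullyNormalized F hP₀
    have hPℋ : P ∉ ℋ := fun h => hmem (hℋconj P h P₀ (isConj_symm hconj))
    have hcard := isConj_card_eq hconj
    have hbig : ∀ Y, Y ≤ S → Nat.card P < Nat.card Y → ClassSaturated F p Y := by
      intro Y hY hlt
      refine IH (Nat.card S - Nat.card Y) ?_ Y hY rfl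
      have := Subgroup.card_le_of_le (H := Y) (K := S) hY
      omega
    have hPS : P < S := by
      refine lt_of_le_of_ne hP.1 fun e => ?_
      subst e
      have hc : F.IsCentric P := ⟨le_rfl, fun Q hQ => by
        rw [eq_of_le_of_card_le (isConj_le_right hQ) (isConj_card_eq hQ).le]
        exact centralizerIn_le P⟩
      obtain ⟨Q, hQ, hQn⟩ := hstar P hc hPℋ
      obtain rfl := eq_of_le_of_card_le (isConj_le_right hQ) (isConj_card_eq hQ).le
      exact hQn (inf_le_left.trans (inn_eq_autInducedBy Q).ge)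
    have hnice : ∀ R, F.IsConj R P → Nice F P R := fun R hR =>
      nice_all hS hbig hP hPS hℋconj hPℋ hgen hR
    have hfc : F.IsFullyCentralized P :=
      ⟨hP.1, fun Q hQ => (hnice Q (isConj_symm hQ)).card_centralizerIn_le⟩
    have hXlt : P < coreX F p P := by
      refine lt_of_le_of_ne (le_coreX hS hP.1) fun e => ?_
      by_cases hC : centralizerIn S P ≤ P
      · obtain ⟨Q, hQ, hQn⟩ := hstar P (centric_of_fullyCentralized hfc hC) hPℋ
        apply hQn
        rintro γ ⟨hγS, hγO⟩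
        obtain ⟨a, ha, hac⟩ := hnice Q (isConj_symm hQ)
        obtain ⟨g, hgS, hge⟩ := mem_autInducedBy.1 hγS
        have hgN : g ∈ normalizerIn S Q := ⟨hgS, mem_normalizer_of_conj_eq γ hge⟩
        let i := toIso F (restr_mem F hac.1 ha) hac.range_restr_eq
        have hi : IsIso F i := toIso_isIso F _ _
        have hag : a ⟨g, hgN⟩ ∈ coreX F p P := by
          refine ⟨map_mem_S F ha _, MulAut.congr i γ,
            (autCore_map_congr F hi).le ⟨γ, hγO, rfl⟩, fun y => ?_⟩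
          obtain ⟨x, rfl⟩ := i.surjective y
          rw [autCongr_apply, i.symm_apply_apply, toIso_coe, toIso_coe, restr_apply, restr_apply,
            ← map_inv, ← map_mul, ← map_mul]
          exact congrArg a (Subtype.ext (hge x))
        rw [← e] at hag
        have hgQ : g ∈ Q :=
          (hac.mem_iff (F.injective_of_mem ha) ⟨g, hgN⟩).1 hag
        exact ⟨⟨g, hgQ⟩, MulEquiv.ext fun x => Subtype.ext (hge x).symm⟩
      · exact hC ((centralizerIn_le_kNorm P _).trans e.ge)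
    have hrec : F.IsReceptive P := receptive_of_extAut hS hbig hP hnice hXlt
      (autGroup_le_extAut hS hbig hP hPS hℋconj hPℋ hgen hnice)
    exact ⟨P, hconj, fullyAutomized_step hS hP hrec hPS fun R hR hlt =>
      (fullyNormalized_of_classSaturated hS (hbig R hR.1 hlt) hR).2, hrec⟩

end Cfsg.Agent.FusionSys
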