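import Cfsg.Agent.FusionSys.MetacyclicTwist
import Cfsg.Agent.S1896
import Cfsg.Agent.TwoGroups.MaxClassCriterion
import Cfsg.Agent.TwoGroups.Taussky

/-!
For `p = 2`, a metacyclic strongly closed subgroup which is neither dihedral, quaternion nor
quasidihedral is normal in the fusion system.
-/
set_option autoImplicit false

open Cfsg Cfsg.FusionSystem
open scoped commutatorElement Pointwise

namespace Cfsg.Agent.FusionSys

theorem four_pow_two : ∀ w : Multiplicative (ZMod (2 ^ 1)) × Multiplicative (ZMod (2 ^ 1)),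
    w ^ 2 = 1 := by decide

/-- A 2-group with a self-centralizing four subgroup has derived subgroup of index four. -/
theorem index_commutator_of_self_centralizing_four {G : Type*} [Group G] [Finite G]
    (hG : IsPGroup 2 G) (A : Subgroup G) (hA : Nat.card A = 4) (hexp : ∀ a ∈ A, a ^ 2 = 1)
    (hC : Subgroup.centralizer (A : Set G) ≤ A) : (commutator G).index = 4 := by
  haveI : Fact (Nat.Prime 2) := ⟨Nat.prime_two⟩
  have hAc : ∀ a ∈ A, ∀ b ∈ A, a * b = b * a := by
    intro a ha b hb
    have h : ∀ u ∈ A, u⁻¹ = u := fun u hu => inv_eq_of_mul_eq_one_right (by rw [← pow_two]; exact hexp u hu)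
    have h1 := h _ (A.mul_mem ha hb)
    rw [mul_inv_rev, h a ha, h b hb] at h1
    exact h1.symm
  by_cases hna : ∃ x y : G, x * y ≠ y * x
  swap
  · push Not at hna
    have hAtop : A = ⊤ := eq_top_iff.2 fun g _ =>
      hC (Subgroup.mem_centralizer_iff.2 fun a _ => hna a g)
    have hb : commutator G = ⊥ := by
      rw [commutator_def, Subgroup.commutator_eq_bot_iff_le_centralizer]
      exact fun g _ => Subgroup.mem_centralizer_iff.2 fun a _ => hna a g
    rw [hb, Subgroup.index_bot, ← Subgroup.card_top, ← hAtop, hA]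
  haveI : Nontrivial G := by
    obtain ⟨x, y, hxy⟩ := hna
    exact nontrivial_of_ne _ _ hxy
  have hz : Nontrivial (Subgroup.center G) := hG.center_nontrivial
  obtain ⟨⟨z, hzc⟩, hz1⟩ := exists_ne (1 : Subgroup.center G)
  have hzA : z ∈ A := hC (Subgroup.mem_centralizer_iff.2 fun a _ => Subgroup.mem_center_iff.1 hzc a)
  have hz1' : z ≠ 1 := fun h => hz1 (Subtype.ext h)
  obtain ⟨t, htA, htz⟩ : ∃ t ∈ A, t ∉ Subgroup.zpowers z := by
    by_contra h
    push Not at h
    have h1 := Subgroup.card_le_of_le (K := Subgroup.zpowers z) (fun t ht => h t ht)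
    rw [hA, Nat.card_zpowers, orderOf_eq_prime (hexp z hzA) hz1'] at h1
    omega
  refine TwoGroups.index_commutator_of_card_centralizer hG hna (t := t) ?_
  suffices h : Subgroup.centralizer ({t} : Set G) = A by rw [h, hA]
  refine le_antisymm (fun g hg => hC (Subgroup.mem_centralizer_iff.2 fun a ha => ?_))
    (fun a ha => Subgroup.mem_centralizer_singleton_iff.2 (hAc a ha t htA))
  -- `A` is generated by `z` and `t`
  have hgen : A ≤ Subgroup.closure ({z, t} : Set G) := by
    have hle : Subgroup.closure ({z, t} : Set G) ≤ A := by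
      rw [Subgroup.closure_le]
      rintro u (rfl | rfl)
      · exact hzA
      · exact htA
    refine (Subgroup.eq_of_le_of_card_ge hle ?_).ge
    have hzle : Subgroup.zpowers z ≤ Subgroup.closure ({z, t} : Set G) :=
      Subgroup.zpowers_le.2 (Subgroup.subset_closure (by simp))
    obtain ⟨c, hc⟩ := Subgroup.card_dvd_of_le hzle
    have h2 : Nat.card (Subgroup.zpowers z) = 2 := by
      rw [Nat.card_zpowers, orderOf_eq_prime (hexp z hzA) hz1']
    rw [hA]
    by_contra hlt
    have hc1 : c = 1 := by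
      have := Nat.card_pos (α := Subgroup.closure ({z, t} : Set G))
      rw [hc, h2] at hlt this
      omega
    refine htz ((Subgroup.eq_of_le_of_card_ge hzle ?_).ge (Subgroup.subset_closure (by simp)))
    rw [hc, hc1, mul_one]
  have hle : Subgroup.closure ({z, t} : Set G) ≤ Subgroup.centralizer ({g} : Set G) := by
    rw [Subgroup.closure_le]
    rintro u (rfl | rfl)
    · exact Subgroup.mem_centralizer_singleton_iff.2 (Subgroup.mem_center_iff.1 hzc g).symm
    · exact Subgroup.mem_centralizer_singleton_iff.2 (Subgroup.mem_centralizer_singleton_iff.1 hg).symm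
  exact Subgroup.mem_centralizer_singleton_iff.1 (hle (hgen ha))

/-- A 2-group with a self-centralizing quaternion subgroup of order eight has derived subgroup
of index four. -/
theorem index_commutator_of_self_centralizing_quaternion {G : Type*} [Group G] [Finite G]
    (hG : IsPGroup 2 G) (A : Subgroup G) (e : A ≃* QuaternionGroup 2)
    (hC : Subgroup.centralizer (A : Set G) ≤ A) : (commutator G).index = 4 := by
  haveI : Fact (Nat.Prime 2) := ⟨Nat.prime_two⟩
  let f : QuaternionGroup 2 →* G := A.subtype.comp e.symm.toMonoidHom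
  have hf : Function.Injective f := A.subtype_injective.comp e.symm.injective
  have hfr : ∀ g ∈ A, ∃ q, f q = g := fun g hg => ⟨e ⟨g, hg⟩, by simp [f]⟩
  have hfA : ∀ q, f q ∈ A := fun q => (e.symm q).2
  set z := f (QuaternionGroup.a 2)
  have hcen : ∀ g : G, g ∈ Subgroup.centralizer (A : Set G) → g = 1 ∨ g = z := by
    intro g hg
    obtain ⟨q, rfl⟩ := hfr g (hC hg)
    have h : ∀ q', q' * q = q * q' := fun q' => hf (by
      rw [map_mul, map_mul]
      exact Subgroup.mem_centralizer_iff.1 hg _ (hfA q'))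
    have key : ∀ q : QuaternionGroup 2,
        (∀ q', q' * q = q * q') → q = 1 ∨ q = QuaternionGroup.a 2 := by decide
    rcases key q h with rfl | rfl
    · exact Or.inl (map_one f)
    · exact Or.inr rfl
  haveI : Nontrivial G := ⟨⟨f (QuaternionGroup.a 1), f 1, fun h => by
    exact absurd (hf h) (by decide)⟩⟩
  have hzc : z ∈ Subgroup.center G := by
    have hz : Nontrivial (Subgroup.center G) := hG.center_nontrivial
    obtain ⟨⟨u, hu⟩, hu1⟩ := exists_ne (1 : Subgroup.center G)
    rcases hcen u (Subgroup.mem_centralizer_iff.2 fun a _ => Subgroup.mem_center_iff.1 hu a) with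
      rfl | rfl
    · exact absurd rfl hu1
    · exact hu
  have hz2 : z * z = 1 := by
    rw [← map_mul, ← map_one f]
    exact congrArg f (by decide)
  set N := Subgroup.zpowers z
  haveI : N.Normal := ⟨fun y hy g => by
    have hy' : y ∈ Subgroup.center G := (Subgroup.zpowers_le.2 hzc) hy
    rwa [Subgroup.mem_center_iff.1 hy' g, mul_inv_cancel_right]⟩
  have hN : ∀ g ∈ N, g = 1 ∨ g = z := fun g hg =>
    hcen g (Subgroup.mem_centralizer_iff.2 fun a _ =>
      Subgroup.mem_center_iff.1 ((Subgroup.zpowers_le.2 hzc) hg) a)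
  set π := QuotientGroup.mk' N
  have hπ : Function.Surjective π := QuotientGroup.mk'_surjective N
  have hzne : z ≠ 1 := fun h => absurd (hf (h.trans (map_one f).symm)) (by decide)
  have hcard : Nat.card (A.map π) = 4 := by
    have h := Subgroup.index_ker (π.comp A.subtype)
    rw [MonoidHom.range_comp, Subgroup.range_subtype] at h
    rw [← h]
    have hker : (π.comp A.subtype).ker = N.subgroupOf A := by
      rw [← MonoidHom.comap_ker, QuotientGroup.ker_mk']
      rfl
    have h1 := (N.subgroupOf A).card_mul_index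
    rw [Nat.card_congr (Subgroup.subgroupOfEquivOfLe
        (Subgroup.zpowers_le.2 (hfA (QuaternionGroup.a 2)))).toEquiv,
      Nat.card_zpowers, orderOf_eq_prime (pow_two z ▸ hz2) hzne, Nat.card_congr e.toEquiv,
      Nat.card_eq_fintype_card, QuaternionGroup.card] at h1
    rw [hker]
    omega
  have hidx := index_commutator_of_self_centralizing_four (hG.to_quotient N) (A.map π) hcard
    (by
      rintro _ ⟨g, hg, rfl⟩
      obtain ⟨q, rfl⟩ := hfr g hg
      rw [← map_pow, ← map_pow]
      refine (QuotientGroup.eq_one_iff _).2 ?_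
      have key : ∀ q : QuaternionGroup 2, q ^ 2 = 1 ∨ q ^ 2 = QuaternionGroup.a 2 := by decide
      rcases key q with h | h <;> rw [h]
      · rw [map_one]; exact one_mem N
      · exact Subgroup.mem_zpowers z)
    (by
      intro gb hgb
      obtain ⟨g, rfl⟩ := hπ gb
      have hmov : ∀ q, g * f q * g⁻¹ = f q ∨ g * f q * g⁻¹ = z * f q := by
        intro q
        have h := Subgroup.mem_centralizer_iff.1 hgb (π (f q)) ⟨_, hfA q, rfl⟩
        have h1 : g * f q * g⁻¹ * (f q)⁻¹ ∈ N := by
          refine (QuotientGroup.eq_one_iff _).1 ?_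
          show π _ = 1
          simp only [map_mul, map_inv]
          rw [← h, mul_inv_cancel_right, mul_inv_cancel]
        rcases hN _ h1 with h2 | h2
        · exact Or.inl (mul_inv_eq_one.1 h2)
        · exact Or.inr (mul_inv_eq_iff_eq_mul.1 h2)
      -- correct `g` by an element of `A`
      have key : ∀ (s₁ s₂ : Bool), ∃ r : QuaternionGroup 2,
          r * QuaternionGroup.a 1 * r⁻¹ =
            (if s₁ then QuaternionGroup.a 2 else 1) * QuaternionGroup.a 1 ∧
          r * QuaternionGroup.xa 0 * r⁻¹ =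
            (if s₂ then QuaternionGroup.a 2 else 1) * QuaternionGroup.xa 0 := by decide
      obtain ⟨s₁, hs₁⟩ : ∃ s : Bool, g * f (QuaternionGroup.a 1) * g⁻¹ =
          f ((if s then QuaternionGroup.a 2 else 1) * QuaternionGroup.a 1) := by
        rcases hmov (QuaternionGroup.a 1) with h | h
        · exact ⟨false, by simpa using h⟩
        · exact ⟨true, by rw [h, if_pos rfl, map_mul]⟩
      obtain ⟨s₂, hs₂⟩ : ∃ s : Bool, g * f (QuaternionGroup.xa 0) * g⁻¹ =
          f ((if s then QuaternionGroup.a 2 else 1) * QuaternionGroup.xa 0) := by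
        rcases hmov (QuaternionGroup.xa 0) with h | h
        · exact ⟨false, by simpa using h⟩
        · exact ⟨true, by rw [h, if_pos rfl, map_mul]⟩
      obtain ⟨r, hr₁, hr₂⟩ := key s₁ s₂
      rw [← hr₁, map_mul, map_mul, map_inv] at hs₁
      rw [← hr₂, map_mul, map_mul, map_inv] at hs₂
      set w := (f r)⁻¹ * g
      have hw : ∀ q, g * f q * g⁻¹ = f r * f q * (f r)⁻¹ → w * f q = f q * w := by
        intro q hq
        calc w * f q = (f r)⁻¹ * (g * f q * g⁻¹) * g := by simp only [w]; group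
          _ = f q * w := by rw [hq]; simp only [w]; group
      have hwc : w ∈ Subgroup.centralizer (A : Set G) := by
        refine Subgroup.mem_centralizer_iff.2 fun a ha => ?_
        obtain ⟨q, rfl⟩ := hfr a ha
        have gen : ∀ q : QuaternionGroup 2, ∃ (i : Fin 4) (j : Fin 2),
            q = QuaternionGroup.a 1 ^ (i : ℕ) * QuaternionGroup.xa 0 ^ (j : ℕ) := by decide
        obtain ⟨i, j, rfl⟩ := gen q
        rw [map_mul, map_pow, map_pow]
        have c1 : Commute w (f (QuaternionGroup.a 1)) := hw _ hs₁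
        have c2 : Commute w (f (QuaternionGroup.xa 0)) := hw _ hs₂
        exact ((c1.pow_right _).mul_right (c2.pow_right _)).symm
      have hg : g = f r * w := by simp only [w]; group
      rw [hg]
      exact ⟨_, A.mul_mem (hfA r) (hC hwc), rfl⟩)
  have hcomm : (commutator (G ⧸ N)).comap π = commutator G := by
    rw [commutator_def, ← Subgroup.map_top_of_surjective π hπ, ← Subgroup.map_commutator,
      Subgroup.comap_map_eq, ← commutator_def, QuotientGroup.ker_mk', sup_eq_left]
    refine Subgroup.zpowers_le.2 ?_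
    have : z = ⁅f (QuaternionGroup.a 1), f (QuaternionGroup.xa 0)⁆ := by
      rw [← map_commutatorElement]
      exact congrArg f (by decide)
    rw [this]
    exact Subgroup.commutator_mem_commutator (Subgroup.mem_top _) (Subgroup.mem_top _)
  rw [← hcomm, Subgroup.index_comap_of_surjective _ hπ, hidx]

variable {Ω : Type*} [Group Ω] {S : Subgroup Ω}

theorem isNormal_of_metacyclic_two [Finite S] (hS : IsPGroup 2 S) {F : FusionSystem S}
    (hF : F.IsSaturated 2) {P : Subgroup Ω} (hP : F.StronglyClosed P)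
    (hm : Cfsg.IsMetacyclic ↥P) (hd : ¬ ∃ m : ℕ, Nonempty (↥P ≃* DihedralGroup m))
    (hq : ¬ ∃ m : ℕ, Nonempty (↥P ≃* QuaternionGroup m)) (hsd : ¬ Cfsg.IsQuasiDihedral ↥P) :
    F.IsNormal P := by
  haveI : Fact (Nat.Prime 2) := ⟨Nat.prime_two⟩
  refine FusionAux.isNormal_of_sc_radical hS hF hP fun Q _ hc hr => ?_
  by_contra hne
  obtain ⟨x, hxP, hxN, hxQ, hxp⟩ := exists_outside hS hP hc.1 hne
  haveI : Finite ↥(P ⊓ Q) := finite_of_le ‹_› (inf_le_right.trans hc.1)
  haveI : Finite P := finite_of_le ‹_› hP.1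
  have hH : IsPGroup 2 ↥(P ⊓ Q) := hS.to_le (inf_le_right.trans hc.1)
  have hexp : ∀ v : ↥(P ⊓ Q) ⧸ frattini ↥(P ⊓ Q), v ^ 2 = 1 := fun v =>
    QuotientGroup.induction_on v fun z =>
      (QuotientGroup.eq_one_iff (z ^ 2)).2 (PGroup.pow_mem_frattini hH z)
  have hmQ := isMetacyclic_of_le (inf_le_left : P ⊓ Q ≤ P) hm
  set τ := conjStab hP hc.1 hxP hxN
  have hτ := conjStab_rho_ne_one hS hP hc hr hxP hxN hxQ
  obtain ⟨e, f, σ, hgen, hTe, hTf, hσe, hσf⟩ := exists_order_three hexp
    (card_frattini_quotient_le hH hmQ) (cosetRho hP hc.1) (cosetRho_ker_isPGroup hS hP hc.1) τ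
    (conjStab_pow hS hP hc.1 hxP hxN) hτ fun M hMn hMp hM =>
      hxQ (cosetStab_pNormal hP hc hr ⟨hP.1 hxP, hxN⟩ M hMn hMp hM fun _ => rfl)
  have hfix : ∀ {u : ↥(P ⊓ Q) ⧸ frattini ↥(P ⊓ Q)}, cosetRho hP hc.1 τ u = u →
      u = 1 ∨ u = e := by
    intro u hu
    have hall : ∀ u, u = 1 ∨ u = e ∨ u = f ∨ u = f * e := by
      have hself : ∀ v : ↥(P ⊓ Q) ⧸ frattini ↥(P ⊓ Q), v⁻¹ = v := fun v =>
        inv_eq_of_mul_eq_one_right (by rw [← pow_two]; exact hexp v)
      have hcm : e * f = f * e := by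
        have h1 := hself (e * f)
        rwa [mul_inv_rev, hself, hself, eq_comm] at h1
      have he2 : e * e = 1 := by rw [← pow_two]; exact hexp e
      have hf2 : f * f = 1 := by rw [← pow_two]; exact hexp f
      intro u
      induction hgen.ge (Subgroup.mem_top u) using Subgroup.closure_induction with
      | mem v hv => rcases hv with rfl | rfl <;> simp
      | one => simp
      | mul a b _ _ ha hb =>
        rcases ha with rfl | rfl | rfl | rfl <;> rcases hb with rfl | rfl | rfl | rfl <;>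
          simp [he2, hf2, hcm, mul_assoc] <;>
          simp [← mul_assoc, he2, hf2, hcm] <;> simp [mul_assoc, he2, hf2, hcm]
      | inv a _ ha => rw [hself]; exact ha
    rcases hall u with h | h | h | h
    · exact Or.inl h
    · exact Or.inr h
    · rw [h, hTf] at hu
      exact Or.inl (by
        have he1 : e = 1 := mul_left_cancel (hu.trans (mul_one _).symm)
        exact absurd (MulEquiv.ext fun v => by
          have hle : Subgroup.closure {e, f} ≤
              MonoidHom.eqLocus (cosetRho hP hc.1 τ).toMonoidHom (MonoidHom.id _) := by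
            rw [Subgroup.closure_le]
            rintro v (rfl | rfl)
            · exact hTe
            · show cosetRho hP hc.1 τ v = v
              rw [hTf, he1, mul_one]
          exact hle (hgen.ge (Subgroup.mem_top v))) hτ)
    · rw [h, map_mul, hTf, hTe] at hu
      exact Or.inl (by
        have he1 : e = 1 := mul_left_cancel ((mul_right_cancel hu).trans (mul_one _).symm)
        rw [he1, mul_one] at hTf
        exact absurd (MulEquiv.ext fun v => by
          have hle : Subgroup.closure {e, f} ≤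
              MonoidHom.eqLocus (cosetRho hP hc.1 τ).toMonoidHom (MonoidHom.id _) := by
            rw [Subgroup.closure_le]
            rintro v (rfl | rfl)
            · exact hTe
            · exact hTf
          exact hle (hgen.ge (Subgroup.mem_top v))) hτ)
  have hef : cosetRho hP hc.1 σ e ≠ e := by
    rw [hσe]
    intro h
    have hf1 : f = 1 := mul_left_cancel (h.trans (mul_one e).symm)
    refine hτ (MulEquiv.ext fun v => ?_)
    have hle : Subgroup.closure {e, f} ≤
        MonoidHom.eqLocus (cosetRho hP hc.1 τ).toMonoidHom (MonoidHom.id _) := by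
      rw [Subgroup.closure_le]
      rintro v (rfl | rfl)
      · exact hTe
      · show cosetRho hP hc.1 τ v = v
        rw [hf1, map_one]
    exact hle (hgen.ge (Subgroup.mem_top v))
  -- the automorphism group of `P ⊓ Q` is not a 2-group
  have hAut : ¬ IsPGroup 2 (MulAut ↥(P ⊓ Q)) := by
    intro hA
    have h3 : cosetRho hP hc.1 σ ^ 3 = 1 := by
      refine MulEquiv.ext fun v => ?_
      have hle : Subgroup.closure {e, f} ≤
          MonoidHom.eqLocus (cosetRho hP hc.1 σ ^ 3).toMonoidHom (MonoidHom.id _) := by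
        rw [Subgroup.closure_le]
        have hee : ∀ a b : ↥(P ⊓ Q) ⧸ frattini ↥(P ⊓ Q), a * b * a = b := fun a b => by
          have h1 := hexp (a * b)
          rw [pow_two, ← mul_assoc] at h1
          have h2 := eq_inv_of_mul_eq_one_left h1
          rw [h2, inv_eq_of_mul_eq_one_right (by rw [← pow_two]; exact hexp b)]
        rintro v (rfl | rfl)
        · show (cosetRho hP hc.1 σ ^ 3) v = v
          rw [pow_succ', pow_two, MulAut.mul_apply, MulAut.mul_apply, hσe, map_mul, hσe, hσf,
            hee, hσf]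
        · show (cosetRho hP hc.1 σ ^ 3) v = v
          rw [pow_succ', pow_two, MulAut.mul_apply, MulAut.mul_apply, hσf, hσe, map_mul, hσe, hσf,
            hee]
      exact hle (hgen.ge (Subgroup.mem_top v))
    obtain ⟨k, hk⟩ := hA (resAut hP hc.1 σ.1)
    have h2 : cosetRho hP hc.1 σ ^ 2 ^ k = 1 := by
      show (modFrattini _ (resAut hP hc.1 σ.1)) ^ 2 ^ k = 1
      rw [← map_pow, hk, map_one]
    have h1 : cosetRho hP hc.1 σ = 1 := by
      have := (pow_gcd_eq_one (a := cosetRho hP hc.1 σ)).2 ⟨h3, h2⟩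
      rwa [((Nat.coprime_primes Nat.prime_three Nat.prime_two).2 (by norm_num)).pow_right k,
        pow_one] at this
    exact hef (by rw [h1]; rfl)
  -- `C_P(P ⊓ Q) ≤ P ⊓ Q`
  have hQn : Q ≤ Subgroup.normalizer (P : Set Ω) := by
    intro q hq
    refine Subgroup.mem_normalizer_fintype (S := (P : Set Ω)) fun n hn => ?_
    have hle : Subgroup.zpowers n ≤ P := Subgroup.zpowers_le.2 hn
    exact hP.2 _ hle _ (F.conj_mem (hle.trans hP.1) (hc.1 hq)) ⟨n, Subgroup.mem_zpowers n⟩
  set C := P ⊓ Subgroup.centralizer ((P ⊓ Q : Subgroup Ω) : Set Ω) with hC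
  have hCQ : C ≤ P ⊓ Q := by
    refine le_inf inf_le_left (le_sup_left.trans (FusionAlperin.le_of_normalizer_self hS
      (sup_le (inf_le_left.trans hP.1) hc.1) le_sup_right fun g hgK hgN => ?_))
    have hQC : Q ≤ Subgroup.normalizer (C : Set Ω) := by
      intro q hq
      haveI : Finite C := finite_of_le ‹_› (inf_le_left.trans hP.1)
      refine Subgroup.mem_normalizer_fintype (S := (C : Set Ω)) fun n hn => ⟨?_, ?_⟩
      · exact (Subgroup.mem_normalizer_iff.1 (hQn hq) n).1 hn.1
      · refine Subgroup.mem_centralizer_iff.2 fun a ha => ?_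
        have ha' : q⁻¹ * a * q ∈ P ⊓ Q :=
          ⟨(Subgroup.mem_normalizer_iff''.1 (hQn hq) a).1 ha.1,
            Q.mul_mem (Q.mul_mem (Q.inv_mem hq) ha.2) hq⟩
        have h := Subgroup.mem_centralizer_iff.1 hn.2 _ ha'
        calc a * (q * n * q⁻¹) = q * ((q⁻¹ * a * q) * n) * q⁻¹ := by group
          _ = q * (n * (q⁻¹ * a * q)) * q⁻¹ := by rw [h]
          _ = q * n * q⁻¹ * a := by group
    have hmem : g ∈ ((C : Set Ω) * (Q : Set Ω) : Set Ω) := by
      rw [← Subgroup.coe_mul_of_right_le_normalizer_left C Q hQC]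
      exact hgK
    obtain ⟨a, ha, b, hb, rfl⟩ := hmem
    have haN : a ∈ Subgroup.normalizer (Q : Set Ω) := by
      have h := mul_mem hgN (inv_mem (Subgroup.le_normalizer hb))
      rwa [mul_inv_cancel_right] at h
    refine mul_mem ?_ hb
    by_contra haQ
    refine conjStab_rho_ne_one hS hP hc hr ha.1 haN haQ (MulEquiv.ext fun u =>
      QuotientGroup.induction_on u fun z => ?_)
    rw [cosetRho_apply, MulAut.one_apply]
    refine congrArg _ (Subtype.ext ?_)
    show a * (z : Ω) * a⁻¹ = z
    rw [← Subgroup.mem_centralizer_iff.1 ha.2 _ z.2, mul_inv_cancel_right]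
  set A := (P ⊓ Q).subgroupOf P
  have hCA : Subgroup.centralizer (A : Set P) ≤ A := by
    intro g hg
    refine Subgroup.mem_subgroupOf.2 (hCQ ⟨g.2, Subgroup.mem_centralizer_iff.2 fun a ha => ?_⟩)
    exact congrArg Subtype.val (Subgroup.mem_centralizer_iff.1 hg ⟨a, ha.1⟩ ha)
  have eA : A ≃* ↥(P ⊓ Q) := Subgroup.subgroupOfEquivOfLe inf_le_left
  have hPp : IsPGroup 2 P := hS.to_le hP.1
  have h4 : (commutator ↥P).index = 4 := by
    rcases S1896.result hH hmQ hAut with ⟨⟨e8⟩⟩ | ⟨n, ⟨e2⟩⟩
    · exact index_commutator_of_self_centralizing_quaternion hPp A (eA.trans e8) hCA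
    by_cases hn : n = 1
    · subst hn
      refine index_commutator_of_self_centralizing_four hPp A ?_ (fun a ha => ?_) hCA
      · rw [Nat.card_congr (eA.trans e2).toEquiv]
        simp
      · have h : ((eA.trans e2) ⟨a, ha⟩) ^ 2 = 1 := by
          exact four_pow_two _
        rw [← map_pow, MulEquiv.map_eq_one_iff] at h
        exact congrArg Subtype.val h
    exfalso
    have hcommQ : ∀ a b : ↥(P ⊓ Q), a * b = b * a := fun a b =>
      e2.injective (by rw [map_mul, map_mul, mul_comm])
    obtain ⟨f0, hf0⟩ := QuotientGroup.mk_surjective f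
    set c := f0⁻¹ * resAut hP hc.1 τ.1 f0 with hcdef
    have hce : (QuotientGroup.mk c : ↥(P ⊓ Q) ⧸ frattini ↥(P ⊓ Q)) = e := by
      rw [QuotientGroup.mk_mul, QuotientGroup.mk_inv, ← cosetRho_apply, hf0, hTf, inv_mul_cancel_left]
    have he1 : e ≠ 1 := by
      intro h
      refine hτ (MulEquiv.ext fun v => ?_)
      have hle : Subgroup.closure {e, f} ≤
          MonoidHom.eqLocus (cosetRho hP hc.1 τ).toMonoidHom (MonoidHom.id _) := by
        rw [Subgroup.closure_le]
        rintro v (rfl | rfl)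
        · exact hTe
        · show cosetRho hP hc.1 τ v = v
          rw [hTf, h, mul_one]
      exact hle (hgen.ge (Subgroup.mem_top v))
    -- `c` is inverted by `x` and is not an involution
    have hτ2 : ∀ z : ↥(P ⊓ Q), resAut hP hc.1 τ.1 (resAut hP hc.1 τ.1 z) = z := by
      intro z
      refine Subtype.ext ?_
      show x * (x * (z : Ω) * x⁻¹) * x⁻¹ = z
      have h := congrArg Subtype.val (hcommQ ⟨x ^ 2, P.pow_mem hxP 2, hxp⟩ z)
      rw [show x * (x * (z : Ω) * x⁻¹) * x⁻¹ = x ^ 2 * (z : Ω) * (x ^ 2)⁻¹ by rw [pow_two]; group]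
      rw [show x ^ 2 * (z : Ω) = (z : Ω) * x ^ 2 from h, mul_inv_cancel_right]
    have hcinv : resAut hP hc.1 τ.1 c = c⁻¹ := by
      rw [hcdef, map_mul, map_inv, hτ2, mul_inv_rev, inv_inv]
    have hc2 : c ≠ c⁻¹ := by
      intro h
      refine he1 ?_
      rw [← hce]
      refine (QuotientGroup.eq_one_iff c).2 ?_
      have h2 : e2 c * e2 c = 1 := by
        rw [← map_mul]
        nth_rw 2 [h]
        rw [mul_inv_cancel, map_one]
      rcases n with _ | m
      · haveI : Subsingleton (ZMod (2 ^ 0)) := inferInstanceAs (Subsingleton (Fin 1))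
        have : c = 1 := e2.injective (Prod.ext (Multiplicative.toAdd.injective (Subsingleton.elim _ _))
          (Multiplicative.toAdd.injective (Subsingleton.elim _ _)))
        rw [this]
        exact one_mem _
      have hsq : ∀ u : ZMod (2 ^ (m + 1)), u + u = 0 → ∃ w, u = w + w := by
        intro u hu
        have hdvd : 2 ^ (m + 1) ∣ u.val + u.val := by
          rw [← ZMod.natCast_eq_zero_iff, Nat.cast_add, ZMod.natCast_zmod_val, hu]
        obtain ⟨w, hw⟩ : 2 ∣ u.val := by
          have hd' : 2 * 2 ^ m ∣ 2 * u.val := by rw [← pow_succ' 2 m, two_mul]; exact hdvd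
          exact dvd_trans (dvd_pow_self 2 (by omega)) (Nat.dvd_of_mul_dvd_mul_left two_pos hd')
        exact ⟨w, by rw [← Nat.cast_add, ← two_mul, ← hw, ZMod.natCast_zmod_val]⟩
      obtain ⟨w₁, hw₁⟩ := hsq (Multiplicative.toAdd (e2 c).1) (congrArg (fun z => Multiplicative.toAdd z.1) h2)
      obtain ⟨w₂, hw₂⟩ := hsq (Multiplicative.toAdd (e2 c).2) (congrArg (fun z => Multiplicative.toAdd z.2) h2)
      have : c = (e2.symm (Multiplicative.ofAdd w₁, Multiplicative.ofAdd w₂)) ^ 2 := by
        apply e2.injective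
        rw [map_pow, MulEquiv.apply_symm_apply, pow_two]
        exact Prod.ext (by simpa using congrArg Multiplicative.ofAdd hw₁)
          (by simpa using congrArg Multiplicative.ofAdd hw₂)
      rw [this]
      exact PGroup.pow_mem_frattini hH _
    -- the metacyclic subgroup `(P ⊓ Q)⟨x⟩`
    set R := (P ⊓ Q) ⊔ Subgroup.zpowers x
    have hxn : Subgroup.zpowers x ≤ Subgroup.normalizer ((P ⊓ Q : Subgroup Ω) : Set Ω) := by
      refine Subgroup.zpowers_le.2 (Subgroup.mem_normalizer_fintype
        (S := ((P ⊓ Q : Subgroup Ω) : Set Ω)) fun z hz => ?_)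
      exact (resAut hP hc.1 τ.1 ⟨z, hz⟩).2
    have hmem : ∀ g ∈ R, g ∈ P ⊓ Q ∨ x⁻¹ * g ∈ P ⊓ Q := by
      intro g hg
      replace hg : g ∈ Subgroup.zpowers x ⊔ (P ⊓ Q) := by rw [sup_comm]; exact hg
      have hg' : g ∈ ((Subgroup.zpowers x : Set Ω) * ((P ⊓ Q : Subgroup Ω) : Set Ω) : Set Ω) := by
        rw [← Subgroup.coe_mul_of_left_le_normalizer_right _ _ hxn]
        exact hg
      obtain ⟨_, ⟨k, rfl⟩, b, hb, rfl⟩ := hg'
      rcases Int.even_or_odd' k with ⟨j, rfl | rfl⟩
      · refine Or.inl (mul_mem ?_ hb)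
        show x ^ (2 * j) ∈ P ⊓ Q
        rw [zpow_mul]
        exact zpow_mem (show x ^ (2 : ℤ) ∈ P ⊓ Q from
          ⟨P.zpow_mem hxP 2, by rw [zpow_two, ← pow_two]; exact hxp⟩) j
      · refine Or.inr ?_
        show x⁻¹ * (x ^ (2 * j + 1) * b) ∈ P ⊓ Q
        rw [← mul_assoc, zpow_add_one, ← (Commute.self_zpow x (2 * j)).eq, inv_mul_cancel_left,
          zpow_mul]
        exact mul_mem (zpow_mem (show x ^ (2 : ℤ) ∈ P ⊓ Q from
          ⟨P.zpow_mem hxP 2, by rw [zpow_two, ← pow_two]; exact hxp⟩) j) hb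
    obtain ⟨K, hKn, hKc, hKq⟩ := isMetacyclic_of_le (sup_le inf_le_left
      (Subgroup.zpowers_le.2 hxP) : R ≤ P) hm
    haveI := hKn
    haveI := hKc
    haveI := hKq
    let xR : R := ⟨x, Subgroup.mem_sup_right (Subgroup.mem_zpowers x)⟩
    let ι : ↥(P ⊓ Q) →* R := Subgroup.inclusion le_sup_left
    have hcK : ι c ∈ K := by
      have h : ι c = (ι f0)⁻¹ * (xR * ι f0 * xR⁻¹) := rfl
      rw [h, ← QuotientGroup.eq_one_iff]
      rw [QuotientGroup.mk_mul, QuotientGroup.mk_inv, QuotientGroup.mk_mul, QuotientGroup.mk_mul,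
        QuotientGroup.mk_inv, (IsCyclic.commutative (α := R ⧸ K)).is_comm.comm (QuotientGroup.mk xR),
        mul_inv_cancel_right, inv_mul_cancel]
    have hKQ : ∀ k ∈ K, (k : Ω) ∈ P ⊓ Q := by
      intro k hk
      refine (hmem k k.2).resolve_right fun hk' => hc2 ?_
      have hcom := congrArg (fun z : K => ((z : R) : Ω))
        ((IsCyclic.commutative (α := K)).is_comm.comm ⟨k, hk⟩ ⟨ι c, hcK⟩)
      have h1 : (k : Ω) * c * (k : Ω)⁻¹ = ((resAut hP hc.1 τ.1 c : ↥(P ⊓ Q)) : Ω) := by
        have h2 := congrArg Subtype.val (hcommQ ⟨_, hk'⟩ c)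
        show (k : Ω) * c * (k : Ω)⁻¹ = x * (c : Ω) * x⁻¹
        calc (k : Ω) * c * (k : Ω)⁻¹ = x * (x⁻¹ * k * c) * (x⁻¹ * k)⁻¹ * x⁻¹ := by group
          _ = _ := by rw [show x⁻¹ * (k : Ω) * c = c * (x⁻¹ * k) from h2]; group
      rw [show (k : Ω) * c = c * k from hcom, mul_inv_cancel_right, hcinv] at h1
      exact Subtype.ext h1
    obtain ⟨gq, hgq⟩ := IsCyclic.exists_generator (α := R ⧸ K)
    obtain ⟨g, rfl⟩ := QuotientGroup.mk_surjective gq
    have hgx : x⁻¹ * (g : Ω) ∈ P ⊓ Q := by
      refine (hmem g g.2).resolve_left fun hg => ?_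
      obtain ⟨k, hk⟩ := Subgroup.mem_zpowers_iff.1 (hgq (xR : R ⧸ K))
      rw [← QuotientGroup.mk_zpow, QuotientGroup.eq] at hk
      have h := (P ⊓ Q).mul_mem ((P ⊓ Q).zpow_mem hg k) (hKQ _ hk)
      refine hxQ ?_
      have h2 : ((g : Ω) ^ k) * ((((g ^ k)⁻¹ * xR : R)) : Ω) = x := by
        rw [Subgroup.coe_mul, Subgroup.coe_inv, SubgroupClass.coe_zpow, mul_inv_cancel_left]
      rw [h2] at h
      exact h.2
    -- all classes in `(P ⊓ Q)/Φ` are fixed by `x`
    set Fx : Subgroup ↥(P ⊓ Q) := (MonoidHom.eqLocus (cosetRho hP hc.1 τ).toMonoidHom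
      (MonoidHom.id _)).comap (QuotientGroup.mk' (frattini ↥(P ⊓ Q)))
    refine hτ (MulEquiv.ext fun u => QuotientGroup.induction_on u fun q => ?_)
    obtain ⟨k, hk⟩ := Subgroup.mem_zpowers_iff.1 (hgq (ι q : R ⧸ K))
    rw [← QuotientGroup.mk_zpow, QuotientGroup.eq] at hk
    set k0 : ↥(P ⊓ Q) := ⟨_, hKQ _ hk⟩
    -- elements of `K`
    have hk0 : k0 ∈ Fx := by
      obtain ⟨g0, hg0⟩ := IsCyclic.exists_generator (α := K)
      have hx0 : xR * (g0 : R) * xR⁻¹ ∈ K := hKn.conj_mem _ g0.2 xR
      obtain ⟨j, hj⟩ := Subgroup.mem_zpowers_iff.1 (hg0 ⟨_, hx0⟩)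
      obtain ⟨i, hi⟩ := Subgroup.mem_zpowers_iff.1 (hg0 ⟨_, hk⟩)
      set g1 : ↥(P ⊓ Q) := ⟨_, hKQ _ g0.2⟩
      have hj' : resAut hP hc.1 τ.1 g1 = g1 ^ j := by
        refine Subtype.ext ?_
        rw [SubgroupClass.coe_zpow]
        have h := congrArg (fun z : K => ((z : R) : Ω)) hj
        simp only [SubgroupClass.coe_zpow] at h
        exact h.symm
      have hi' : k0 = g1 ^ i := by
        refine Subtype.ext ?_
        rw [SubgroupClass.coe_zpow]
        have h := congrArg (fun z : K => ((z : R) : Ω)) hi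
        simp only [SubgroupClass.coe_zpow] at h
        exact h.symm
      rw [hi']
      refine zpow_mem ?_ i
      show cosetRho hP hc.1 τ (QuotientGroup.mk g1) = QuotientGroup.mk g1
      rcases Int.even_or_odd' j with ⟨l, rfl | rfl⟩
      · have h0 : cosetRho hP hc.1 τ (QuotientGroup.mk g1) = 1 := by
          rw [cosetRho_apply, hj', QuotientGroup.mk_zpow, zpow_mul, zpow_two, ← pow_two, hexp,
            one_zpow]
        rw [h0, ((cosetRho hP hc.1 τ).map_eq_one_iff).1 h0]
      · rw [cosetRho_apply, hj', QuotientGroup.mk_zpow, zpow_add_one, zpow_mul, zpow_two, ← pow_two,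
          hexp, one_zpow, one_mul]
    -- the powers of `g` lying in `P ⊓ Q`
    have hgk : (g : Ω) ^ k ∈ P ⊓ Q := by
      have h : (g : Ω) ^ k = (q : Ω) * (k0 : Ω)⁻¹ := by
        show (g : Ω) ^ k = (q : Ω) * ((((g ^ k)⁻¹ * ι q : R)) : Ω)⁻¹
        rw [Subgroup.coe_mul, Subgroup.coe_inv, SubgroupClass.coe_zpow, mul_inv_rev, inv_inv]
        exact (mul_inv_cancel_left _ _).symm
      rw [h]
      exact mul_mem q.2 (inv_mem k0.2)
    have hgk' : (⟨_, hgk⟩ : ↥(P ⊓ Q)) ∈ Fx := by
      show cosetRho hP hc.1 τ (QuotientGroup.mk (⟨_, hgk⟩ : ↥(P ⊓ Q))) = QuotientGroup.mk _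
      rw [cosetRho_apply]
      refine congrArg _ (Subtype.ext ?_)
      show x * (g : Ω) ^ k * x⁻¹ = (g : Ω) ^ k
      have h2 := congrArg Subtype.val (hcommQ ⟨_, hgx⟩ ⟨_, hgk⟩)
      calc x * (g : Ω) ^ k * x⁻¹ = x * ((g : Ω) ^ k * (x⁻¹ * g)) * (g : Ω)⁻¹ := by group
        _ = x * (x⁻¹ * g * (g : Ω) ^ k) * (g : Ω)⁻¹ := by
          rw [show (x⁻¹ * (g : Ω)) * (g : Ω) ^ k = (g : Ω) ^ k * (x⁻¹ * g) from h2]
        _ = (g : Ω) ^ k := by group
    have hq' : q = ⟨_, hgk⟩ * k0 := by
      refine Subtype.ext ?_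
      show (q : Ω) = (g : Ω) ^ k * ((((g ^ k)⁻¹ * ι q : R)) : Ω)
      rw [Subgroup.coe_mul, Subgroup.coe_inv, SubgroupClass.coe_zpow, mul_inv_cancel_left]
      rfl
    have hmemq : q ∈ Fx := hq' ▸ mul_mem hgk' hk0
    exact hmemq
  rcases TwoGroups.cases_of_index_commutator_eq_four hPp h4 with h | ⟨n, -, h | h | h⟩
  · haveI := Fintype.ofFinite P
    have hcm : ∀ a b : P, a * b = b * a := fun a b => by
      have := IsPGroup.isMulCommutative_of_card_eq_prime_sq (p := 2) (G := P) (by rw [h]; norm_num)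
      exact this.is_comm.comm a b
    -- order four: `P` is cyclic or a four group, dihedral
    have hnot : ¬ IsCyclic P := by
      intro hcyc
      have hAc : IsCyclic ↥(P ⊓ Q) := isCyclic_of_injective (Subgroup.inclusion inf_le_left)
        (Subgroup.inclusion_injective _)
      exact hAut (fun a => by
        have hall : IsPGroup 2 (MulAut ↥(P ⊓ Q)) := by
          obtain ⟨k, hk⟩ := hH.exists_card_eq
          refine IsPGroup.iff_card.2 ?_
          rw [Nat.card_congr (IsCyclic.mulAutMulEquiv ↥(P ⊓ Q)).toEquiv, Nat.card_eq_fintype_card,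
            ZMod.card_units_eq_totient, hk]
          rcases k with _ | k
          · exact ⟨0, by simp⟩
          · exact ⟨k, by rw [Nat.totient_prime_pow Nat.prime_two (Nat.succ_pos k)]; simp⟩
        exact hall a)
    haveI : IsKleinFour P := ⟨h, by
      haveI : Nontrivial P := Finite.one_lt_card_iff_nontrivial.1 (by omega)
      rw [Monoid.exponent_eq_prime_iff Nat.prime_two]
      intro g hg
      obtain ⟨k, hk2, hk⟩ := (Nat.dvd_prime_pow Nat.prime_two).1
        (show orderOf g ∣ 2 ^ 2 by rw [show (2 : ℕ) ^ 2 = Nat.card P from h.symm]; exact orderOf_dvd_natCard g)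
      interval_cases k
      · exact absurd (orderOf_eq_one_iff.1 (by simpa using hk)) hg
      · simpa using hk
      · exact absurd (isCyclic_of_orderOf_eq_card g (by rw [hk, h]; norm_num)) hnot⟩
    exact hd ⟨2, IsKleinFour.nonempty_mulEquiv⟩
  · exact hd ⟨_, h⟩
  · exact hq ⟨_, h⟩
  · exact hsd h

end Cfsg.Agent.FusionSys
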