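import Cfsg.Agent.FusionSys.MetacyclicTwist
import Cfsg.Agent.S0638

/-!
For odd `p`, a metacyclic strongly closed subgroup is normal in the fusion system.
-/
set_option autoImplicit false

open Cfsg Cfsg.FusionSystem
open scoped commutatorElement

namespace Cfsg.Agent.FusionSys

variable {Ω : Type*} [Group Ω] {S : Subgroup Ω}

/-- In a metacyclic `p`-group, `p` odd, elements of order dividing `p` commute. -/
theorem commute_of_pow_eq_one_of_metacyclic {R : Type*} [Group R] [Finite R] {p : ℕ}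
    [Fact p.Prime] (hp : p ≠ 2) (hR : IsPGroup p R) (hm : Cfsg.IsMetacyclic R) {a b : R}
    (ha : a ^ p = 1) (hb : b ^ p = 1) : a * b = b * a := by
  by_cases hc : IsCyclic R
  · haveI := hc
    exact (IsCyclic.commutative (α := R)).is_comm.comm a b
  obtain ⟨⟨hab, -⟩, -⟩ := S0638.result hp hR hm hc
  exact congrArg Subtype.val (hab.is_comm.comm
    (⟨a, Subgroup.subset_closure ⟨Subgroup.mem_top a, ha⟩⟩ : Cfsg.omegaOne p (⊤ : Subgroup R))
    ⟨b, Subgroup.subset_closure ⟨Subgroup.mem_top b, hb⟩⟩)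

theorem isNormal_of_metacyclic_odd [Finite S] {p : ℕ} [Fact p.Prime] (hp : p ≠ 2)
    (hS : IsPGroup p S) {F : FusionSystem S} (hF : F.IsSaturated p) {P : Subgroup Ω}
    (hP : F.StronglyClosed P) (hm : Cfsg.IsMetacyclic ↥P) : F.IsNormal P := by
  refine FusionAux.isNormal_of_sc_radical hS hF hP fun Q _ hc hr => ?_
  by_contra hne
  obtain ⟨x, hxP, hxN, hxQ, hxp⟩ := exists_outside hS hP hc.1 hne
  haveI : Finite ↥(P ⊓ Q) := finite_of_le ‹_› (inf_le_right.trans hc.1)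
  have hH : IsPGroup p ↥(P ⊓ Q) := hS.to_le (inf_le_right.trans hc.1)
  have hexp : ∀ v : ↥(P ⊓ Q) ⧸ frattini ↥(P ⊓ Q), v ^ p = 1 := fun v =>
    QuotientGroup.induction_on v fun z =>
      (QuotientGroup.eq_one_iff (z ^ p)).2 (PGroup.pow_mem_frattini hH z)
  have hcomm : ∀ a b : ↥(P ⊓ Q) ⧸ frattini ↥(P ⊓ Q), a * b = b * a := fun a b =>
    QuotientGroup.induction_on a fun u => QuotientGroup.induction_on b fun w => by
      refine QuotientGroup.eq.2 ?_
      have h : (u * w)⁻¹ * (w * u) = ⁅w⁻¹, u⁻¹⁆ := by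
        rw [commutatorElement_def]; group
      rw [h]
      exact PGroup.commutatorElement_mem_frattini hH _ _
  have hcard := card_frattini_quotient_le hH (isMetacyclic_of_le inf_le_left hm)
  set τ := conjStab hP hc.1 hxP hxN
  set ρ := cosetRho hP hc.1
  have hτ := conjStab_rho_ne_one hS hP hc hr hxP hxN hxQ
  obtain ⟨σ, hσ⟩ := exists_inversion hp hexp hcomm hcard ρ (cosetRho_ker_isPGroup hS hP hc.1) τ
    (conjStab_pow hS hP hc.1 hxP hxN) hτ fun M hMn hMp hM =>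
      hxQ (cosetStab_pNormal hP hc hr ⟨hP.1 hxP, hxN⟩ M hMn hMp hM fun _ => rfl)
  obtain ⟨N, hQN, hxm, ψ, hψ, hψe, ha⟩ := exists_extension hS hF hP hc hr hxP hxN σ
    (MulEquiv.ext fun v => by
      rw [MulAut.mul_apply, MulAut.mul_apply, hσ, hσ, map_inv])
  set a : ↥(P ⊓ Q) := ⟨_, ha⟩
  set h2 := (p + 1) / 2 with hh2
  set v : ↥(P ⊓ Q) := a ^ h2
  set y : Ω := x * (v : Ω) with hy
  have hyP : y ∈ P := P.mul_mem hxP v.2.1
  have hyN : y ∈ Subgroup.normalizer (Q : Set Ω) := mul_mem hxN (Subgroup.le_normalizer v.2.2)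
  have hyp : y ^ p ∈ Q := by
    have h : ∀ n : ℕ, y ^ n * (x ^ n)⁻¹ ∈ Q := by
      intro n
      induction n with
      | zero => simp
      | succ n ih =>
        have h1 := (Subgroup.mem_normalizer_iff.1 hxN _).1 (Q.mul_mem v.2.2 ih)
        have h2 : y ^ (n + 1) * (x ^ (n + 1))⁻¹ = x * ((v : Ω) * (y ^ n * (x ^ n)⁻¹)) * x⁻¹ := by
          rw [pow_succ' y n, pow_succ' x n, hy, mul_inv_rev]; group
        rw [h2]
        exact h1
    have := Q.mul_mem (h p) hxp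
    simpa using this
  set z : ↥(P ⊓ Q) := ⟨y ^ p, P.pow_mem hyP p, hyp⟩
  -- the quotient by `Φ(P ⊓ Q)` inside `P`
  set Φ : Subgroup Ω := (frattini ↥(P ⊓ Q)).map (P ⊓ Q).subtype with hΦ
  set R : Subgroup Ω := P ⊓ Subgroup.normalizer (Φ : Set Ω)
  haveI : Finite R := finite_of_le ‹_› (inf_le_left.trans hP.1)
  haveI : (Φ.subgroupOf R).Normal := by
    refine ⟨fun n hn g => ?_⟩
    exact (Subgroup.mem_normalizer_iff.1 g.2.2 _).1 hn
  set π := QuotientGroup.mk' (Φ.subgroupOf R)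
  have hQR : P ⊓ Q ≤ R := by
    refine le_inf inf_le_left fun g hg => Subgroup.mem_normalizer_iff.2 fun n => ?_
    constructor
    · rintro ⟨m, hm', rfl⟩
      exact ⟨⟨g, hg⟩ * m * ⟨g, hg⟩⁻¹, (Subgroup.Normal.conj_mem inferInstance m hm' _), rfl⟩
    · rintro ⟨m, hm', hmn⟩
      refine ⟨⟨g, hg⟩⁻¹ * m * ⟨g, hg⟩, ?_, ?_⟩
      · simpa using (Subgroup.Normal.conj_mem inferInstance m hm' (⟨g, hg⟩ : ↥(P ⊓ Q))⁻¹)
      · show g⁻¹ * (m : Ω) * g = n
        rw [show (m : Ω) = g * n * g⁻¹ from hmn]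
        group
  have hπeq : ∀ u w : ↥(P ⊓ Q), π (Subgroup.inclusion hQR u) = π (Subgroup.inclusion hQR w) ↔
      (QuotientGroup.mk u : ↥(P ⊓ Q) ⧸ frattini ↥(P ⊓ Q)) = QuotientGroup.mk w := by
    intro u w
    rw [QuotientGroup.mk'_apply, QuotientGroup.mk'_apply, QuotientGroup.eq, QuotientGroup.eq,
      Subgroup.mem_subgroupOf, hΦ]
    exact Subgroup.mem_map_iff_mem (f := (P ⊓ Q).subtype) Subtype.coe_injective
      (x := u⁻¹ * w) (K := frattini ↥(P ⊓ Q))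
  have hxR : x ∈ R := by
    refine ⟨hxP, ?_⟩
    haveI : Finite Φ := finite_of_le ‹_› ((Subgroup.map_subtype_le _).trans (inf_le_left.trans hP.1))
    refine Subgroup.mem_normalizer_fintype (S := (Φ : Set Ω)) ?_
    rintro _ ⟨m, hm', rfl⟩
    exact ⟨resAut hP hc.1 τ.1 m, Subgroup.characteristic_iff_map_eq.1 inferInstance
      (resAut hP hc.1 τ.1) |>.le ⟨m, hm', rfl⟩, rfl⟩
  have hyR : y ∈ R := mul_mem hxR (hQR v.2)
  -- `y ^ p ∈ Φ`
  have hzΦ : (QuotientGroup.mk z : ↥(P ⊓ Q) ⧸ frattini ↥(P ⊓ Q)) = 1 := by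
    set σv := resAut hP hc.1 σ.1 v
    set w : ↥(P ⊓ Q) := v⁻¹ * a * σv with hw
    have hyN' : y ∈ N := mul_mem hxm (hQN v.2.2)
    have hψy : ψ ⟨y, hyN'⟩ = y * (w : Ω) := by
      have h1 : (⟨y, hyN'⟩ : N) = ⟨x, hxm⟩ * Subgroup.inclusion hQN ⟨v, v.2.2⟩ := rfl
      rw [h1, map_mul, hψe]
      show _ = x * (v : Ω) * ((v : Ω)⁻¹ * (x⁻¹ * ψ ⟨x, hxm⟩) * (σv : Ω))
      rw [show ((σ.1 : MulAut Q) ⟨v, v.2.2⟩ : Ω) = (σv : Ω) from rfl]
      group
    have hwΦ : π (Subgroup.inclusion hQR w) = 1 := by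
      rw [← map_one π, ← map_one (Subgroup.inclusion hQR), hπeq, hw]
      set ā : ↥(P ⊓ Q) ⧸ frattini ↥(P ⊓ Q) := QuotientGroup.mk a with hā
      have hσv : (QuotientGroup.mk σv : ↥(P ⊓ Q) ⧸ frattini ↥(P ⊓ Q)) = (ā ^ h2)⁻¹ := by
        rw [← cosetRho_apply, hσ]
        rfl
      rw [QuotientGroup.mk_mul, QuotientGroup.mk_mul, QuotientGroup.mk_inv, hσv, QuotientGroup.mk_one,
        show (QuotientGroup.mk v : ↥(P ⊓ Q) ⧸ frattini ↥(P ⊓ Q)) = ā ^ h2 from rfl, ← hā,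
        hcomm (ā ^ h2)⁻¹ ā, mul_assoc, ← mul_inv_rev, ← pow_add, mul_inv_eq_one]
      have h3 : h2 + h2 = p + 1 := by
        have := (Fact.out : p.Prime).odd_of_ne_two hp
        obtain ⟨c, hc'⟩ := this
        omega
      rw [h3, pow_succ, hexp, one_mul]
    have hψp : ((σ.1 : MulAut Q) ⟨z, hyp⟩ : Ω) = (y * (w : Ω)) ^ p := by
      rw [← hψy, ← map_pow, ← hψe]
      rfl
    have h1 : π (Subgroup.inclusion hQR (resAut hP hc.1 σ.1 z)) =
        π (Subgroup.inclusion hQR z) := by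
      have e1 : Subgroup.inclusion hQR (resAut hP hc.1 σ.1 z) =
          ((⟨y, hyR⟩ : R) * Subgroup.inclusion hQR w) ^ p := Subtype.ext hψp
      have e2 : Subgroup.inclusion hQR z = (⟨y, hyR⟩ : R) ^ p := Subtype.ext rfl
      rw [e1, e2, map_pow, map_pow, map_mul, hwΦ, mul_one]
    rw [hπeq, ← cosetRho_apply, hσ, inv_eq_iff_mul_eq_one, ← pow_two] at h1
    obtain ⟨c, hc'⟩ := (Fact.out : p.Prime).odd_of_ne_two hp
    have h4 := hexp (QuotientGroup.mk z)
    rw [hc', pow_succ, pow_mul, h1, one_pow, one_mul] at h4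
    exact h4
  -- elements of order `p` commute in the metacyclic group `R / Φ`
  have hmR : Cfsg.IsMetacyclic (R ⧸ Φ.subgroupOf R) :=
    isMetacyclic_of_surjective π (QuotientGroup.mk'_surjective _) (isMetacyclic_of_le inf_le_left hm)
  have hRp : IsPGroup p (R ⧸ Φ.subgroupOf R) := (hS.to_le (inf_le_left.trans hP.1)).to_quotient _
  apply hτ
  refine MulEquiv.ext fun u => QuotientGroup.induction_on u fun f => ?_
  have hy1 : π ⟨y, hyR⟩ ^ p = 1 := by
    rw [← map_pow, show (⟨y, hyR⟩ : R) ^ p = Subgroup.inclusion hQR z from Subtype.ext rfl,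
      ← map_one π, ← map_one (Subgroup.inclusion hQR), hπeq, hzΦ, QuotientGroup.mk_one]
  have hf1 : π (Subgroup.inclusion hQR f) ^ p = 1 := by
    rw [← map_pow, ← map_pow, ← map_one π, ← map_one (Subgroup.inclusion hQR), hπeq,
      QuotientGroup.mk_pow, hexp, QuotientGroup.mk_one]
  have hcm := commute_of_pow_eq_one_of_metacyclic hp hRp hmR hy1 hf1
  have h5 : π (Subgroup.inclusion hQR (resAut hP hc.1 τ.1 (v * f * v⁻¹))) =
      π (Subgroup.inclusion hQR f) := by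
    have e1 : Subgroup.inclusion hQR (resAut hP hc.1 τ.1 (v * f * v⁻¹)) =
        (⟨y, hyR⟩ : R) * Subgroup.inclusion hQR f * (⟨y, hyR⟩ : R)⁻¹ := by
      refine Subtype.ext ?_
      show x * ((v : Ω) * (f : Ω) * (v : Ω)⁻¹) * x⁻¹ = x * (v : Ω) * (f : Ω) * (x * (v : Ω))⁻¹
      group
    rw [e1, map_mul, map_mul, map_inv, hcm, mul_inv_cancel_right]
  rw [hπeq, ← cosetRho_apply, QuotientGroup.mk_mul, QuotientGroup.mk_mul, QuotientGroup.mk_inv,
    hcomm (QuotientGroup.mk v) (QuotientGroup.mk f), mul_inv_cancel_right] at h5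
  exact h5

end Cfsg.Agent.FusionSys
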