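import Cfsg.Agent.FusionSys.InnerReduction
import Cfsg.Agent.FusionSys.AxiomaticZJ

/-!
The axiomatic Glauberman-Thompson criterion for fusion systems.
-/

set_option autoImplicit false

open Cfsg Cfsg.FusionSystem Cfsg.Agent.FusionSys

namespace Cfsg.Agent.FusionSys.AxiomaticInner

universe u

variable {Ω : Type u} [Group Ω] {S : Subgroup Ω} {p : ℕ} [Fact p.Prime]

/-- In a model the normalizer of a subgroup with `PFixed` is a `p`-group. -/
lemma isPGroup_normalizer_of_model [Finite S] {F : FusionSystem S} {W : Subgroup Ω} (hWS : W ≤ S)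
    (hWn : S ≤ Subgroup.normalizer (W : Set Ω)) (hyp : PFixed p F W) {L : Type u} [Group L]
    {ι : S →* L} (hM : F.IsModel p L ι) :
    IsPGroup p (Subgroup.normalizer (((W.subgroupOf S).map ι : Subgroup L) : Set L)) := by
  obtain ⟨hfin, ⟨hinj, hreal⟩, ⟨T, hT⟩, hc⟩ := hM
  set O := pCore p L with hO
  have hOT : O ≤ ι.range := hT ▸ Cfsg.Agent.Cores.pCore_le_sylow T
  rintro ⟨h, hh⟩
  set R := (O.comap ι).map S.subtype ⊔ W with hR
  have hOS : (O.comap ι).map S.subtype ≤ S := Subgroup.map_subtype_le _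
  have hRS : R ≤ S := sup_le hOS hWS
  have hRN : R ≤ normalizerIn S W := sup_le (le_inf hOS fun a ha => ?_) (le_normalizerIn hWS)
  rotate_left
  · exact hWn (hOS ha)
  set RL := (R.subgroupOf S).map ι with hRL
  have hRLe : RL = O ⊔ (W.subgroupOf S).map ι := by
    rw [hRL, hR, Subgroup.subgroupOf_sup hOS hWS, Subgroup.map_sup]
    congr 1
    rw [Subgroup.subgroupOf, Subgroup.comap_map_eq_self_of_injective S.subtype_injective,
      Subgroup.map_comap_eq, inf_eq_right.2 hOT]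
  have hnR : h ∈ Subgroup.normalizer (RL : Set L) := by
    rw [hRLe]
    exact Subgroup.normalizer_inf_normalizer_le_normalizer_sup _ _
      ⟨(Subgroup.normalizer_eq_top_iff.2 inferInstance).ge (Subgroup.mem_top h), hh⟩
  let e : R ≃* RL := (Subgroup.subgroupOfEquivOfLe hRS).symm.trans
    ((R.subgroupOf S).equivMapOfInjective ι hinj)
  have he : ∀ x : R, ((e x : RL) : L) = ι ⟨x, hRS x.2⟩ := fun x => rfl
  let cL : MulAut RL := RL.normalizerMonoidHom ⟨h, hnR⟩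
  let α : MulAut R := MulAut.congr e.symm cL
  have hα : ∀ x : R, ι ⟨α x, hRS (α x).2⟩ = h * ι ⟨x, hRS x.2⟩ * h⁻¹ := by
    intro x
    rw [← he, ← he, show e (α x) = cL (e x) from e.apply_symm_apply (cL (e x))]
    rfl
  have hαF : α ∈ F.autGroup R :=
    (mem_autGroup_iff_hom F hRS).2 ((hreal R hRS _ fun x => hRS (α x).2).2 ⟨h, hα⟩)
  obtain ⟨k, hk⟩ := hyp R le_sup_right hRN α hαF fun x hx => by
    obtain ⟨w, hw, hwe⟩ := (Subgroup.mem_normalizer_iff.1 hh _).1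
      (Subgroup.mem_map_of_mem ι (show (⟨x, hRS x.2⟩ : S) ∈ W.subgroupOf S from hx))
    rw [← hα] at hwe
    exact congrArg Subtype.val (hinj hwe) ▸ hw
  have hpow : h ^ p ^ k ∈ O := by
    refine hc fun o ho => ?_
    obtain ⟨x, hx⟩ := hOT ho
    have hxR : (x : Ω) ∈ R := Subgroup.mem_sup_left ⟨x, (by show ι x ∈ O; rw [hx]; exact ho), rfl⟩
    have := mulAut_pow_compat (fun y : R => ι ⟨y, hRS y.2⟩) (a := α) (b := MulAut.conj h)
      (fun y => hα y) (p ^ k) ⟨x, hxR⟩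
    rw [hk, ← map_pow, MulAut.one_apply, MulAut.conj_apply, hx] at this
    rw [eq_mul_inv_iff_mul_eq] at this
    exact this
  obtain ⟨m, hm⟩ := Cfsg.Agent.Cores.pCore_isPGroup (p := p) (G := L) ⟨_, hpow⟩
  refine ⟨k + m, Subtype.ext ?_⟩
  show h ^ p ^ (k + m) = 1
  rw [pow_add, pow_mul]
  exact congrArg Subtype.val hm

/-- A family with invariance and replacement transports to a model. -/
lemma family_of_model [Finite S] {F : FusionSystem S} {𝒜 : Set (Subgroup Ω)}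
    (h𝒜 : ∀ A ∈ 𝒜, A ≤ S ∧ IsMulCommutative ↥A) (hne : 𝒜.Nonempty)
    (hinv : ∀ Q : Subgroup Ω, Q ≤ S → (∃ A ∈ 𝒜, A ≤ Q) → ∀ α ∈ F.autGroup Q, ∀ x : ↥Q,
      (x : Ω) ∈ (⨅ A ∈ {A : Subgroup Ω | A ∈ 𝒜 ∧ A ≤ Q}, A) →
        (((α : MulAut ↥Q) x : ↥Q) : Ω) ∈ (⨅ A ∈ {A : Subgroup Ω | A ∈ 𝒜 ∧ A ≤ Q}, A))
    (hrep : ∀ B : Subgroup Ω, B ≤ S → ⁅⁅B, B⁆, B⁆ = ⊥ → (∃ A ∈ 𝒜, ⁅B, B⁆ ≤ A ∧ ¬ B ≤ A) →
      ∃ A ∈ 𝒜, ⁅B, B⁆ ≤ A ∧ ¬ B ≤ A ∧ B ≤ Subgroup.normalizer (A : Set Ω))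
    {L : Type u} [Group L] {ι : S →* L} (hreal : F.IsRealizedBy ι) :
    AxiomaticZJ.Family ι.range ((fun A : Subgroup Ω => (A.subgroupOf S).map ι) '' 𝒜) := by
  obtain ⟨hinj, hreal⟩ := hreal
  let up : Subgroup L → Subgroup Ω := fun Q => (Q.comap ι).map S.subtype
  have hmem : ∀ (A : Subgroup Ω) (x : S), ι x ∈ (A.subgroupOf S).map ι ↔ (x : Ω) ∈ A := fun A x =>
    (Subgroup.mem_map_iff_mem hinj).trans Subgroup.mem_subgroupOf
  have hupmem : ∀ (Q : Subgroup L) (x : S), (x : Ω) ∈ up Q ↔ ι x ∈ Q := fun Q x =>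
    (Subgroup.mem_map_iff_mem S.subtype_injective).trans Subgroup.mem_comap
  have hle : ∀ A ∈ 𝒜, ∀ Q : Subgroup L, ((A.subgroupOf S).map ι ≤ Q ↔ A ≤ up Q) := by
    intro A hA Q
    constructor
    · intro h a ha
      exact (hupmem Q ⟨a, (h𝒜 A hA).1 ha⟩).2 (h ((hmem A ⟨a, (h𝒜 A hA).1 ha⟩).2 ha))
    · rintro h _ ⟨x, hx, rfl⟩
      exact (hupmem Q x).1 (h hx)
  have hupS : ∀ Q, up Q ≤ S := fun Q => Subgroup.map_subtype_le _
  refine ⟨?_, ?_, hne.image _, ?_, ?_⟩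
  · rintro _ ⟨A, -, rfl⟩
    exact Subgroup.map_le_range _ _
  · rintro _ ⟨A, hA, rfl⟩
    haveI := (h𝒜 A hA).2
    refine ⟨⟨?_⟩⟩
    rintro ⟨_, a, ha, rfl⟩ ⟨_, b, hb, rfl⟩
    refine Subtype.ext ?_
    show ι a * ι b = ι b * ι a
    rw [← map_mul, ← map_mul]
    exact congrArg ι (Subtype.ext
      (congrArg Subtype.val (IsMulCommutative.is_comm.comm (⟨a, ha⟩ : A) ⟨b, hb⟩) :))
  · rintro Q hQ ⟨_, ⟨A, hA, rfl⟩, hAQ⟩
    have hAQ' := (hle A hA Q).1 hAQ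
    have hI : ∀ x : S, ι x ∈ sInf {B | B ∈ (fun A : Subgroup Ω => (A.subgroupOf S).map ι) '' 𝒜 ∧
        B ≤ Q} ↔ (x : Ω) ∈ ⨅ A ∈ {A : Subgroup Ω | A ∈ 𝒜 ∧ A ≤ up Q}, A := by
      intro x
      simp only [Subgroup.mem_sInf, Subgroup.mem_iInf]
      constructor
      · rintro h B ⟨hB, hBQ⟩
        exact (hmem B x).1 (h _ ⟨⟨B, hB, rfl⟩, (hle B hB Q).2 hBQ⟩)
      · rintro h _ ⟨⟨B, hB, rfl⟩, hBQ⟩
        exact (hmem B x).2 (h B ⟨hB, (hle B hB Q).1 hBQ⟩)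
    have key : ∀ g ∈ Subgroup.normalizer (Q : Set L), ∀ z,
        z ∈ sInf {B | B ∈ (fun A : Subgroup Ω => (A.subgroupOf S).map ι) '' 𝒜 ∧ B ≤ Q} →
        g * z * g⁻¹ ∈ sInf {B | B ∈ (fun A : Subgroup Ω => (A.subgroupOf S).map ι) '' 𝒜 ∧
          B ≤ Q} := by
      intro g hg z hz
      have hzQ : z ∈ Q := hAQ (Subgroup.mem_sInf.1 hz _ ⟨⟨A, hA, rfl⟩, hAQ⟩)
      obtain ⟨x, rfl⟩ := hQ hzQ
      have hmap : ((up Q).subgroupOf S).map ι = Q := by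
        rw [Subgroup.subgroupOf, Subgroup.comap_map_eq_self_of_injective S.subtype_injective,
          Subgroup.map_comap_eq, inf_eq_right.2 hQ]
      let e : up Q ≃* Q := (Subgroup.subgroupOfEquivOfLe (hupS Q)).symm.trans
        ((((up Q).subgroupOf S).equivMapOfInjective ι hinj).trans (MulEquiv.subgroupCongr hmap))
      have he : ∀ x : up Q, ((e x : Q) : L) = ι ⟨x, hupS Q x.2⟩ := fun x => rfl
      let cL : MulAut Q := Q.normalizerMonoidHom ⟨g, hg⟩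
      let α : MulAut (up Q) := MulAut.congr e.symm cL
      have hα : ∀ x : up Q, ι ⟨α x, hupS Q (α x).2⟩ = g * ι ⟨x, hupS Q x.2⟩ * g⁻¹ := by
        intro x
        rw [← he, ← he, show e (α x) = cL (e x) from e.apply_symm_apply (cL (e x))]
        rfl
      have hαF : α ∈ F.autGroup (up Q) :=
        (mem_autGroup_iff_hom F (hupS Q)).2
          ((hreal (up Q) (hupS Q) _ fun x => hupS Q (α x).2).2 ⟨g, hα⟩)
      have h1 := hinv (up Q) (hupS Q) ⟨A, hA, hAQ'⟩ α hαF ⟨x, (hupmem Q x).2 hzQ⟩ ((hI x).1 hz)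
      rw [← hα ⟨x, (hupmem Q x).2 hzQ⟩]
      exact (hI ⟨_, hupS Q (α ⟨x, (hupmem Q x).2 hzQ⟩).2⟩).2 h1
    intro g hg
    rw [Subgroup.mem_normalizer_iff]
    refine fun z => ⟨key g hg z, fun hz => ?_⟩
    have := key g⁻¹ (inv_mem hg) _ hz
    simpa [mul_assoc] using this
  · rintro B hB hcl ⟨_, ⟨A, hA, rfl⟩, hd, hn⟩
    have hBmap : ((up B).subgroupOf S).map ι = B := by
      rw [Subgroup.subgroupOf, Subgroup.comap_map_eq_self_of_injective S.subtype_injective,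
        Subgroup.map_comap_eq, inf_eq_right.2 hB]
    have hd' : ∀ X Y : Subgroup L, ⁅up X, up Y⁆ = (⁅X.comap ι, Y.comap ι⁆).map S.subtype :=
      fun X Y => (Subgroup.map_commutator _ _ _).symm
    have hcomm : (⁅B.comap ι, B.comap ι⁆).map ι = ⁅B, B⁆ := by
      rw [Subgroup.map_commutator, Subgroup.map_comap_eq, inf_eq_right.2 hB]
    have hcl' : ⁅⁅up B, up B⁆, up B⁆ = ⊥ := by
      rw [hd', ← Subgroup.map_commutator]
      have : ⁅⁅B.comap ι, B.comap ι⁆, B.comap ι⁆ = ⊥ := by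
        apply Subgroup.map_injective hinj
        rw [Subgroup.map_commutator, hcomm, Subgroup.map_comap_eq, inf_eq_right.2 hB, hcl,
          Subgroup.map_bot]
      rw [this, Subgroup.map_bot]
    obtain ⟨A', hA', hdA', hnA', hNA'⟩ := hrep (up B) (hupS B) hcl' ⟨A, hA, by
      rw [hd']
      rintro _ ⟨y, hy, rfl⟩
      exact (hmem A y).1 (hd (hcomm.le (Subgroup.mem_map_of_mem ι hy))), fun h => hn fun b hb => by
        obtain ⟨x, rfl⟩ := hB hb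
        exact (hmem A x).2 (h ((hupmem B x).2 hb))⟩
    refine ⟨_, ⟨A', hA', rfl⟩, ?_, fun h => hnA' fun b hb => ?_, fun b hb => ?_⟩
    · rw [← hcomm]
      rintro _ ⟨y, hy, rfl⟩
      exact (hmem A' y).2 (hdA' ((hd' B B).ge (Subgroup.mem_map_of_mem S.subtype hy)))
    · exact (hmem A' ⟨b, hupS B hb⟩).1 (h ((hupmem B ⟨b, hupS B hb⟩).1 hb))
    · obtain ⟨x, rfl⟩ := hB hb
      refine (Subgroup.le_normalizer_map ι) ⟨x, ?_, rfl⟩
      show x ∈ Subgroup.normalizer ((A'.subgroupOf S : Subgroup S) : Set S)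
      rw [Subgroup.mem_normalizer_iff]
      exact fun y => Subgroup.mem_normalizer_iff.1 (hNA' ((hupmem B x).2 hb)) (y : Ω)

/-- The criterion. -/
theorem inner_iff [Finite S] (hS : IsPGroup p S) {F : FusionSystem S} (hF : F.IsSaturated p)
    (hp : p ≠ 2) (𝒜 : Set (Subgroup Ω)) (h𝒜 : ∀ A ∈ 𝒜, A ≤ S ∧ IsMulCommutative ↥A)
    (hne : 𝒜.Nonempty)
    (hinv : ∀ Q : Subgroup Ω, Q ≤ S → (∃ A ∈ 𝒜, A ≤ Q) → ∀ α ∈ F.autGroup Q, ∀ x : ↥Q,
      (x : Ω) ∈ (⨅ A ∈ {A : Subgroup Ω | A ∈ 𝒜 ∧ A ≤ Q}, A) →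
        (((α : MulAut ↥Q) x : ↥Q) : Ω) ∈ (⨅ A ∈ {A : Subgroup Ω | A ∈ 𝒜 ∧ A ≤ Q}, A))
    (hrep : ∀ B : Subgroup Ω, B ≤ S → ⁅⁅B, B⁆, B⁆ = ⊥ → (∃ A ∈ 𝒜, ⁅B, B⁆ ≤ A ∧ ¬ B ≤ A) →
      ∃ A ∈ 𝒜, ⁅B, B⁆ ≤ A ∧ ¬ B ≤ A ∧ B ≤ Subgroup.normalizer (A : Set Ω)) :
    (∀ P : Subgroup Ω, F.Hom P = (innerFusionSystem S).Hom P) ↔
      ∀ N : FusionSystem (normalizerIn S (⨅ A ∈ 𝒜, A)), F.IsNormalizerSystem (⨅ A ∈ 𝒜, A) N →
        ∀ P : Subgroup Ω, N.Hom P = (innerFusionSystem (normalizerIn S (⨅ A ∈ 𝒜, A))).Hom P := by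
  set W := ⨅ A ∈ 𝒜, A with hW
  have hWS : W ≤ S := by
    obtain ⟨A, hA⟩ := hne
    exact (iInf₂_le A hA).trans (h𝒜 A hA).1
  have hset : (⨅ A ∈ {A : Subgroup Ω | A ∈ 𝒜 ∧ A ≤ S}, A) = W := by
    rw [show {A : Subgroup Ω | A ∈ 𝒜 ∧ A ≤ S} = 𝒜 from
      Set.ext fun A => and_iff_left_of_imp fun h => (h𝒜 A h).1]
  have hWn : S ≤ Subgroup.normalizer (W : Set Ω) := by
    have key : ∀ s ∈ S, ∀ x ∈ W, s * x * s⁻¹ ∈ W := by
      intro s hs x hx
      have hsn : s ∈ Subgroup.normalizer (S : Set Ω) := Subgroup.le_normalizer hs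
      have h := hinv S le_rfl (hne.elim fun A hA => ⟨A, hA, (h𝒜 A hA).1⟩)
        (S.normalizerMonoidHom ⟨s, hsn⟩)
        (autInducedBy_le_autGroup F le_rfl (mem_autInducedBy.2 ⟨s, hs, fun _ => rfl⟩))
        ⟨x, hWS hx⟩ (by rw [hset]; exact hx)
      rw [hset] at h
      exact h
    intro s hs
    rw [Subgroup.mem_normalizer_iff]
    refine fun y => ⟨key s hs y, fun hy => ?_⟩
    have := key s⁻¹ (inv_mem hs) _ hy
    simpa [mul_assoc] using this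
  have hn : normalizerIn S W = S := inf_eq_left.2 hWn
  constructor
  · intro h N hN P
    refine Set.Subset.antisymm (fun φ hφ => ?_) (innerFusionSystem_le N P)
    have h1 := FusionAux.normalizerSystem_hom hN hφ
    rw [h P] at h1
    obtain ⟨hP, g, hg, hge⟩ := h1
    exact ⟨hP.trans hn.ge, g, hn.ge hg, hge⟩
  · intro h P
    have hN := h _ (FusionAux.normSys_spec F W hWS)
    have hfix : PFixed p F W :=
      PFixed.of_pAut_normSys hWS (PAut.of_isPGroup_inner (hS.to_le (normalizerIn_le _))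
        fun Q => (hN Q).subset)
    refine Set.Subset.antisymm (PAut.le_inner hS hF ?_ P) (innerFusionSystem_le F P)
    refine InnerReduction.pAut_of_key hp hS F (fun E hEF hE L _ ι hM => ?_) _ F hF
      (fun _ => subset_rfl) rfl hfix
    obtain ⟨hfin, hreal, ⟨T, hT⟩, hc⟩ := id hM
    have hfam := family_of_model h𝒜 hne
      (fun Q hQ hex α hα => hinv Q hQ hex α (autGroup_mono hEF Q hα)) hrep hreal
    rw [← hT] at hfam
    refine AxiomaticZJ.isPGroup_of_normalizer_sInf hp _ T _ rfl hfam hc ?_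
    have hI : sInf ((fun A : Subgroup Ω => (A.subgroupOf S).map ι) '' 𝒜) =
        (W.subgroupOf S).map ι := by
      refine le_antisymm (fun z hz => ?_) (le_sInf ?_)
      · obtain ⟨A, hA⟩ := hne
        obtain ⟨x, -, rfl⟩ := Subgroup.mem_sInf.1 hz _ ⟨A, hA, rfl⟩
        refine Subgroup.mem_map_of_mem ι (Subgroup.mem_subgroupOf.2 ?_)
        simp only [hW, Subgroup.mem_iInf]
        exact fun B hB => Subgroup.mem_subgroupOf.1
          ((Subgroup.mem_map_iff_mem hreal.1).1 (Subgroup.mem_sInf.1 hz _ ⟨B, hB, rfl⟩))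
      · rintro _ ⟨B, hB, rfl⟩
        exact Subgroup.map_mono (Subgroup.comap_mono (iInf₂_le B hB))
    rw [hI]
    exact isPGroup_normalizer_of_model hWS hWn hE hM

end Cfsg.Agent.FusionSys.AxiomaticInner
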