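import Cfsg.Agent.FusionSys.KNormalizer
import Cfsg.Agent.Cores.Basic
import Cfsg.Agent.FusionAlperin.Alperin

/-!
Tools for the saturation criterion: maps carrying one subgroup onto another, stabilizers of a
subgroup inside a larger one, and `O_p(Aut_F(P))` inside `Aut(P)`.
-/

set_option autoImplicit false

open Cfsg Cfsg.FusionSystem

namespace Cfsg.Agent.FusionSys

variable {Ω : Type*} [Group Ω] {S : Subgroup Ω}

/-- The map `ψ` with source `Y` carries `R ≤ Y` onto `R'`. -/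
def Carries {Y : Subgroup Ω} (ψ : Y →* Ω) (R R' : Subgroup Ω) : Prop :=
  R ≤ Y ∧ (R.subgroupOf Y).map ψ = R'

namespace Carries

variable {Y R R' : Subgroup Ω} {ψ : Y →* Ω}

lemma le (h : Carries ψ R R') : R ≤ Y := h.1

lemma apply_mem (h : Carries ψ R R') {x : Y} (hx : (x : Ω) ∈ R) : ψ x ∈ R' :=
  h.2.le ((mem_map_subgroupOf ψ).2 ⟨x, hx, rfl⟩)

lemma exists_preimage (h : Carries ψ R R') {y : Ω} (hy : y ∈ R') :
    ∃ x : Y, (x : Ω) ∈ R ∧ ψ x = y :=
  (mem_map_subgroupOf ψ).1 (h.2.ge hy)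

lemma mem_iff (h : Carries ψ R R') (hψ : Function.Injective ψ) (x : Y) :
    ψ x ∈ R' ↔ (x : Ω) ∈ R :=
  ⟨fun hx => by
    obtain ⟨z, hz, he⟩ := h.exists_preimage hx
    exact hψ he ▸ hz, h.apply_mem⟩

lemma le_range (h : Carries ψ R R') : R' ≤ ψ.range := fun _ hy => by
  obtain ⟨x, -, rfl⟩ := h.exists_preimage hy
  exact ⟨x, rfl⟩

lemma range_restr_eq (h : Carries ψ R R') : (restr h.1 ψ).range = R' := by
  rw [range_restr, h.2]

lemma card_eq (h : Carries ψ R R') (hψ : Function.Injective ψ) : Nat.card R = Nat.card R' := by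
  rw [← h.range_restr_eq]
  exact Nat.card_congr (MonoidHom.ofInjective
    (f := restr h.1 ψ) (fun a b hab => Subgroup.inclusion_injective h.1 (hψ hab))).toEquiv

lemma restrict (h : Carries ψ R R') {Z : Subgroup Ω} (hRZ : R ≤ Z) (hZY : Z ≤ Y) :
    Carries (restr hZY ψ) R R' := by
  refine ⟨hRZ, ?_⟩
  ext y
  rw [mem_map_subgroupOf]
  constructor
  · rintro ⟨x, hx, rfl⟩
    exact h.apply_mem hx
  · intro hy
    obtain ⟨x, hx, rfl⟩ := h.exists_preimage hy
    exact ⟨⟨x, hRZ hx⟩, hx, rfl⟩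

lemma comp (h : Carries ψ R R') {Q R'' : Subgroup Ω} {φ : Q →* Ω} (h' : Carries φ R' R'')
    (hv : ∀ x, ψ x ∈ Q) : Carries (φ.comp (ψ.codRestrict Q hv)) R R'' := by
  refine ⟨h.1, ?_⟩
  ext y
  rw [mem_map_subgroupOf]
  constructor
  · rintro ⟨x, hx, rfl⟩
    exact h'.apply_mem (h.apply_mem hx)
  · intro hy
    obtain ⟨z, hz, rfl⟩ := h'.exists_preimage hy
    obtain ⟨x, hx, hxz⟩ := h.exists_preimage hz
    exact ⟨x, hx, congrArg φ (Subtype.ext hxz)⟩

lemma of_congr {φ : Y →* Ω} (h : Carries ψ R R') (he : ∀ x, φ x = ψ x) : Carries φ R R' := by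
  rwa [show φ = ψ from MonoidHom.ext he]

lemma mem_normalizer (h : Carries ψ R R') (hY : Y ≤ Subgroup.normalizer (R : Set Ω)) (x : Y) :
    ψ x ∈ Subgroup.normalizer (R' : Set Ω) :=
  map_mem_normalizer h.1 hY h.2 x

end Carries

lemma carries_symm (F : FusionSystem S) {Y Y' R R' : Subgroup Ω} {ψ : Y →* Ω}
    (hψ : ψ ∈ F.Hom Y) (hY' : ψ.range = Y') (h : Carries ψ R R') :
    Carries (Y.subtype.comp (toIso F hψ hY').symm.toMonoidHom) R' R := by
  refine ⟨h.le_range.trans hY'.le, ?_⟩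
  ext y
  rw [mem_map_subgroupOf]
  constructor
  · rintro ⟨z, hz, rfl⟩
    obtain ⟨x, rfl⟩ := (toIso F hψ hY').surjective z
    have hx : (x : Ω) ∈ R := (h.mem_iff (F.injective_of_mem hψ) x).1 hz
    simpa using hx
  · intro hy
    exact ⟨toIso F hψ hY' ⟨y, h.1 hy⟩, h.apply_mem hy, by simp⟩

/-- An isomorphism carries a subgroup onto its image. -/
lemma carries_image {Y Y' R : Subgroup Ω} (e : Y ≃* Y') (hR : R ≤ Y) :
    Carries (Y'.subtype.comp e.toMonoidHom) R
      ((R.subgroupOf Y).map (Y'.subtype.comp e.toMonoidHom)) :=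
  ⟨hR, rfl⟩

lemma carries_conjHom {Y R : Subgroup Ω} {g : Ω} (hR : R ≤ Y)
    (hg : g ∈ Subgroup.normalizer (R : Set Ω)) : Carries (conjHom Y g) R R := by
  refine ⟨hR, ?_⟩
  ext y
  rw [mem_map_subgroupOf]
  constructor
  · rintro ⟨x, hx, rfl⟩
    exact (Subgroup.mem_normalizer_iff.1 hg _).1 hx
  · intro hy
    have h : g⁻¹ * y * g ∈ R := (Subgroup.mem_normalizer_iff.1 hg _).2 (by simpa [mul_assoc] using hy)
    exact ⟨⟨_, hR h⟩, h, by simp [mul_assoc]⟩

/-! ### Stabilizer of a subgroup inside a larger one -/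

/-- The automorphisms of `W` stabilizing `R`. -/
def subStab (W R : Subgroup Ω) : Subgroup (MulAut W) where
  carrier := {α | ∀ x : W, (α x : Ω) ∈ R ↔ (x : Ω) ∈ R}
  one_mem' := fun _ => Iff.rfl
  mul_mem' := fun {α β} hα hβ x => (hα (β x)).trans (hβ x)
  inv_mem' := fun {α} hα x => by
    have := hα (α⁻¹ x)
    rw [show α (α⁻¹ x) = x from α.apply_symm_apply x] at this
    exact this.symm

lemma mem_subStab {W R : Subgroup Ω} {α : MulAut W} :
    α ∈ subStab W R ↔ ∀ x : W, (α x : Ω) ∈ R ↔ (x : Ω) ∈ R :=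
  Iff.rfl

lemma congr_mem_subStab {W W' R R' : Subgroup Ω} {f : W ≃* W'}
    (hf : ∀ x : W, (f x : Ω) ∈ R' ↔ (x : Ω) ∈ R) {α : MulAut W} (hα : α ∈ subStab W R) :
    MulAut.congr f α ∈ subStab W' R' := by
  intro y
  obtain ⟨x, rfl⟩ := f.surjective y
  rw [autCongr_apply, f.symm_apply_apply, hf, hf, hα x]

lemma map_congr_subStab {W W' R R' : Subgroup Ω} {f : W ≃* W'}
    (hf : ∀ x : W, (f x : Ω) ∈ R' ↔ (x : Ω) ∈ R) :
    (subStab W R).map (MulAut.congr f).toMonoidHom = subStab W' R' := by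
  refine le_antisymm ?_ fun β hβ => ⟨MulAut.congr f.symm β,
    congr_mem_subStab (f := f.symm) (fun y => by rw [← hf, f.apply_symm_apply]) hβ,
    MulEquiv.ext fun y => by simp [autCongr_apply]⟩
  rintro _ ⟨α, hα, rfl⟩
  exact congr_mem_subStab hf hα

/-- Restriction of the stabilizer of `R` to `R`. -/
noncomputable def restrStab {W R : Subgroup Ω} (hR : R ≤ W) : subStab W R →* MulAut R :=
  MonoidHom.mk'
    (fun α =>
      { toFun := fun x => ⟨(α : MulAut W) (Subgroup.inclusion hR x),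
          (mem_subStab.1 α.2 _).2 x.2⟩
        invFun := fun x => ⟨(α : MulAut W)⁻¹ (Subgroup.inclusion hR x),
          (mem_subStab.1 (inv_mem α.2) _).2 x.2⟩
        left_inv := fun x => Subtype.ext (congrArg (fun z : W => (z : Ω))
          ((α : MulAut W).symm_apply_apply (Subgroup.inclusion hR x)))
        right_inv := fun x => Subtype.ext (congrArg (fun z : W => (z : Ω))
          ((α : MulAut W).apply_symm_apply (Subgroup.inclusion hR x)))
        map_mul' := fun x y => Subtype.ext (by simp) })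
    fun a b => MulEquiv.ext fun x => Subtype.ext rfl

@[simp] lemma restrStab_coe {W R : Subgroup Ω} (hR : R ≤ W) (α : subStab W R) (x : R) :
    ((restrStab hR α x : R) : Ω) = (α : MulAut W) (Subgroup.inclusion hR x) := rfl

lemma restrStab_mem_autGroup (F : FusionSystem S) {W R : Subgroup Ω} (hR : R ≤ W) (hW : W ≤ S)
    {α : subStab W R} (hα : (α : MulAut W) ∈ F.autGroup W) :
    restrStab hR α ∈ F.autGroup R :=
  (mem_autGroup_iff_hom F (hR.trans hW)).2
    (mem_of_restricts F hR (autGroup_mem_hom F hW hα) fun _ => rfl)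

lemma mem_kNorm_subStab {W R : Subgroup Ω} (hR : R ≤ W) {g : Ω} :
    g ∈ kNorm S W (subStab W R) ↔
      g ∈ normalizerIn S W ∧ g ∈ Subgroup.normalizer (R : Set Ω) := by
  constructor
  · intro hg
    refine ⟨kNorm_le_normalizerIn _ _ hg, ?_⟩
    obtain ⟨-, α, hα, ha⟩ := hg
    refine Subgroup.mem_normalizer_iff.2 fun y => ⟨fun hy => ?_, fun hy => ?_⟩
    · rw [← show (α ⟨y, hR hy⟩ : Ω) = g * y * g⁻¹ from ha ⟨y, hR hy⟩, hα]
      exact hy
    · obtain ⟨x, hx⟩ := α.surjective ⟨g * y * g⁻¹, hR hy⟩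
      have h := ha x
      rw [hx] at h
      obtain rfl : y = (x : Ω) := mul_left_cancel (mul_right_cancel h)
      exact (hα x).1 (hx ▸ hy)
  · rintro ⟨hg, hgR⟩
    exact ⟨hg.1, W.normalizerMonoidHom ⟨g, hg.2⟩,
      fun x => (Subgroup.mem_normalizer_iff.1 hgR x).symm, fun _ => rfl⟩

/-- The restriction of a map carrying `P` onto itself, as an automorphism in the system. -/
lemma exists_aut_of_carries (F : FusionSystem S) {Y P : Subgroup Ω} {ψ : Y →* Ω}
    (hψ : ψ ∈ F.Hom Y) (h : Carries ψ P P) :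
    ∃ α ∈ F.autGroup P, ∀ x : P, (α x : Ω) = ψ (Subgroup.inclusion h.1 x) :=
  ⟨toIso F (restr_mem F h.1 hψ) h.range_restr_eq, toIso_mem_autGroup F _ _, fun _ => rfl⟩

/-! ### `O_p(Aut_F(P))` inside `Aut(P)` -/

/-- `O_p(Aut_F(P))` as a subgroup of `Aut(P)`. -/
def autCore (F : FusionSystem S) (p : ℕ) (P : Subgroup Ω) : Subgroup (MulAut P) :=
  (pCore p (F.autGroup P)).map (F.autGroup P).subtype

lemma autCore_le (F : FusionSystem S) (p : ℕ) (P : Subgroup Ω) :
    autCore F p P ≤ F.autGroup P :=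
  Subgroup.map_subtype_le _

lemma autCore_isPGroup (F : FusionSystem S) {p : ℕ} (P : Subgroup Ω) :
    IsPGroup p (autCore F p P) :=
  Cfsg.Agent.Cores.pCore_isPGroup.map _

lemma conj_mem_autCore (F : FusionSystem S) {p : ℕ} {P : Subgroup Ω} {a c : MulAut P}
    (ha : a ∈ F.autGroup P) (hc : c ∈ autCore F p P) : a * c * a⁻¹ ∈ autCore F p P := by
  obtain ⟨d, hd, rfl⟩ := hc
  exact ⟨⟨a, ha⟩ * d * ⟨a, ha⟩⁻¹,
    (inferInstance : (pCore p (F.autGroup P)).Normal).conj_mem d hd ⟨a, ha⟩, rfl⟩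

lemma autCore_map_congr (F : FusionSystem S) {p : ℕ} {P Q : Subgroup Ω} {e : P ≃* Q}
    (he : IsIso F e) :
    (autCore F p P).map (MulAut.congr e).toMonoidHom = autCore F p Q := by
  rw [autCore, autCore, ← Cfsg.Agent.Cores.map_pCore_equiv (autGroupCongr F he), Subgroup.map_map,
    Subgroup.map_map]
  rfl

lemma inn_le_autCore [Finite S] {p : ℕ} (hS : IsPGroup p S) (F : FusionSystem S) {P : Subgroup Ω}
    (hP : P ≤ S) : Inn P ≤ autCore F p P := by
  have h : (Inn P).subgroupOf (F.autGroup P) ≤ pCore p (F.autGroup P) :=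
    le_sSup ⟨FusionAlperin.inn_normal_autGroup F P,
      ((isPGroup_autInducedBy hS P).to_le (inn_le_autInducedBy hP)).of_equiv
        (Subgroup.subgroupOfEquivOfLe (inn_le_autGroup F hP)).symm⟩
  rw [← Subgroup.map_subgroupOf_eq_of_le (inn_le_autGroup F hP)]
  exact Subgroup.map_mono h

end Cfsg.Agent.FusionSys
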