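import Cfsg.Agent.FusionSys.InnerCriterion
import Cfsg.Agent.FusionModel.NormalFunctor
import Cfsg.Agent.FusionModel.Exists
import Cfsg.Agent.FusionSub.Solvable
import Cfsg.Agent.S3082

/-!
`p` odd, `D` strongly closed: the system is inner as soon as the normalizer system of `Z(J(D))` is.
-/

set_option autoImplicit false

open Cfsg Cfsg.FusionSystem Cfsg.Agent.FusionSys

namespace Cfsg.Agent.FusionSys.ZJInner

universe u

variable {Ω : Type u} [Group Ω] {S : Subgroup Ω}

lemma zj_le (D : Subgroup Ω) : centerThompsonAOf D ≤ D :=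
  inf_le_left.trans (Modules.thompsonSubgroupAOf_le D)

/-- An injective map carrying `D` onto `D'` carries `Z(J(D))` onto `Z(J(D'))`. -/
lemma zj_map {X : Subgroup Ω} {Ω' : Type u} [Group Ω'] {φ : X →* Ω'} (hφ : Function.Injective φ)
    {D : Subgroup Ω} (hD : D ≤ X) :
    ((centerThompsonAOf D).subgroupOf X).map φ = centerThompsonAOf ((D.subgroupOf X).map φ) := by
  rw [← Modules.map_centerThompsonAOf hφ]
  congr 1
  apply Subgroup.map_injective X.subtype_injective
  rw [Modules.map_centerThompsonAOf X.subtype_injective, Subgroup.map_subgroupOf_eq_of_le hD,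
    Subgroup.map_subgroupOf_eq_of_le ((zj_le D).trans hD)]

lemma normalizer_le_normalizer_zj (D : Subgroup Ω) :
    Subgroup.normalizer (D : Set Ω) ≤ Subgroup.normalizer (centerThompsonAOf D : Set Ω) := by
  have key : ∀ g ∈ Subgroup.normalizer (D : Set Ω), ∀ y ∈ centerThompsonAOf D,
      g * y * g⁻¹ ∈ centerThompsonAOf D := by
    intro g hg y hy
    have hm : D.map (MulAut.conj g).toMonoidHom = D := by
      ext z
      constructor
      · rintro ⟨x, hx, rfl⟩
        exact (Subgroup.mem_normalizer_iff.1 hg x).1 hx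
      · intro hz
        exact ⟨g⁻¹ * z * g, (Subgroup.mem_normalizer_iff.1 hg _).2 (by simpa [mul_assoc] using hz),
          by simp [mul_assoc]⟩
    have h := Modules.map_centerThompsonAOf (MulAut.conj g).injective (P := D)
      (f := (MulAut.conj g).toMonoidHom)
    rw [hm] at h
    exact h.le ⟨y, hy, rfl⟩
  intro g hg
  rw [Subgroup.mem_normalizer_iff]
  refine fun y => ⟨key g hg y, fun hy => ?_⟩
  have := key g⁻¹ (inv_mem hg) _ hy
  simpa [mul_assoc] using this

/-- `Z(J(D))` is normal if `D` lies in a normal subgroup. -/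
lemma zj_isNormal_of_le [Finite S] {F : FusionSystem S} {B D : Subgroup Ω} (hB : F.IsNormal B)
    (hD : F.StronglyClosed D) (hDB : D ≤ B) : F.IsNormal (centerThompsonAOf D) := by
  have hWD := zj_le D
  refine ⟨hWD.trans hD.1, fun P φ hφ => ?_⟩
  obtain ⟨ψ, hψ, hψe, -⟩ := hB.2 P φ hφ
  have hle : P ⊔ centerThompsonAOf D ≤ P ⊔ B := sup_le_sup_left (hWD.trans hDB) _
  refine ⟨restr hle ψ, restr_mem F hle hψ, fun x => hψe x, ?_⟩
  have hDX : D ≤ P ⊔ B := hDB.trans le_sup_right
  have hinj := F.injective_of_mem hψ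
  haveI : Finite D := finite_of_le ‹_› hD.1
  have hDD : (D.subgroupOf (P ⊔ B)).map ψ = D := by
    refine Subgroup.eq_of_le_of_card_ge ?_ (le_of_eq ?_)
    · rintro y hy
      obtain ⟨x, hx, rfl⟩ := (mem_map_subgroupOf _).1 hy
      exact FusionAlperin.sc_map_mem hD hψ hx
    · rw [Subgroup.card_map_of_injective hinj,
        Nat.card_congr (Subgroup.subgroupOfEquivOfLe hDX).toEquiv]
  have h := zj_map (φ := ψ) hinj hDX
  rw [hDD] at h
  ext y
  conv_rhs => rw [← h]
  rw [mem_map_subgroupOf, mem_map_subgroupOf]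
  constructor
  · rintro ⟨x, hx, rfl⟩
    exact ⟨_, hx, rfl⟩
  · rintro ⟨x, hx, rfl⟩
    exact ⟨⟨x, Subgroup.mem_sup_right hx⟩, hx, rfl⟩

variable {p : ℕ} [Fact p.Prime]

/-- A strictly `p`-constrained group: all automorphisms of its system have `p`-power order. -/
lemma isPGroup_of_model [Finite S] (hp : p ≠ 2) {F : FusionSystem S} {D : Subgroup Ω}
    (hD : F.StronglyClosed D) (hyp : PFixed p F (centerThompsonAOf D)) {L : Type u} [Group L]
    {ι : S →* L} (hM : F.IsModel p L ι) : IsPGroup p L := by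
  obtain ⟨hfin, ⟨hinj, hreal⟩, ⟨T, hT⟩, hc⟩ := hM
  set W := centerThompsonAOf D with hW
  have hWS : W ≤ S := (zj_le D).trans hD.1
  set DL := (D.subgroupOf S).map ι with hDL
  have hsc : IsStronglyClosed DL (T : Subgroup L) := by
    refine ⟨hT ▸ Subgroup.map_le_range _ _, ?_⟩
    rintro _ ⟨x, hx, rfl⟩ g hg
    rw [hT] at hg
    obtain ⟨y, hy⟩ := hg
    obtain ⟨φ, hφ⟩ : ∃ φ : Subgroup.zpowers (x : Ω) →* Ω,
        (∀ z, φ z ∈ S) ∧ φ ⟨x, Subgroup.mem_zpowers _⟩ = y ∧
          ∀ (z : Subgroup.zpowers (x : Ω)) (hz : φ z ∈ S) (hzS : (z : Ω) ∈ S),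
            ι ⟨φ z, hz⟩ = g * ι ⟨z, hzS⟩ * g⁻¹ := by
      have hin : ∀ z : Subgroup.zpowers (x : Ω), g * ι ⟨z, Subgroup.zpowers_le.2 x.2 z.2⟩ * g⁻¹ ∈
          ι.range := by
        rintro ⟨_, n, rfl⟩
        refine ⟨y ^ n, ?_⟩
        rw [map_zpow, hy, conj_zpow, ← map_zpow]
        rfl
      let e := MonoidHom.ofInjective hinj
      let f : Subgroup.zpowers (x : Ω) →* L := (MulAut.conj g).toMonoidHom.comp
        (ι.comp (Subgroup.inclusion (Subgroup.zpowers_le.2 x.2)))
      refine ⟨S.subtype.comp (e.symm.toMonoidHom.comp (f.codRestrict ι.range hin)),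
        fun z => (e.symm _).2, ?_, fun z hz hzS => ?_⟩
      · refine congrArg Subtype.val (e.injective ?_)
        rw [show e.symm.toMonoidHom.comp (f.codRestrict ι.range hin) ⟨x, Subgroup.mem_zpowers _⟩ =
          e.symm ⟨_, hin _⟩ from rfl, MulEquiv.apply_symm_apply]
        exact Subtype.ext hy.symm
      · exact congrArg Subtype.val (e.apply_symm_apply ⟨_, hin z⟩)
    obtain ⟨hφS, hφx, hφe⟩ := hφ
    have hzS : Subgroup.zpowers (x : Ω) ≤ S := Subgroup.zpowers_le.2 x.2
    have hφF : φ ∈ F.Hom (Subgroup.zpowers (x : Ω)) :=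
      (hreal _ hzS φ hφS).2 ⟨g, fun z => hφe z _ _⟩
    have := hD.2 _ (Subgroup.zpowers_le.2 hx) φ hφF ⟨x, Subgroup.mem_zpowers _⟩
    exact ⟨y, (congrArg (· ∈ D) hφx).mp this, hy⟩
  have hWL : centerThompsonAOf DL = (W.subgroupOf S).map ι := (zj_map hinj hD.1).symm
  set O := pCore p L with hO
  have hOT : O ≤ ι.range := hT ▸ Cfsg.Agent.Cores.pCore_le_sylow T
  -- the normalizer of `Z(J(D))` is a `p`-group
  have hH : IsPGroup p (Subgroup.normalizer ((centerThompsonAOf DL) : Set L)) := by
    rintro ⟨h, hh⟩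
    rw [hWL] at hh
    set R := (O.comap ι).map S.subtype ⊔ W with hR
    have hOS : (O.comap ι).map S.subtype ≤ S := Subgroup.map_subtype_le _
    have hRS : R ≤ S := sup_le hOS hWS
    have hRN : R ≤ normalizerIn S W := sup_le (le_inf hOS fun a ha => ?_) (le_normalizerIn hWS)
    rotate_left
    · exact normalizer_le_normalizer_zj D
        (FusionAlperin.sc_le_normalizer hD (hOS ha))
    set RL := (R.subgroupOf S).map ι with hRL
    have hRLe : RL = O ⊔ (W.subgroupOf S).map ι := by
      rw [hRL, hR, Subgroup.subgroupOf_sup hOS hWS, Subgroup.map_sup]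
      congr 1
      rw [Subgroup.subgroupOf, Subgroup.comap_map_eq_self_of_injective S.subtype_injective,
        Subgroup.map_comap_eq, inf_eq_right.2 hOT]
    have hnR : h ∈ Subgroup.normalizer (RL : Set L) := by
      rw [hRLe]
      exact Subgroup.normalizer_inf_normalizer_le_normalizer_sup _ _
        ⟨(Subgroup.normalizer_eq_top_iff.2 inferInstance).ge (Subgroup.mem_top h), hh⟩
    let e : R ≃* RL := (Subgroup.subgroupOfEquivOfLe hRS).symm.trans
      ((R.subgroupOf S).equivMapOfInjective ι hinj)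
    have he : ∀ x : R, ((e x : RL) : L) = ι ⟨x, hRS x.2⟩ := fun x => rfl
    let cL : MulAut RL := RL.normalizerMonoidHom ⟨h, hnR⟩
    let α : MulAut R := MulAut.congr e.symm cL
    have hα : ∀ x : R, ι ⟨α x, hRS (α x).2⟩ = h * ι ⟨x, hRS x.2⟩ * h⁻¹ := by
      intro x
      rw [← he, ← he, show e (α x) = cL (e x) from e.apply_symm_apply (cL (e x))]
      rfl
    have hαF : α ∈ F.autGroup R :=
      (mem_autGroup_iff_hom F hRS).2 ((hreal R hRS _ fun x => hRS (α x).2).2 ⟨h, hα⟩)
    obtain ⟨k, hk⟩ := hyp R le_sup_right hRN α hαF fun x hx => by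
      obtain ⟨w, hw, hwe⟩ := (Subgroup.mem_normalizer_iff.1 hh _).1
        (Subgroup.mem_map_of_mem ι (show (⟨x, hRS x.2⟩ : S) ∈ W.subgroupOf S from hx))
      rw [← hα] at hwe
      exact congrArg Subtype.val (hinj hwe) ▸ hw
    have hpow : h ^ p ^ k ∈ O := by
      refine hc fun o ho => ?_
      obtain ⟨x, hx⟩ := hOT ho
      have hxR : (x : Ω) ∈ R := Subgroup.mem_sup_left ⟨x, (by show ι x ∈ O; rw [hx]; exact ho), rfl⟩
      have := mulAut_pow_compat (fun y : R => ι ⟨y, hRS y.2⟩) (a := α) (b := MulAut.conj h)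
        (fun y => hα y) (p ^ k) ⟨x, hxR⟩
      rw [hk, ← map_pow, MulAut.one_apply, MulAut.conj_apply, hx] at this
      rw [eq_mul_inv_iff_mul_eq] at this
      exact this
    obtain ⟨m, hm⟩ := Cfsg.Agent.Cores.pCore_isPGroup (p := p) (G := L) ⟨_, hpow⟩
    refine ⟨k + m, Subtype.ext ?_⟩
    simpa [pow_add, pow_mul] using congrArg Subtype.val hm
  have hnpc : HasNormalPComplement p L := by
    refine Cfsg.Agent.S3082.result hp T DL hsc (Or.inl ?_)
    obtain ⟨P⟩ := (inferInstance : Nonempty (Sylow p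
      (Subgroup.normalizer ((centerThompsonAOf DL) : Set L))))
    refine ⟨P, ⊥, inferInstance, ?_⟩
    have : (P : Subgroup (Subgroup.normalizer ((centerThompsonAOf DL) : Set L))) = ⊤ :=
      (P.3 (hH.to_subgroup ⊤) le_top).symm
    rw [this]
    exact Subgroup.isComplement'_bot_top
  obtain ⟨P, N, hNn, hcomp⟩ := hnpc
  have hNO : Disjoint N O :=
    hcomp.disjoint.mono_right (Cfsg.Agent.Cores.pCore_le_sylow P)
  have hN : N = ⊥ := by
    rw [eq_bot_iff]
    have : N ≤ Subgroup.centralizer (O : Set L) := fun n hn o ho =>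
      Subgroup.commute_of_normal_of_disjoint O N inferInstance hNn hNO.symm o n ho hn
    intro n hn
    exact hNO.le_bot ⟨hn, hc (this hn)⟩
  have hP : (P : Subgroup L) = ⊤ := by
    have := hcomp
    rw [hN, Subgroup.isComplement'_bot_left] at this
    exact this
  exact IsPGroup.of_equiv (hP ▸ P.2) Subgroup.topEquiv

/-- `p` odd, `D` strongly closed: if the automorphisms preserving `Z(J(D))` are `p`-elements, all
automorphisms are. -/
theorem pAut_of_pFixed (hp : p ≠ 2) :
    ∀ (n m : ℕ) {Ω : Type u} [Group Ω] {S : Subgroup Ω} [Finite S], IsPGroup p S →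
      ∀ (F : FusionSystem S), F.IsSaturated p → Nat.card S = n →
        (FusionModel.morph F).ncard = m → ∀ D : Subgroup Ω, F.StronglyClosed D →
          PFixed p F (centerThompsonAOf D) → PAut p F := by
  intro n
  induction n using Nat.strong_induction_on with
  | _ n IHn =>
  intro m
  induction m using Nat.strong_induction_on with
  | _ m IHm =>
  intro Ω _ S _ hS F hF hn hm D hD hyp
  set W := centerThompsonAOf D with hW
  have hWS : W ≤ S := (zj_le D).trans hD.1
  -- `W` normal
  have hnormW : F.IsNormal W → PAut p F := by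
    intro hN P hP a
    obtain ⟨hle, hext⟩ := hN
    have hnW : S ≤ normalizerIn S W :=
      le_inf le_rfl ((FusionAlperin.sc_le_normalizer hD).trans (normalizer_le_normalizer_zj D))
    have hφ := autGroup_mem_hom F hP a.2
    have ha : (a : MulAut P) ∈ (FusionAux.normSys F W hWS).autGroup P :=
      (mem_autGroup_iff_hom _ (hP.trans hnW)).2
        ⟨hφ, hP.trans hnW, fun x => hnW (hP ((a : MulAut P) x).2), hext P _ hφ⟩
    obtain ⟨k, hk⟩ := hyp.pAut_normSys hWS P (hP.trans hnW) ⟨_, ha⟩
    exact ⟨k, Subtype.ext (by simpa using congrArg Subtype.val hk)⟩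
  -- passing to a normalizer system
  have hstep : ∀ (V : Subgroup Ω) (hV : F.IsFullyNormalized V), ¬ F.IsNormal V →
      PFixed p (FusionAux.normSys F V hV.1) (centerThompsonAOf (D ⊓ normalizerIn S V)) →
      PFixed p F V := by
    intro V hV hnV hfix
    have hTp : IsPGroup p (normalizerIn S V) := hS.to_le (normalizerIn_le V)
    have hsat := FusionModel.normSys_saturated hS hF hV
    have hD' : (FusionAux.normSys F V hV.1).StronglyClosed (D ⊓ normalizerIn S V) :=
      ⟨inf_le_right, fun R hR φ hφ x =>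
        ⟨hD.2 R (hR.trans inf_le_left) φ hφ.1 x, hφ.2.2.1 x⟩⟩
    refine PFixed.of_pAut_normSys hV.1 ?_
    rcases lt_or_eq_of_le (Subgroup.card_le_of_le (normalizerIn_le (S := S) V)) with h | h
    · exact IHn _ (hn ▸ h) _ hTp _ hsat rfl rfl _ hD' hfix
    · exact IHm _ (hm ▸ FusionModel.morph_normSys_lt F hV.1 hnV) hTp _ hsat (h.trans hn) rfl _ hD'
        hfix
  have hnormal : ∀ V, V ≤ S → S ≤ Subgroup.normalizer (V : Set Ω) → ¬ F.IsNormal V →
      PFixed p F V := by
    intro V hVS hVn hnV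
    have hV := FusionCrit.isFullyNormalized_of_normal F hVS hVn
    have hT : normalizerIn S V = S := inf_eq_left.2 hVn
    refine hstep V hV hnV ?_
    have hDT : D ⊓ normalizerIn S V = D := inf_eq_left.2 (hD.1.trans hT.ge)
    rw [hDT]
    intro R hUR hR α hα hαU
    exact hyp R hUR (hR.trans (inf_le_inf_right _ (normalizerIn_le V))) α
      (FusionAux.normalizerSystem_autGroup_le (FusionAux.normSys_spec F V hV.1)
        (hR.trans inf_le_left) hα) hαU
  set B := F.core with hBdef
  have hB : F.IsNormal B := FusionAlperin.isNormal_core F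
  have hBS := hB.1
  by_cases hB0 : B = ⊥
  · -- no normal subgroup
    by_cases hD0 : D = ⊥
    · refine hnormW ?_
      rw [hW, hD0, show centerThompsonAOf (⊥ : Subgroup Ω) = ⊥ from le_bot_iff.1 (zj_le ⊥)]
      exact FusionAlperin.isNormal_bot F
    have hnon : ∀ V, V ≠ ⊥ → ¬ F.IsNormal V := fun V hV h =>
      hV (le_bot_iff.1 (hB0 ▸ le_sSup (s := {Q | F.IsNormal Q}) h))
    have hclaim : ∀ (k : ℕ) (V : Subgroup Ω), F.IsFullyNormalized V → V ≠ ⊥ →
        Nat.card S - Nat.card (normalizerIn S V) = k → PFixed p F V := by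
      intro k
      induction k using Nat.strong_induction_on with
      | _ k ih =>
      intro V hV hV0 hk
      set T := normalizerIn S V with hT
      refine hstep V hV (hnon V hV0) ?_
      by_cases hTS : T = S
      · have hDT : D ⊓ T = D := inf_eq_left.2 (hD.1.trans hTS.ge)
        rw [hDT]
        intro R hUR hR α hα hαU
        exact hyp R hUR (hR.trans (inf_le_inf_right _ (normalizerIn_le V))) α
          (FusionAux.normalizerSystem_autGroup_le (FusionAux.normSys_spec F V hV.1)
            (hR.trans inf_le_left) hα) hαU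
      set U := centerThompsonAOf (D ⊓ T) with hU
      have hTS' : T ≤ S := normalizerIn_le V
      have hUT : U ≤ T := (zj_le _).trans inf_le_right
      have hUS : U ≤ S := hUT.trans hTS'
      set M := normalizerIn S U with hM
      have hTM : T < M := by
        refine (FusionAux.lt_normalizerIn hS hTS' hTS).trans_le (le_inf (normalizerIn_le T) ?_)
        refine le_trans ?_ (normalizer_le_normalizer_zj (D ⊓ T))
        exact (le_inf ((normalizerIn_le T).trans (FusionAlperin.sc_le_normalizer hD))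
          inf_le_right).trans (Subgroup.inf_normalizer_le_normalizer_inf)
      have hU0 : U ≠ ⊥ := by
        haveI : Finite (D ⊓ T : Subgroup Ω) := finite_of_le ‹_› (inf_le_left.trans hD.1)
        refine Modules.centerThompsonAOf_ne_bot (hS.to_le (inf_le_left.trans hD.1)) fun h0 => ?_
        haveI : (D.subgroupOf S).Normal :=
          Subgroup.normal_subgroupOf_of_le_normalizer (FusionAlperin.sc_le_normalizer hD)
        haveI : Nontrivial (D.subgroupOf S) := by
          rw [Subgroup.nontrivial_iff_ne_bot]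
          intro h
          exact hD0 (le_bot_iff.1 ((Subgroup.subgroupOf_eq_bot.1 h).le_bot.trans'
            (le_inf le_rfl hD.1)))
        obtain ⟨z, hz1⟩ := Subgroup.ne_bot_iff_exists_ne_one.1
          (PGroup.inf_center_ne_bot hS (D.subgroupOf S) (Subgroup.nontrivial_iff_ne_bot _ |>.1 inferInstance))
        refine hz1 (Subtype.ext (Subtype.ext (Subgroup.mem_bot.1 (h0.le
          (show ((z : S) : Ω) ∈ D ⊓ T from ⟨z.2.1, (z : S).2, ?_⟩)))))
        show ((z : S) : Ω) ∈ Subgroup.normalizer (V : Set Ω)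
        rw [Subgroup.mem_normalizer_iff]
        intro v
        by_cases hvS : v ∈ S
        · rw [show ((z : S) : Ω) * v * ((z : S) : Ω)⁻¹ = v from mul_inv_eq_iff_eq_mul.2
            (congrArg Subtype.val (Subgroup.mem_center_iff.1 z.2.2 ⟨v, hvS⟩).symm)]
        · refine iff_of_false (fun h => hvS (hV.1 h)) fun h => hvS ?_
          have h' := S.mul_mem (S.mul_mem (S.inv_mem (z : S).2) (hV.1 h)) (z : S).2
          simpa [mul_assoc] using h'
      obtain ⟨U', hUU', hU'⟩ := exists_fullyNormalized F hUS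
      obtain ⟨θ, hθ, hθN, hθU⟩ := exists_normalizer_map_fullyNormalized hS hF hU' hUU'
      have hU'0 : U' ≠ ⊥ := by
        intro h
        refine hU0 (le_bot_iff.1 fun x hx => ?_)
        have hm' : θ ⟨x, le_normalizerIn hUS hx⟩ ∈ (⊥ : Subgroup Ω) :=
          h ▸ hθU ▸ (mem_map_subgroupOf θ).2 ⟨⟨x, le_normalizerIn hUS hx⟩, hx, rfl⟩
        exact Subgroup.mem_bot.2 (congrArg Subtype.val
          (F.injective_of_mem hθ ((Subgroup.mem_bot.1 hm').trans (map_one θ).symm)))
      have hfix' : PFixed p F U' := by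
        have h1 := FusionAux.card_lt_card_of_lt (normalizerIn_le U) hTM
        have h2 : Nat.card M ≤ Nat.card (normalizerIn S U') := hU'.2 U (isConj_symm hUU')
        have h3 : Nat.card (normalizerIn S U') ≤ Nat.card S :=
          Subgroup.card_le_of_le (normalizerIn_le _)
        rw [hM] at h2
        exact ih _ (by omega) U' hU' hU'0 rfl
      intro R hUR hR α hα hαU
      have hRM : R ≤ M := hR.trans (inf_le_inf_right _ hTS')
      have hRS : R ≤ S := hRM.trans (normalizerIn_le U)
      have hαF := FusionAux.normalizerSystem_autGroup_le (FusionAux.normSys_spec F V hV.1)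
        (hR.trans inf_le_left) hα
      have hφ := restr_mem F hRM hθ
      set e := toIso F hφ rfl with he
      have hU'R : U' ≤ (restr hRM θ).range := by
        rw [← hθU]
        intro y hy
        obtain ⟨x, hx, rfl⟩ := (mem_map_subgroupOf θ).1 hy
        exact ⟨⟨x, hUR hx⟩, rfl⟩
      obtain ⟨k', hk'⟩ := hfix' _ hU'R (by rintro _ ⟨x, rfl⟩; exact hθN _) (MulAut.congr e α)
        (autCongr_mem F (toIso_isIso F hφ rfl) hαF) fun y hy => by
          obtain ⟨x, rfl⟩ := e.surjective y
          rw [autCongr_apply, MulEquiv.symm_apply_apply]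
          rw [toIso_coe, restr_apply] at hy ⊢
          rw [← hθU] at hy ⊢
          obtain ⟨x', hx', hxe⟩ := (mem_map_subgroupOf θ).1 hy
          have hxU : (x : Ω) ∈ U := congrArg Subtype.val (F.injective_of_mem hθ hxe) ▸ hx'
          exact (mem_map_subgroupOf θ).2 ⟨_, hαU x hxU, rfl⟩
      refine ⟨k', (MulAut.congr e).injective ?_⟩
      rw [map_pow, hk', map_one]
    intro Q hQ
    by_cases hQ0 : Q = ⊥
    · intro a
      refine ⟨0, Subtype.ext (MulEquiv.ext fun x => Subtype.ext ?_)⟩
      have h1 : x = 1 := Subtype.ext (Subgroup.mem_bot.1 (hQ0 ▸ x.2))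
      simp [h1]
    obtain ⟨Q', hQQ', hQ'⟩ := exists_fullyNormalized F hQ
    obtain ⟨e, he⟩ := (isConj_iff_exists_iso F).1 hQQ'
    have hQ'0 : Q' ≠ ⊥ := by
      intro h
      refine hQ0 (le_bot_iff.1 fun x hx => ?_)
      have h1 : e ⟨x, hx⟩ = 1 := Subtype.ext (Subgroup.mem_bot.1 (h ▸ (e ⟨x, hx⟩).2))
      exact Subgroup.mem_bot.2 (congrArg Subtype.val ((MulEquiv.map_eq_one_iff e).1 h1))
    refine IsPGroup.of_equiv ?_ (autGroupCongr F he).symm
    intro b
    obtain ⟨k, hk⟩ := hclaim _ Q' hQ' hQ'0 rfl Q' le_rfl (le_normalizerIn hQ'.1) _ b.2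
      fun x _ => ((b : MulAut Q') x).2
    exact ⟨k, Subtype.ext (by simpa using hk)⟩
  -- the quotient by the core
  have hRsc := FusionAlperin.isNormal_stronglyClosed hB
  have hBn := FusionAlperin.isNormal_le_normalizer hB
  haveI : (B.subgroupOf S).Normal := Subgroup.normal_subgroupOf_of_le_normalizer hBn
  set θ : S →* S ⧸ B.subgroupOf S := QuotientGroup.mk' _
  have hker : ∀ s : S, θ s = 1 ↔ (s : Ω) ∈ B := fun s =>
    (QuotientGroup.eq_one_iff s).trans Subgroup.mem_subgroupOf
  have hrange : θ.range = ⊤ := MonoidHom.range_eq_top.2 (QuotientGroup.mk'_surjective _)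
  set F' := FusionAlperin.factorSystem F hRsc θ hker hrange
  have hfac := FusionAlperin.factorSystem_isFactorSystem F hRsc θ hker hrange
  have hsurj := FusionAlperin.isSurjectiveMorphism_factor hS hF hRsc hfac
  have hF' : F'.IsSaturated p := FusionAlperin.saturated_of_surjective hS hF hsurj
  have hS' : IsPGroup p (⊤ : Subgroup (S ⧸ B.subgroupOf S)) := (hS.to_quotient _).to_subgroup _
  have hlt : Nat.card (⊤ : Subgroup (S ⧸ B.subgroupOf S)) < n := by
    rw [Subgroup.card_top, ← hn,
      Subgroup.card_eq_card_quotient_mul_card_subgroup (α := S) (B.subgroupOf S)]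
    refine lt_mul_of_one_lt_right Nat.card_pos (Finite.one_lt_card_iff_nontrivial.2 ?_)
    rw [Subgroup.nontrivial_iff_ne_bot]
    intro h
    exact hB0 (le_bot_iff.1 ((Subgroup.subgroupOf_eq_bot.1 h).le_bot.trans' (le_inf le_rfl hBS)))
  set D' := imageAlong θ D with hD'def
  have hD' : F'.StronglyClosed D' := FusionSub.sc_imageAlong hfac hD
  set W' := centerThompsonAOf D' with hW'
  set V := preimageAlong θ W' with hVdef
  have hVS : V ≤ S := FusionAlperin.preimageAlong_le W'
  have hW'n : ∀ w, w ∈ Subgroup.normalizer (W' : Set (S ⧸ B.subgroupOf S)) := fun w =>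
    normalizer_le_normalizer_zj D' (FusionAlperin.sc_le_normalizer hD' (Subgroup.mem_top w))
  have hVconj : ∀ g ∈ S, ∀ y ∈ V, g * y * g⁻¹ ∈ V := by
    intro g hg y hy
    obtain ⟨hyS, hy'⟩ := FusionAlperin.mem_preimageAlong.1 hy
    refine FusionAlperin.mem_preimageAlong.2 ⟨S.mul_mem (S.mul_mem hg hyS) (S.inv_mem hg), ?_⟩
    rw [FusionAlperin.theta_conj hg hyS]
    exact (Subgroup.mem_normalizer_iff.1 (hW'n _) _).1 hy'
  have hVn : S ≤ Subgroup.normalizer (V : Set Ω) := fun g hg =>
    Subgroup.mem_normalizer_iff.2 fun y => ⟨hVconj g hg y, fun hy => by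
      simpa [mul_assoc] using hVconj g⁻¹ (S.inv_mem hg) _ hy⟩
  by_cases hVnn : F.IsNormal V
  · have hVB : V ≤ B := le_sSup (s := {Q | F.IsNormal Q}) hVnn
    have hW'0 : W' = ⊥ := by
      refine le_bot_iff.1 fun w hw => ?_
      obtain ⟨s, hs⟩ := QuotientGroup.mk'_surjective _ w
      have hsV : (s : Ω) ∈ V := FusionAlperin.mem_preimageAlong.2 ⟨s.2, by
        show θ s ∈ W'
        rw [show θ s = w from hs]; exact hw⟩
      exact Subgroup.mem_bot.2 (hs.symm.trans ((hker s).2 (hVB hsV)))
    have hD'0 : D' = ⊥ := by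
      by_contra hne
      exact Modules.centerThompsonAOf_ne_bot (hS'.to_le hD'.1) hne hW'0
    refine hnormW (zj_isNormal_of_le hB hD fun x hx => ?_)
    exact (hker ⟨x, hD.1 hx⟩).1 (Subgroup.mem_bot.1 (hD'0.le
      (Subgroup.mem_map_of_mem θ (show (⟨x, hD.1 hx⟩ : S) ∈ D.subgroupOf S from hx))))
  have hfixV := hnormal V hVS hVn hVnn
  have hq : PAut p F' := by
    refine IHn _ hlt _ hS' F' hF' rfl rfl D' hD' ?_
    intro R' hWR' hR' α' hα'
    intro hα'W
    have hR'top : R' ≤ (⊤ : Subgroup (S ⧸ B.subgroupOf S)) := le_top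
    set A := preimageAlong θ R' with hA
    obtain ⟨-, φ, hφ, hind⟩ := (hfac.2.2.2 _ _).1 (autGroup_mem_hom F' hR'top hα')
    have hAS : A ≤ S := FusionAlperin.preimageAlong_le R'
    haveI : Finite A := finite_of_le ‹_› hAS
    have hval : ∀ x : A, ∃ h : φ x ∈ S, θ ⟨φ x, h⟩ =
        (α' ⟨θ ⟨x, hAS x.2⟩, (FusionAlperin.mem_preimageAlong.1 x.2).2⟩ :) := by
      intro x
      obtain ⟨h, he⟩ := FusionAlperin.inducedAlong_apply hind x
      exact ⟨h, he.symm⟩
    have hrA : φ.range = A := by
      refine range_eq_of_image_le (F.injective_of_mem hφ) ?_ le_rfl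
      rintro _ ⟨x, rfl⟩
      obtain ⟨h, he⟩ := hval x
      exact FusionAlperin.mem_preimageAlong.2 ⟨h, he ▸ (α' _).2⟩
    have hVA : V ≤ A := FusionAlperin.preimageAlong_mono hWR'
    obtain ⟨k, hk⟩ := hfixV A hVA (le_inf hAS (hAS.trans hVn)) _
      (toIso_mem_autGroup F hφ hrA) fun x hx => by
        rw [toIso_coe]
        obtain ⟨h, he⟩ := hval x
        exact FusionAlperin.mem_preimageAlong.2
          ⟨h, he ▸ hα'W _ (FusionAlperin.mem_preimageAlong.1 hx).2⟩
    refine ⟨k, MulEquiv.ext fun w => Subtype.ext ?_⟩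
    obtain ⟨s, hs⟩ := QuotientGroup.mk'_surjective (B.subgroupOf S) (w : S ⧸ B.subgroupOf S)
    have hsA : (s : Ω) ∈ A := FusionAlperin.mem_preimageAlong.2 ⟨s.2, by
      show θ s ∈ R'
      rw [show θ s = _ from hs]; exact w.2⟩
    let f : A → R' := fun x => ⟨θ ⟨x, hAS x.2⟩, (FusionAlperin.mem_preimageAlong.1 x.2).2⟩
    have := mulAut_pow_compat f (a := toIso F hφ hrA) (b := α')
      (fun x => Subtype.ext (by
        obtain ⟨h, he⟩ := hval x
        exact (congrArg θ (Subtype.ext (toIso_coe F hφ hrA x))).trans he)) (p ^ k) ⟨s, hsA⟩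
    rw [hk, MulAut.one_apply, show f ⟨s, hsA⟩ = w from Subtype.ext hs] at this
    simpa using congrArg Subtype.val this.symm
  -- the centralizer of the core lies in every centric radical subgroup
  set C := B ⊔ centralizerIn S B with hC
  have hCN : F.IsNormal C := by
    refine FusionBatch.isNormal_of_mem_radical hS hF fun R hRn hRc hRr => ?_
    have hRS := hRn.1
    have hBR : B ≤ R := FusionAlperin.normal_le_centric_radical hS hRc hRr hB
    have hBmap : ∀ β ∈ F.autGroup R, ∀ x : R, (x : Ω) ∈ B → ((β : MulAut R) x : Ω) ∈ B :=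
      fun β hβ x hx => FusionAlperin.sc_map_mem hRsc (autGroup_mem_hom F hRS hβ) hx
    let K : Subgroup (F.autGroup R) :=
      { carrier := {a | ∀ x : R, (x : Ω) ∈ B → (a : MulAut R) x = x}
        one_mem' := fun x _ => rfl
        mul_mem' := fun {a b} ha hb x hx => by
          rw [Subgroup.coe_mul, MulAut.mul_apply, hb x hx, ha x hx]
        inv_mem' := fun {a} ha x hx => by
          exact (a : MulAut R).injective
            (((a : MulAut R).apply_symm_apply x).trans (ha x hx).symm) }
    haveI hKn : K.Normal := ⟨fun a ha b x hx => by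
      show (b : MulAut R) ((a : MulAut R) ((b : MulAut R)⁻¹ x)) = x
      rw [ha _ (hBmap _ (inv_mem b.2) x hx)]
      exact (b : MulAut R).apply_symm_apply x⟩
    haveI : Finite R := finite_of_le ‹_› hRS
    have hKp : IsPGroup p K := by
      rintro ⟨a, ha⟩
      obtain ⟨φ', hφ', hP, hS₀, hmem, he⟩ := hsurj.1.2 R _ (autGroup_mem_hom F hRS a.2)
      have hr : φ'.range = imageAlong θ R := by
        haveI : Finite (imageAlong θ R) := inferInstance
        refine range_eq_of_image_le (F'.injective_of_mem hφ') ?_ le_rfl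
        rintro _ ⟨y, rfl⟩
        obtain ⟨x, hx⟩ := FusionAlperin.imageAlong_exists hRS y
        rw [show y = ⟨θ ⟨x, hP x.2⟩, hmem x⟩ from Subtype.ext hx.symm, he]
        exact FusionAlperin.theta_mem_imageAlong hRS ((a : MulAut R) x)
      obtain ⟨i, hi⟩ := hq _ le_top ⟨_, toIso_mem_autGroup F' hφ' hr⟩
      have hi' := congrArg Subtype.val hi
      rw [Subgroup.coe_pow, Subgroup.coe_one] at hi'
      let f : R → imageAlong θ R := fun x => ⟨θ ⟨x, hRS x.2⟩, hmem x⟩
      have hc := mulAut_pow_compat f (a := (a : MulAut R)) (b := toIso F' hφ' hr)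
        (fun x => Subtype.ext ((he x).symm.trans (toIso_coe F' hφ' hr _).symm)) (p ^ i)
      rw [hi'] at hc
      set b : MulAut R := (a : MulAut R) ^ p ^ i with hb
      have hbB : ∀ x : R, (x : Ω) ∈ B → b x = x := by
        have : ∀ j : ℕ, ∀ x : R, (x : Ω) ∈ B → ((a : MulAut R) ^ j) x = x := by
          intro j
          induction j with
          | zero => intro x _; rfl
          | succ j ihj => intro x hx; rw [pow_succ, MulAut.mul_apply, ha x hx, ihj x hx]
        exact this _
      have hbd : ∀ x : R, ((x⁻¹ * b x : R) : Ω) ∈ B := fun x => by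
        have h1 : θ ⟨b x, hRS (b x).2⟩ = θ ⟨x, hRS x.2⟩ := congrArg Subtype.val (hc x)
        refine (hker (⟨x, hRS x.2⟩⁻¹ * ⟨b x, hRS (b x).2⟩)).1 ?_
        rw [map_mul, map_inv, h1, inv_mul_cancel]
      have hbpow : ∀ (x : R) (j : ℕ), (b ^ j) x = x * (x⁻¹ * b x) ^ j := by
        intro x j
        induction j with
        | zero => simp
        | succ j ihj =>
          rw [pow_succ', MulAut.mul_apply, ihj, map_mul, map_pow, hbB _ (hbd x), pow_succ',
            ← mul_assoc, mul_inv_cancel_left]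
      obtain ⟨r, hr⟩ := IsPGroup.iff_card.1 (hS.to_le hRS)
      refine ⟨i + r, Subtype.ext (Subtype.ext (MulEquiv.ext fun x => ?_))⟩
      simp only [SubgroupClass.coe_pow, OneMemClass.coe_one, MulAut.one_apply]
      rw [pow_add, pow_mul, ← hb, hbpow, ← hr, pow_card_eq_one', mul_one]
    have hCR : centralizerIn S B ≤ R := by
      refine le_sup_right.trans (FusionAlperin.le_of_normalizer_self hS
        (sup_le hRS (centralizerIn_le B)) le_sup_left fun x hx hxN => ?_)
      have hx' : x ∈ ((R ⊔ centralizerIn S B : Subgroup Ω) : Set Ω) := hx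
      rw [Subgroup.coe_mul_of_left_le_normalizer_right R (centralizerIn S B)
        (hRS.trans (FusionModel.le_normalizer_centralizerIn hBn))] at hx'
      obtain ⟨r, hr, y, hy, rfl⟩ := hx'
      have hyN : y ∈ Subgroup.normalizer (R : Set Ω) := by
        have := mul_mem (inv_mem (Subgroup.le_normalizer hr)) hxN
        rwa [inv_mul_cancel_left] at this
      refine R.mul_mem hr (FusionBatch.mem_of_mem_pCore hS hRc hRr ⟨hy.1, hyN⟩ ?_)
      have hcm : R.normalizerMonoidHom ⟨y, hyN⟩ ∈ F.autGroup R :=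
        autInducedBy_le_autGroup F hRS (mem_autInducedBy.2 ⟨y, hy.1, fun _ => rfl⟩)
      exact ⟨⟨_, hcm⟩, Cfsg.Agent.Cores.le_pCore hKn hKp fun x hx =>
        Subtype.ext ((mem_centralizerIn_iff_conj.1 hy).2 ⟨x, hx⟩), rfl⟩
    refine ⟨sup_le hBR hCR, fun α hα x hx => ?_⟩
    have hle : (C.subgroupOf R).map (R.subtype.comp α.toMonoidHom) ≤ C := by
      rw [hC, Subgroup.subgroupOf_sup hBR hCR, Subgroup.map_sup]
      refine sup_le_sup ?_ ?_
      · intro y hy
        obtain ⟨z, hz, rfl⟩ := (mem_map_subgroupOf _).1 hy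
        exact hBmap α hα z hz
      · intro y hy
        obtain ⟨z, hz, rfl⟩ := (mem_map_subgroupOf _).1 hy
        refine ⟨hRS (α z).2, fun b hb => ?_⟩
        have hb' := hBmap α⁻¹ (inv_mem hα) ⟨b, hBR hb⟩ hb
        have e : (α⁻¹ ⟨b, hBR hb⟩ : R) * z = z * α⁻¹ ⟨b, hBR hb⟩ := Subtype.ext (hz.2 _ hb')
        have e2 := congrArg (fun w : R => ((α w : R) : Ω)) e
        simpa using e2
    exact hle ((mem_map_subgroupOf _).2 ⟨x, hx, rfl⟩)
  have hCB : C ≤ B := le_sSup (s := {Q | F.IsNormal Q}) hCN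
  have hBc : F.IsCentric B := centric_of_fullyCentralized
    (saturated_fullyNormalized hS hF (FusionCrit.isFullyNormalized_of_normal F hBS hBn)).1
    (le_sup_right.trans hCB)
  obtain ⟨L, hL, ι, hM⟩ := FusionModel.exists_model_of_normal_centric hS hF hB hBc
  have hLp := isPGroup_of_model hp hD hyp hM
  obtain ⟨hLfin, ⟨hinj, hreal⟩, -, -⟩ := hM
  intro P hP a
  obtain ⟨g, hg⟩ := (hreal P hP _ fun x => hP ((a : MulAut P) x).2).1 (autGroup_mem_hom F hP a.2)
  obtain ⟨k, hk⟩ := hLp g
  refine ⟨k, Subtype.ext (MulEquiv.ext fun x => Subtype.ext ?_)⟩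
  have := mulAut_pow_compat (fun y : P => ι ⟨y, hP y.2⟩) (a := (a : MulAut P))
    (b := MulAut.conj g) (fun y => hg y) (p ^ k) x
  rw [← map_pow, hk, map_one, MulAut.one_apply] at this
  simpa using congrArg Subtype.val (hinj this)

/-- The criterion. -/
theorem inner_iff [Finite S] (hp : p ≠ 2) (hS : IsPGroup p S) {F : FusionSystem S}
    (hF : F.IsSaturated p) {D : Subgroup Ω} (hD : F.StronglyClosed D) :
    (∀ P : Subgroup Ω, F.Hom P = (innerFusionSystem S).Hom P) ↔
      ∀ N : FusionSystem (normalizerIn S (centerThompsonAOf D)),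
        F.IsNormalizerSystem (centerThompsonAOf D) N →
          ∀ P : Subgroup Ω,
            N.Hom P = (innerFusionSystem (normalizerIn S (centerThompsonAOf D))).Hom P := by
  have hWS : centerThompsonAOf D ≤ S := (zj_le D).trans hD.1
  have hn : normalizerIn S (centerThompsonAOf D) = S := inf_eq_left.2
    ((FusionAlperin.sc_le_normalizer hD).trans (normalizer_le_normalizer_zj D))
  constructor
  · intro h N hN P
    refine Set.Subset.antisymm (fun φ hφ => ?_) (innerFusionSystem_le N P)
    have h1 := FusionAux.normalizerSystem_hom hN hφ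
    rw [h P] at h1
    obtain ⟨hP, g, hg, hge⟩ := h1
    exact ⟨hP.trans hn.ge, g, hn.ge hg, hge⟩
  · intro h P
    have hN := h _ (FusionAux.normSys_spec F (centerThompsonAOf D) hWS)
    have hfix : PFixed p F (centerThompsonAOf D) :=
      PFixed.of_pAut_normSys hWS (PAut.of_isPGroup_inner (hS.to_le (normalizerIn_le _))
        fun Q => (hN Q).subset)
    exact Set.Subset.antisymm
      (PAut.le_inner hS hF (pAut_of_pFixed hp _ _ hS F hF rfl rfl D hD hfix) P)
      (innerFusionSystem_le F P)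

end Cfsg.Agent.FusionSys.ZJInner
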