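import Cfsg.Agent.FusionSys.SmallEssential

/-!
Nonabelian essential subgroups of order `p³`.
-/

set_option autoImplicit false

open Cfsg Cfsg.FusionSystem Cfsg.Agent.FusionSys
open scoped commutatorElement

namespace Cfsg.Agent.FusionSys

/-- Centre, derived and Frattini subgroup of a nonabelian group of order `p³`. -/
lemma nonabelian_cube {p : ℕ} [Fact p.Prime] {X : Type*} [Group X] [Finite X]
    (h : Nat.card X = p ^ 3) (hna : ¬ IsMulCommutative X) :
    IsExtraspecial p X ∧ (frattini X).index = p ^ 2 := by
  have hp : p.Prime := Fact.out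
  have hX : IsPGroup p X := IsPGroup.of_card h
  haveI : Nontrivial X := Finite.one_lt_card_iff_nontrivial.1 (by
    rw [h]; exact Nat.one_lt_pow (by norm_num) hp.one_lt)
  haveI := hX.center_nontrivial
  obtain ⟨k, hk⟩ := IsPGroup.iff_card.1 (hX.to_subgroup (Subgroup.center X))
  have hk0 : k ≠ 0 := by
    rintro rfl
    have := Finite.one_lt_card (α := Subgroup.center X)
    rw [hk, pow_zero] at this
    exact lt_irrefl _ this
  obtain ⟨i, hi⟩ := hX.index (Subgroup.center X)
  have hsum : k + i = 3 := by
    have := (Subgroup.center X).card_mul_index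
    rw [hk, hi, h, ← pow_add] at this
    exact Nat.pow_right_injective hp.two_le this
  have hnc : ¬ IsCyclic (X ⧸ Subgroup.center X) := fun hc =>
    hna (isMulCommutative_of_isCyclic_quotient_center_self X)
  have hi2 : i = 2 := by
    by_contra hne
    have hi1 : i = 0 ∨ i = 1 := by omega
    refine hnc ?_
    rcases hi1 with rfl | rfl
    · haveI : Subsingleton (X ⧸ Subgroup.center X) := (Nat.card_eq_one_iff_unique.1 (by
        rw [← Subgroup.index_eq_card, hi, pow_zero])).1
      exact isCyclic_of_subsingleton
    · exact isCyclic_of_prime_card (p := p) (by rw [← Subgroup.index_eq_card, hi, pow_one])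
  have hZ : Nat.card (Subgroup.center X) = p := by rw [hk, show k = 1 by omega, pow_one]
  rw [hi2] at hi
  have hq : Nat.card (X ⧸ Subgroup.center X) = p ^ 2 := by rw [← Subgroup.index_eq_card, hi]
  have hcle : commutator X ≤ Subgroup.center X :=
    Subgroup.Normal.quotient_commutative_iff_commutator_le.1
      ⟨⟨(IsPGroup.isMulCommutative_of_card_eq_prime_sq hq).is_comm.comm⟩⟩
  have hceq : commutator X = Subgroup.center X := by
    refine Subgroup.eq_of_le_of_card_ge hcle ?_
    have hd := Subgroup.card_dvd_of_le hcle
    rw [hZ] at hd ⊢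
    rcases (Nat.dvd_prime hp).1 hd with h1 | h1
    · exfalso
      have hb := Subgroup.card_eq_one.1 h1
      rw [commutator_eq_bot_iff_center_eq_top] at hb
      exact hna ⟨⟨fun a b => (Subgroup.mem_center_iff.1 (hb.ge (Subgroup.mem_top b)) a)⟩⟩
    · exact h1.ge
  have hge : Subgroup.center X ≤ frattini X := hceq ▸ PGroup.commutator_le_frattini hX
  have heq : frattini X = Subgroup.center X := by
    obtain ⟨j, hj⟩ := hX.index (frattini X)
    have hj2 : 2 ≤ j := by
      by_contra hlt
      have hcy := PGroup.isCyclic_of_index_frattini_le hX (show (frattini X).index ≤ p by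
        rw [hj]
        calc p ^ j ≤ p ^ 1 := Nat.pow_le_pow_right hp.pos (by omega)
          _ = p := pow_one p)
      exact hna ⟨⟨fun a b => hcy.isMulCommutative.is_comm.comm a b⟩⟩
    refine (Subgroup.eq_of_le_of_card_ge hge ?_).symm
    have h1 := (frattini X).card_mul_index
    have h2 := (Subgroup.center X).card_mul_index
    rw [hj] at h1; rw [hi, ← h1] at h2
    have h3 : p ^ 2 ≤ p ^ j := Nat.pow_le_pow_right hp.pos hj2
    exact le_of_mul_le_mul_right
      ((Nat.mul_le_mul_left _ h3).trans h2.ge) (pow_pos hp.pos 2)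
  exact ⟨⟨⟨hX, heq, hceq⟩, hZ⟩, heq ▸ hi⟩

variable {Ω : Type*} [Group Ω] {S : Subgroup Ω} [Finite S] {p : ℕ} [Fact p.Prime]

/-- A nonabelian essential subgroup of order `p³`. -/
theorem cube_essential (hS : IsPGroup p S) {F : FusionSystem S} (hF : F.IsSaturated p)
    {H : Subgroup Ω} (hH : F.IsEssential p H) (hcard : Nat.card H = p ^ 3)
    (hna : ¬ IsMulCommutative ↥H) :
    (Odd p ∧ IsExtraspecial p ↥H ∧ ∀ x ∈ H, x ^ p = 1) ∨
      (p = 2 ∧ Nonempty (↥H ≃* QuaternionGroup 2)) := by
  have hp : p.Prime := Fact.out
  haveI : Finite H := finite_of_le ‹_› hH.1.1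
  have hHp : IsPGroup p H := hS.to_le hH.1.1
  obtain ⟨hex, hidx⟩ := nonabelian_cube hcard hna
  obtain ⟨⟨-, hΦZ, hcomm⟩, hZ⟩ := id hex
  have hcZ : commutator H ≤ Subgroup.center H := hcomm.le
  have hbad : ∀ M : Subgroup H, frattini H < M → M ≠ ⊤ →
      (∀ (α : MulAut H), ∀ x ∈ M, α x ∈ M) → False := by
    intro M hlt hne hinv
    obtain ⟨i, hi⟩ := hHp.index M
    have h1 := Subgroup.index_strictAnti hlt
    rw [hidx, hi] at h1
    have h2 := (Nat.pow_lt_pow_iff_right hp.one_lt).1 h1
    have h3 : i ≠ 0 := fun h => hne (Subgroup.index_eq_one.1 (by rw [hi, h, pow_zero]))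
    exact false_of_flag hS hF hH hlt.le (by rw [hi, show i = 1 by omega, pow_one]) hidx.le
      fun α _ => hinv α
  rcases hp.eq_two_or_odd' with rfl | hodd
  · right
    refine ⟨rfl, ?_⟩
    by_contra hQ
    -- there are two involutions
    have hmul : ¬ ∀ x y : H, orderOf x = 2 → orderOf y = 2 → x = y := by
      intro hu
      rcases TwoGroups.cyclic_or_quaternion_of_unique_involution hHp hu with hc | ⟨n, hn, hn', ⟨e⟩⟩
      · exact hna hc.isMulCommutative
      · rw [hcard] at hn'
        have := Nat.pow_right_injective le_rfl hn'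
        rw [show n = 2 by omega] at e
        exact hQ ⟨e⟩
    obtain ⟨a, ha⟩ : ∃ a : H, a ^ 2 ≠ 1 := by
      by_contra! hall
      refine hna ⟨⟨fun x y => ?_⟩⟩
      have hinv : ∀ z : H, z⁻¹ = z := fun z => inv_eq_of_mul_eq_one_right (by rw [← sq, hall])
      have := hinv (x * y)
      rw [mul_inv_rev, hinv, hinv] at this
      exact this.symm
    obtain ⟨t, ht2, htΦ⟩ : ∃ t : H, t ^ 2 = 1 ∧ t ∉ frattini H := by
      by_contra! hall
      refine hmul fun x y hx hy => ?_
      have key : ∀ z : H, orderOf z = 2 → z ∈ Subgroup.center H := fun z hz =>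
        hΦZ ▸ hall z (by rw [← hz]; exact pow_orderOf_eq_one z)
      have hc2 : ∀ z : H, orderOf z = 2 → Subgroup.zpowers z = Subgroup.center H := fun z hz =>
        Subgroup.eq_of_le_of_card_ge (Subgroup.zpowers_le.2 (key z hz))
          (by rw [hZ, Nat.card_zpowers, hz])
      have hy' : y ∈ Subgroup.zpowers x := by
        rw [hc2 x hx, ← hc2 y hy]; exact Subgroup.mem_zpowers y
      obtain ⟨j, rfl⟩ := Subgroup.mem_zpowers_iff.1 hy'
      rcases Int.even_or_odd j with ⟨m, rfl⟩ | ⟨m, rfl⟩
      · rw [← two_mul, zpow_mul, zpow_two, ← sq, ← hx, pow_orderOf_eq_one, one_zpow, orderOf_one] at hy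
        exact absurd hy (by rw [hx]; norm_num)
      · rw [zpow_add, zpow_mul, zpow_two, ← sq, ← hx, pow_orderOf_eq_one, one_zpow, one_mul,
          zpow_one]
    set M := frattini H ⊔ Subgroup.closure {x : H | x ^ 2 ≠ 1} with hM
    refine hbad M ?_ ?_ ?_
    · refine lt_of_le_of_ne le_sup_left fun h => ha ?_
      have h1 : a ∈ frattini H := h.ge (Subgroup.mem_sup_right (Subgroup.subset_closure ha))
      rw [hΦZ] at h1
      have h2 := Subgroup.orderOf_dvd_natCard _ h1
      rw [hZ] at h2
      exact orderOf_dvd_iff_pow_eq_one.1 h2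
    · intro htop
      -- everything outside `Φ ⟨a⟩` is an involution
      have hle : M ≤ frattini H ⊔ Subgroup.zpowers a := by
        refine sup_le le_sup_left ((Subgroup.closure_le _).2 fun x hx => ?_)
        by_contra hxN
        have hlow : Subgroup.zpowers a ⊔ frattini H ≠ ⊤ := by
          intro h
          have h1 := PGroup.eq_top_of_sup_frattini h
          exact hna ⟨⟨fun u v => by
            obtain ⟨i, rfl⟩ := Subgroup.mem_zpowers_iff.1 (h1.ge (Subgroup.mem_top u))
            obtain ⟨j, rfl⟩ := Subgroup.mem_zpowers_iff.1 (h1.ge (Subgroup.mem_top v))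
            exact (Commute.refl a).zpow_zpow i j⟩⟩
        -- `x` and `t` give a contradiction
        set N := frattini H ⊔ Subgroup.zpowers a with hN
        have hΦN : frattini H < N := lt_of_le_of_ne le_sup_left fun h => ha (by
          have h1 : a ∈ frattini H := h.ge (Subgroup.mem_sup_right (Subgroup.mem_zpowers a))
          rw [hΦZ] at h1
          have h2 := Subgroup.orderOf_dvd_natCard _ h1
          rw [hZ] at h2
          exact orderOf_dvd_iff_pow_eq_one.1 h2)
        have hNi : N.index = 2 := by
          obtain ⟨i, hi⟩ := hHp.index N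
          have h1 := Subgroup.index_strictAnti hΦN
          rw [hidx, hi] at h1
          have h2 := (Nat.pow_lt_pow_iff_right (one_lt_two : (1 : ℕ) < 2)).1 h1
          have h3 : i ≠ 0 := fun h => hlow (by
            rw [sup_comm]; exact Subgroup.index_eq_one.1 (by rw [hi, h, pow_zero]))
          rw [hi, show i = 1 by omega, pow_one]
        have hsq : ∀ u v : H, (u * v) ^ 2 = u ^ 2 * v ^ 2 * ⁅v, u⁆ := fun u v => by
          rw [PGroup.mul_pow_of_commutatorElement (PGroup.commutatorElement_mem_center hcZ v u)]
          simp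
        have hz : ∀ u : H, u ^ 2 ≠ 1 → ∀ v : H, v ^ 2 ≠ 1 → u ^ 2 = v ^ 2 := by
          have hcen : ∀ u : H, u ^ 2 ∈ Subgroup.center H := fun u =>
            hΦZ ▸ PGroup.pow_mem_frattini hHp u
          intro u hu v hv
          by_contra hne
          obtain ⟨y, hy⟩ := Nat.card_eq_two_iff'
            (⟨1, one_mem _⟩ : Subgroup.center H) |>.1 hZ
          have e1 := hy.2 ⟨u ^ 2, hcen u⟩ (fun h => hu (congrArg Subtype.val h))
          have e2 := hy.2 ⟨v ^ 2, hcen v⟩ (fun h => hv (congrArg Subtype.val h))
          exact hne (congrArg Subtype.val (e1.trans e2.symm))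
        have hax : a * x ∉ N := fun h => hxN (by
          simpa using mul_mem (inv_mem (Subgroup.mem_sup_right (S := frattini H)
            (Subgroup.mem_zpowers a))) h)
        -- `t` lies outside `N`, so in the coset of `x`
        by_cases htN : t ∈ N
        · obtain ⟨u, hu, v, hv, rfl⟩ := Subgroup.mem_sup_of_normal_left.1 htN
          obtain ⟨j, rfl⟩ := Subgroup.mem_zpowers_iff.1 hv
          rcases Int.even_or_odd j with ⟨m, rfl⟩ | ⟨m, rfl⟩
          · refine htΦ (mul_mem hu ?_)
            rw [← two_mul, zpow_mul, zpow_two, ← sq]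
            exact zpow_mem (PGroup.pow_mem_frattini hHp a) m
          · refine ha ?_
            have hu2 : u ^ 2 = 1 := by
              have h2 := Subgroup.orderOf_dvd_natCard _ (hΦZ ▸ hu : u ∈ Subgroup.center H)
              rw [hZ] at h2
              exact orderOf_dvd_iff_pow_eq_one.1 h2
            have hcu : Commute u (a ^ (2 * m + 1)) :=
              (Subgroup.mem_center_iff.1 (hΦZ ▸ hu : u ∈ Subgroup.center H) _).symm
            rw [hcu.mul_pow, hu2, one_mul, ← zpow_natCast, ← zpow_mul,
              show (2 * m + 1) * ((2 : ℕ) : ℤ) = 4 * m + 2 by push_cast; ring, zpow_add,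
              zpow_mul] at ht2
            have ha4 : a ^ (4 : ℤ) = 1 := by
              have h2 := Subgroup.orderOf_dvd_natCard _
                (hΦZ ▸ PGroup.pow_mem_frattini hHp a : a ^ 2 ∈ Subgroup.center H)
              rw [hZ] at h2
              rw [show (4 : ℤ) = ((2 * 2 : ℕ) : ℤ) by norm_num, zpow_natCast, pow_mul]
              exact orderOf_dvd_iff_pow_eq_one.1 h2
            rw [ha4, one_zpow, one_mul, zpow_two, ← sq] at ht2
            exact ht2
        have htx : t⁻¹ * x ∈ N := by
          rw [Subgroup.mul_mem_iff_of_index_two hNi]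
          exact iff_of_false (fun h => htN (by simpa using inv_mem h)) hxN
        obtain ⟨u, hu, v, hv, huv⟩ := Subgroup.mem_sup_of_normal_left.1 htx
        obtain ⟨j, rfl⟩ := Subgroup.mem_zpowers_iff.1 hv
        have huC : u ∈ Subgroup.center H := hΦZ ▸ hu
        have hu2 : u ^ 2 = 1 := by
          have h2 := Subgroup.orderOf_dvd_natCard _ huC
          rw [hZ] at h2
          exact orderOf_dvd_iff_pow_eq_one.1 h2
        have hxe : x = u * (t * a ^ j) := by
          rw [← mul_assoc, ← Subgroup.mem_center_iff.1 huC t, mul_assoc, huv, mul_inv_cancel_left]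
        apply hx
        rw [hxe, Commute.mul_pow (Subgroup.mem_center_iff.1 huC _).symm, hu2, one_mul]
        rcases Int.even_or_odd j with ⟨m, rfl⟩ | ⟨m, rfl⟩
        · have hc : a ^ (m + m) ∈ Subgroup.center H := by
            rw [← two_mul, zpow_mul, zpow_two, ← sq]
            exact zpow_mem (hΦZ ▸ PGroup.pow_mem_frattini hHp a) m
          rw [Commute.mul_pow (Subgroup.mem_center_iff.1 hc t), ht2, one_mul]
          have h2 := Subgroup.orderOf_dvd_natCard _ hc
          rw [hZ] at h2
          exact orderOf_dvd_iff_pow_eq_one.1 h2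
        · set b := a ^ (2 * m + 1) with hb
          have hb2 : b ^ 2 = a ^ 2 := by
            have ha4 : a ^ (4 : ℤ) = 1 := by
              have h2 := Subgroup.orderOf_dvd_natCard _
                (hΦZ ▸ PGroup.pow_mem_frattini hHp a : a ^ 2 ∈ Subgroup.center H)
              rw [hZ] at h2
              rw [show (4 : ℤ) = ((2 * 2 : ℕ) : ℤ) by norm_num, zpow_natCast, pow_mul]
              exact orderOf_dvd_iff_pow_eq_one.1 h2
            rw [hb, ← zpow_natCast, ← zpow_mul,
              show (2 * m + 1) * ((2 : ℕ) : ℤ) = 4 * m + 2 by push_cast; ring, zpow_add, zpow_mul,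
              ha4, one_zpow, one_mul, zpow_two, sq]
          rw [hsq, ht2, one_mul, hb2]
          by_cases hne : ⁅b, t⁆ = 1
          · exfalso
            -- then `H` would be abelian
            refine hna ?_
            have hbt : Commute b t := commutatorElement_eq_one_iff_mul_comm.1 hne
            haveI hA : IsMulCommutative (Subgroup.closure ({b, t} : Set H)) :=
              Subgroup.isMulCommutative_closure (by
                rintro p (rfl | rfl) q (rfl | rfl)
                · rfl
                · exact hbt
                · exact hbt.symm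
                · rfl)
            have hgen : Subgroup.closure ({b, t} : Set H) = ⊤ := by
              refine PGroup.eq_top_of_sup_frattini ?_
              haveI := PGroup.normal_of_commutator_le (N := Subgroup.closure ({b, t} : Set H) ⊔ frattini H)
                ((PGroup.commutator_le_frattini hHp).trans le_sup_right)
              have hbN : b ∈ N := zpow_mem (Subgroup.mem_sup_right (Subgroup.mem_zpowers a)) _
              have hNle : N ≤ Subgroup.closure ({b, t} : Set H) ⊔ frattini H := by
                refine sup_le le_sup_right (Subgroup.zpowers_le.2 ?_)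
                have e : a = b * ((a ^ 2) ^ m)⁻¹ := by
                  rw [hb, zpow_add, zpow_one, (Commute.zpow_self a (2*m)).eq]
                  rw [zpow_mul, zpow_two, ← sq, mul_assoc, mul_inv_cancel, mul_one]
                rw [e]
                exact mul_mem (Subgroup.mem_sup_left (Subgroup.subset_closure (by simp)))
                  (Subgroup.mem_sup_right (inv_mem (zpow_mem (PGroup.pow_mem_frattini hHp a) m)))
              refine (Subgroup.eq_top_iff' _).2 fun y => ?_
              by_cases hy : y ∈ N
              · exact hNle hy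
              · have hty : t⁻¹ * y ∈ N := by
                  rw [Subgroup.mul_mem_iff_of_index_two hNi]
                  exact iff_of_false (fun h => htN (by simpa using inv_mem h)) hy
                simpa using mul_mem (Subgroup.mem_sup_left (T := frattini H)
                  (Subgroup.subset_closure (by simp : t ∈ ({b, t} : Set H)))) (hNle hty)
            rw [hgen] at hA
            exact ⟨⟨fun u v => congrArg Subtype.val
              (hA.is_comm.comm (⟨u, Subgroup.mem_top u⟩ : (⊤ : Subgroup H))
                ⟨v, Subgroup.mem_top v⟩)⟩⟩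
          · obtain ⟨y, hy⟩ := Nat.card_eq_two_iff'
              (⟨1, one_mem _⟩ : Subgroup.center H) |>.1 hZ
            have e1 := hy.2 ⟨a ^ 2, hΦZ ▸ PGroup.pow_mem_frattini hHp a⟩
              (fun h => ha (congrArg Subtype.val h))
            have e2 := hy.2 ⟨⁅b, t⁆, PGroup.commutatorElement_mem_center hcZ b t⟩
              (fun h => hne (congrArg Subtype.val h))
            rw [show ⁅b, t⁆ = a ^ 2 from congrArg Subtype.val (e2.trans e1.symm), ← pow_add]
            have h2 := Subgroup.orderOf_dvd_natCard _
              (hΦZ ▸ PGroup.pow_mem_frattini hHp a : a ^ 2 ∈ Subgroup.center H)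
            rw [hZ] at h2
            rw [pow_mul a 2 2]
            exact orderOf_dvd_iff_pow_eq_one.1 h2
      rw [htop, top_le_iff, sup_comm] at hle
      have h1 := PGroup.eq_top_of_sup_frattini hle
      exact hna ⟨⟨fun u v => by
        obtain ⟨i, rfl⟩ := Subgroup.mem_zpowers_iff.1 (h1.ge (Subgroup.mem_top u))
        obtain ⟨j, rfl⟩ := Subgroup.mem_zpowers_iff.1 (h1.ge (Subgroup.mem_top v))
        exact (Commute.refl a).zpow_zpow i j⟩⟩
    · intro α x hx
      have hle : M ≤ M.comap α.toMonoidHom := by
        refine sup_le (fun z hz => Subgroup.mem_sup_left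
          ((Subgroup.characteristic_iff_le_comap.1 inferInstance α) hz))
          ((Subgroup.closure_le _).2 fun z hz => Subgroup.mem_sup_right (Subgroup.subset_closure ?_))
        show (α z) ^ 2 ≠ 1
        exact fun h => hz (α.injective (by rw [map_pow, h, map_one]))
      exact hle hx
  · left
    refine ⟨hodd, hex, ?_⟩
    have hmul : ∀ u v : H, (u * v) ^ p = u ^ p * v ^ p := fun u v =>
      PGroup.mul_pow_of_classTwo hcZ hodd (hΦZ ▸ PGroup.pow_mem_frattini hHp u)
    let f : H →* H := { toFun := fun x => x ^ p, map_one' := one_pow p, map_mul' := hmul }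
    by_contra hne
    have hker : f.ker ≠ ⊤ := fun h => hne fun x hx => by
      have h1 : (⟨x, hx⟩ : H) ∈ f.ker := h.ge (Subgroup.mem_top _)
      have h2 : (⟨x, hx⟩ : H) ^ p = 1 := MonoidHom.mem_ker.1 h1
      exact congrArg Subtype.val h2
    have hrange : f.range ≤ Subgroup.center H := by
      rintro _ ⟨x, rfl⟩
      exact hΦZ ▸ PGroup.pow_mem_frattini hHp x
    have hkidx : f.ker.index ∣ p := by
      rw [Subgroup.index_ker, ← hZ]
      exact Subgroup.card_dvd_of_le hrange
    have hkp : f.ker.index = p :=
      ((Nat.dvd_prime hp).1 hkidx).resolve_left fun h => hker (Subgroup.index_eq_one.1 h)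
    refine false_of_flag hS hF hH (M := f.ker) ?_ hkp hidx.le fun α _ x hx => ?_
    · rw [hΦZ]
      intro z hz
      refine MonoidHom.mem_ker.2 ?_
      have h2 := Subgroup.orderOf_dvd_natCard _ hz
      rw [hZ] at h2
      exact orderOf_dvd_iff_pow_eq_one.1 h2
    · refine MonoidHom.mem_ker.2 ?_
      show (α x) ^ p = 1
      rw [← map_pow, show x ^ p = 1 from MonoidHom.mem_ker.1 hx, map_one]

end Cfsg.Agent.FusionSys
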