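import Cfsg.Agent.FusionSys.CenterThompsonInner

/-!
Reduction of "the system is inner as soon as the normalizer system of `W ◁ S` is" to strictly
constrained groups, `p` odd.
-/

set_option autoImplicit false

open Cfsg Cfsg.FusionSystem Cfsg.Agent.FusionSys

namespace Cfsg.Agent.FusionSys.InnerReduction

universe u

variable {Ω : Type u} [Group Ω] {S : Subgroup Ω}

/-- The normalizer system of a subgroup normal in `S`, saturated, as a system over `S`. -/
lemma exists_saturated_over [Finite S] {p : ℕ} [Fact p.Prime] (hS : IsPGroup p S)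
    {F : FusionSystem S} (hF : F.IsSaturated p) {U : Subgroup Ω} (hU : F.IsFullyNormalized U)
    (hn : S ≤ Subgroup.normalizer (U : Set Ω)) :
    ∃ E : FusionSystem S, (∀ P, E.Hom P = F.normalizerHom U P) ∧ E.IsSaturated p := by
  have key : ∀ (T : Subgroup Ω) (N : FusionSystem T), T = S → N.IsSaturated p →
      ∃ E : FusionSystem S, (∀ P, E.Hom P = N.Hom P) ∧ E.IsSaturated p := by
    rintro T N rfl h
    exact ⟨N, fun _ => rfl, h⟩
  obtain ⟨E, hE, hsat⟩ := key _ (FusionAux.normSys F U hU.1) (inf_eq_left.2 hn)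
    (FusionModel.normSys_saturated hS hF hU)
  exact ⟨E, hE, hsat⟩

/-- The reduction. -/
theorem pAut_of_key {p : ℕ} [Fact p.Prime] (hp : p ≠ 2) [Finite S] (hS : IsPGroup p S)
    {W : Subgroup Ω} (F₀ : FusionSystem S)
    (key : ∀ (F : FusionSystem S), F ≤ F₀ → PFixed p F W → ∀ (L : Type u) [Group L] (ι : S →* L),
      F.IsModel p L ι → IsPGroup p L) :
    ∀ (m : ℕ) (F : FusionSystem S), F.IsSaturated p → F ≤ F₀ → (FusionModel.morph F).ncard = m →
      PFixed p F W → PAut p F := by
  intro m
  induction m using Nat.strong_induction_on with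
  | _ m IHm =>
  intro F hF hF₀ hm hyp
  have hnormal : ∀ V, V ≤ S → S ≤ Subgroup.normalizer (V : Set Ω) → ¬ F.IsNormal V →
      PFixed p F V := by
    intro V hVS hVn hnV
    have hV := FusionCrit.isFullyNormalized_of_normal F hVS hVn
    have hT : normalizerIn S V = S := inf_eq_left.2 hVn
    obtain ⟨E, hE, hEsat⟩ := exists_saturated_over hS hF hV hVn
    have hEF : E ≤ F := fun P φ hφ => by rw [hE] at hφ; exact hφ.1
    have hcard : (FusionModel.morph E).ncard < m := by
      have h1 : FusionModel.morph E = FusionModel.morph (FusionAux.normSys F V hV.1) := by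
        ext ⟨P, φ⟩
        show φ ∈ E.Hom P ↔ φ ∈ F.normalizerHom V P
        rw [hE]
      rw [h1, ← hm]
      exact FusionModel.morph_normSys_lt F hV.1 hnV
    have h := IHm _ hcard E hEsat (fun P => (hEF P).trans (hF₀ P)) rfl
      fun R hUR hR α hα hαU => hyp R hUR hR α (autGroup_mono hEF R hα) hαU
    refine PFixed.of_pAut_normSys hV.1 fun P hP => ?_
    have he : (FusionAux.normSys F V hV.1).autGroup P = E.autGroup P := by
      show Subgroup.closure _ = Subgroup.closure _
      congr 1
      ext α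
      show _ ∈ F.normalizerHom V P ↔ _ ∈ E.Hom P
      rw [hE]
    rw [he]
    exact h P (hP.trans hT.le)
  set B := F.core with hBdef
  have hB : F.IsNormal B := FusionAlperin.isNormal_core F
  have hBS := hB.1
  by_cases hB0 : B = ⊥
  · -- no normal subgroup
    have hnon : ∀ V, V ≠ ⊥ → ¬ F.IsNormal V := fun V hV h =>
      hV (le_bot_iff.1 (hB0 ▸ le_sSup (s := {Q | F.IsNormal Q}) h))
    have hclaim : ∀ (k : ℕ) (V : Subgroup Ω), F.IsFullyNormalized V → V ≠ ⊥ →
        Nat.card S - Nat.card (normalizerIn S V) = k → PFixed p F V := by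
      intro k
      induction k using Nat.strong_induction_on with
      | _ k ih =>
      intro V hV hV0 hk
      set T := normalizerIn S V with hT
      by_cases hTS : T = S
      · exact hnormal V hV.1 (inf_eq_left.1 hTS) (hnon V hV0)
      set U := centerThompsonAOf T with hU
      have hTS' : T ≤ S := normalizerIn_le V
      have hUT : U ≤ T := ZJInner.zj_le _
      have hUS : U ≤ S := hUT.trans hTS'
      set M := normalizerIn S U with hM
      have hTM : T < M := by
        refine (FusionAux.lt_normalizerIn hS hTS' hTS).trans_le (le_inf (normalizerIn_le T) ?_)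
        exact inf_le_right.trans (ZJInner.normalizer_le_normalizer_zj T)
      have hU0 : U ≠ ⊥ := by
        haveI : Finite T := finite_of_le ‹_› hTS'
        exact Modules.centerThompsonAOf_ne_bot (hS.to_le hTS') fun h0 =>
          hV0 (le_bot_iff.1 ((le_normalizerIn hV.1).trans h0.le))
      obtain ⟨U', hUU', hU'⟩ := exists_fullyNormalized F hUS
      obtain ⟨θ, hθ, hθN, hθU⟩ := exists_normalizer_map_fullyNormalized hS hF hU' hUU'
      have hU'0 : U' ≠ ⊥ := by
        intro h
        refine hU0 (le_bot_iff.1 fun x hx => ?_)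
        have hm' : θ ⟨x, le_normalizerIn hUS hx⟩ ∈ (⊥ : Subgroup Ω) :=
          h ▸ hθU ▸ (mem_map_subgroupOf θ).2 ⟨⟨x, le_normalizerIn hUS hx⟩, hx, rfl⟩
        exact Subgroup.mem_bot.2 (congrArg Subtype.val
          (F.injective_of_mem hθ ((Subgroup.mem_bot.1 hm').trans (map_one θ).symm)))
      have hfix' : PFixed p F U' := by
        have h1 := FusionAux.card_lt_card_of_lt (normalizerIn_le U) hTM
        have h2 : Nat.card M ≤ Nat.card (normalizerIn S U') := hU'.2 U (isConj_symm hUU')
        have h3 : Nat.card (normalizerIn S U') ≤ Nat.card S :=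
          Subgroup.card_le_of_le (normalizerIn_le _)
        rw [hM] at h2
        exact ih _ (by omega) U' hU' hU'0 rfl
      refine PFixed.of_pAut_normSys hV.1 (ZJInner.pAut_of_pFixed hp _ _ (hS.to_le hTS') _
        (FusionModel.normSys_saturated hS hF hV) rfl rfl T FusionAlperin.sc_self ?_)
      intro R hUR hR α hα hαU
      have hRM : R ≤ M := hR.trans (inf_le_inf_right _ hTS')
      have hRS : R ≤ S := hRM.trans (normalizerIn_le U)
      have hαF := FusionAux.normalizerSystem_autGroup_le (FusionAux.normSys_spec F V hV.1)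
        (hR.trans inf_le_left) hα
      have hφ := restr_mem F hRM hθ
      set e := toIso F hφ rfl with he
      have hU'R : U' ≤ (restr hRM θ).range := by
        rw [← hθU]
        intro y hy
        obtain ⟨x, hx, rfl⟩ := (mem_map_subgroupOf θ).1 hy
        exact ⟨⟨x, hUR hx⟩, rfl⟩
      obtain ⟨k', hk'⟩ := hfix' _ hU'R (by rintro _ ⟨x, rfl⟩; exact hθN _) (MulAut.congr e α)
        (autCongr_mem F (toIso_isIso F hφ rfl) hαF) fun y hy => by
          obtain ⟨x, rfl⟩ := e.surjective y
          rw [autCongr_apply, MulEquiv.symm_apply_apply]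
          rw [toIso_coe, restr_apply] at hy ⊢
          rw [← hθU] at hy ⊢
          obtain ⟨x', hx', hxe⟩ := (mem_map_subgroupOf θ).1 hy
          have hxU : (x : Ω) ∈ U := congrArg Subtype.val (F.injective_of_mem hθ hxe) ▸ hx'
          exact (mem_map_subgroupOf θ).2 ⟨_, hαU x hxU, rfl⟩
      refine ⟨k', (MulAut.congr e).injective ?_⟩
      rw [map_pow, hk', map_one]
    intro Q hQ
    by_cases hQ0 : Q = ⊥
    · intro a
      refine ⟨0, Subtype.ext (MulEquiv.ext fun x => Subtype.ext ?_)⟩
      have h1 : x = 1 := Subtype.ext (Subgroup.mem_bot.1 (hQ0 ▸ x.2))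
      simp [h1]
    obtain ⟨Q', hQQ', hQ'⟩ := exists_fullyNormalized F hQ
    obtain ⟨e, he⟩ := (isConj_iff_exists_iso F).1 hQQ'
    have hQ'0 : Q' ≠ ⊥ := by
      intro h
      refine hQ0 (le_bot_iff.1 fun x hx => ?_)
      have h1 : e ⟨x, hx⟩ = 1 := Subtype.ext (Subgroup.mem_bot.1 (h ▸ (e ⟨x, hx⟩).2))
      exact Subgroup.mem_bot.2 (congrArg Subtype.val ((MulEquiv.map_eq_one_iff e).1 h1))
    refine IsPGroup.of_equiv ?_ (autGroupCongr F he).symm
    intro b
    obtain ⟨k, hk⟩ := hclaim _ Q' hQ' hQ'0 rfl Q' le_rfl (le_normalizerIn hQ'.1) _ b.2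
      fun x _ => ((b : MulAut Q') x).2
    exact ⟨k, Subtype.ext (by simpa using hk)⟩
  -- the quotient by the core
  have hRsc := FusionAlperin.isNormal_stronglyClosed hB
  have hBn := FusionAlperin.isNormal_le_normalizer hB
  haveI : (B.subgroupOf S).Normal := Subgroup.normal_subgroupOf_of_le_normalizer hBn
  set θ : S →* S ⧸ B.subgroupOf S := QuotientGroup.mk' _
  have hker : ∀ s : S, θ s = 1 ↔ (s : Ω) ∈ B := fun s =>
    (QuotientGroup.eq_one_iff s).trans Subgroup.mem_subgroupOf
  have hrange : θ.range = ⊤ := MonoidHom.range_eq_top.2 (QuotientGroup.mk'_surjective _)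
  set F' := FusionAlperin.factorSystem F hRsc θ hker hrange
  have hfac := FusionAlperin.factorSystem_isFactorSystem F hRsc θ hker hrange
  have hsurj := FusionAlperin.isSurjectiveMorphism_factor hS hF hRsc hfac
  have hF' : F'.IsSaturated p := FusionAlperin.saturated_of_surjective hS hF hsurj
  have hS' : IsPGroup p (⊤ : Subgroup (S ⧸ B.subgroupOf S)) := (hS.to_quotient _).to_subgroup _
  set W' := centerThompsonAOf (⊤ : Subgroup (S ⧸ B.subgroupOf S)) with hW'
  set V := preimageAlong θ W' with hVdef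
  have hVS : V ≤ S := FusionAlperin.preimageAlong_le W'
  have hW'n : ∀ w, w ∈ Subgroup.normalizer (W' : Set (S ⧸ B.subgroupOf S)) := fun w =>
    ZJInner.normalizer_le_normalizer_zj _ (Subgroup.le_normalizer (Subgroup.mem_top w))
  have hVconj : ∀ g ∈ S, ∀ y ∈ V, g * y * g⁻¹ ∈ V := by
    intro g hg y hy
    obtain ⟨hyS, hy'⟩ := FusionAlperin.mem_preimageAlong.1 hy
    refine FusionAlperin.mem_preimageAlong.2 ⟨S.mul_mem (S.mul_mem hg hyS) (S.inv_mem hg), ?_⟩
    rw [FusionAlperin.theta_conj hg hyS]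
    exact (Subgroup.mem_normalizer_iff.1 (hW'n _) _).1 hy'
  have hVn : S ≤ Subgroup.normalizer (V : Set Ω) := fun g hg =>
    Subgroup.mem_normalizer_iff.2 fun y => ⟨hVconj g hg y, fun hy => by
      simpa [mul_assoc] using hVconj g⁻¹ (S.inv_mem hg) _ hy⟩
  have hq : PAut p F' := by
    by_cases hBtop : B = S
    · intro P hP a
      refine ⟨0, Subtype.ext (MulEquiv.ext fun x => Subtype.ext ?_)⟩
      have hall : ∀ w : S ⧸ B.subgroupOf S, w = 1 := fun w => by
        obtain ⟨s, hs⟩ := QuotientGroup.mk'_surjective _ w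
        exact hs.symm.trans ((hker s).2 (hBtop.ge s.2))
      exact (hall _).trans (hall _).symm
    have hWne : W' ≠ ⊥ := by
      refine Modules.centerThompsonAOf_ne_bot hS' fun h => hBtop (le_antisymm hBS fun s hs => ?_)
      exact (hker ⟨s, hs⟩).1 (Subgroup.mem_bot.1 (h ▸ Subgroup.mem_top (θ ⟨s, hs⟩)))
    have hVnn : ¬ F.IsNormal V := by
      intro h
      have hVB : V ≤ B := le_sSup (s := {Q | F.IsNormal Q}) h
      refine hWne (le_bot_iff.1 fun w hw => ?_)
      obtain ⟨s, hs⟩ := QuotientGroup.mk'_surjective _ w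
      have hsV : (s : Ω) ∈ V := FusionAlperin.mem_preimageAlong.2 ⟨s.2, by
        show θ s ∈ W'
        rw [show θ s = w from hs]; exact hw⟩
      exact Subgroup.mem_bot.2 (hs.symm.trans ((hker s).2 (hVB hsV)))
    have hfixV := hnormal V hVS hVn hVnn
    refine ZJInner.pAut_of_pFixed hp _ _ hS' F' hF' rfl rfl ⊤ FusionAlperin.sc_self ?_
    intro R' hWR' hR' α' hα'
    intro hα'W
    have hR'top : R' ≤ (⊤ : Subgroup (S ⧸ B.subgroupOf S)) := le_top
    set A := preimageAlong θ R' with hA
    obtain ⟨-, φ, hφ, hind⟩ := (hfac.2.2.2 _ _).1 (autGroup_mem_hom F' hR'top hα')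
    have hAS : A ≤ S := FusionAlperin.preimageAlong_le R'
    haveI : Finite A := finite_of_le ‹_› hAS
    have hval : ∀ x : A, ∃ h : φ x ∈ S, θ ⟨φ x, h⟩ =
        (α' ⟨θ ⟨x, hAS x.2⟩, (FusionAlperin.mem_preimageAlong.1 x.2).2⟩ :) := by
      intro x
      obtain ⟨h, he⟩ := FusionAlperin.inducedAlong_apply hind x
      exact ⟨h, he.symm⟩
    have hrA : φ.range = A := by
      refine range_eq_of_image_le (F.injective_of_mem hφ) ?_ le_rfl
      rintro _ ⟨x, rfl⟩
      obtain ⟨h, he⟩ := hval x
      exact FusionAlperin.mem_preimageAlong.2 ⟨h, he ▸ (α' _).2⟩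
    have hVA : V ≤ A := FusionAlperin.preimageAlong_mono hWR'
    obtain ⟨k, hk⟩ := hfixV A hVA (le_inf hAS (hAS.trans hVn)) _
      (toIso_mem_autGroup F hφ hrA) fun x hx => by
        rw [toIso_coe]
        obtain ⟨h, he⟩ := hval x
        exact FusionAlperin.mem_preimageAlong.2
          ⟨h, he ▸ hα'W _ (FusionAlperin.mem_preimageAlong.1 hx).2⟩
    refine ⟨k, MulEquiv.ext fun w => Subtype.ext ?_⟩
    obtain ⟨s, hs⟩ := QuotientGroup.mk'_surjective (B.subgroupOf S) (w : S ⧸ B.subgroupOf S)
    have hsA : (s : Ω) ∈ A := FusionAlperin.mem_preimageAlong.2 ⟨s.2, by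
      show θ s ∈ R'
      rw [show θ s = _ from hs]; exact w.2⟩
    let f : A → R' := fun x => ⟨θ ⟨x, hAS x.2⟩, (FusionAlperin.mem_preimageAlong.1 x.2).2⟩
    have := mulAut_pow_compat f (a := toIso F hφ hrA) (b := α')
      (fun x => Subtype.ext (by
        obtain ⟨h, he⟩ := hval x
        exact (congrArg θ (Subtype.ext (toIso_coe F hφ hrA x))).trans he)) (p ^ k) ⟨s, hsA⟩
    rw [hk, MulAut.one_apply, show f ⟨s, hsA⟩ = w from Subtype.ext hs] at this
    simpa using congrArg Subtype.val this.symm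
  -- the centralizer of the core lies in every centric radical subgroup
  set C := B ⊔ centralizerIn S B with hC
  have hCN : F.IsNormal C := by
    refine FusionBatch.isNormal_of_mem_radical hS hF fun R hRn hRc hRr => ?_
    have hRS := hRn.1
    have hBR : B ≤ R := FusionAlperin.normal_le_centric_radical hS hRc hRr hB
    have hBmap : ∀ β ∈ F.autGroup R, ∀ x : R, (x : Ω) ∈ B → ((β : MulAut R) x : Ω) ∈ B :=
      fun β hβ x hx => FusionAlperin.sc_map_mem hRsc (autGroup_mem_hom F hRS hβ) hx
    let K : Subgroup (F.autGroup R) :=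
      { carrier := {a | ∀ x : R, (x : Ω) ∈ B → (a : MulAut R) x = x}
        one_mem' := fun x _ => rfl
        mul_mem' := fun {a b} ha hb x hx => by
          rw [Subgroup.coe_mul, MulAut.mul_apply, hb x hx, ha x hx]
        inv_mem' := fun {a} ha x hx => by
          exact (a : MulAut R).injective
            (((a : MulAut R).apply_symm_apply x).trans (ha x hx).symm) }
    haveI hKn : K.Normal := ⟨fun a ha b x hx => by
      show (b : MulAut R) ((a : MulAut R) ((b : MulAut R)⁻¹ x)) = x
      rw [ha _ (hBmap _ (inv_mem b.2) x hx)]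
      exact (b : MulAut R).apply_symm_apply x⟩
    haveI : Finite R := finite_of_le ‹_› hRS
    have hKp : IsPGroup p K := by
      rintro ⟨a, ha⟩
      obtain ⟨φ', hφ', hP, hS₀, hmem, he⟩ := hsurj.1.2 R _ (autGroup_mem_hom F hRS a.2)
      have hr : φ'.range = imageAlong θ R := by
        haveI : Finite (imageAlong θ R) := inferInstance
        refine range_eq_of_image_le (F'.injective_of_mem hφ') ?_ le_rfl
        rintro _ ⟨y, rfl⟩
        obtain ⟨x, hx⟩ := FusionAlperin.imageAlong_exists hRS y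
        rw [show y = ⟨θ ⟨x, hP x.2⟩, hmem x⟩ from Subtype.ext hx.symm, he]
        exact FusionAlperin.theta_mem_imageAlong hRS ((a : MulAut R) x)
      obtain ⟨i, hi⟩ := hq _ le_top ⟨_, toIso_mem_autGroup F' hφ' hr⟩
      have hi' := congrArg Subtype.val hi
      rw [Subgroup.coe_pow, Subgroup.coe_one] at hi'
      let f : R → imageAlong θ R := fun x => ⟨θ ⟨x, hRS x.2⟩, hmem x⟩
      have hc := mulAut_pow_compat f (a := (a : MulAut R)) (b := toIso F' hφ' hr)
        (fun x => Subtype.ext ((he x).symm.trans (toIso_coe F' hφ' hr _).symm)) (p ^ i)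
      rw [hi'] at hc
      set b : MulAut R := (a : MulAut R) ^ p ^ i with hb
      have hbB : ∀ x : R, (x : Ω) ∈ B → b x = x := by
        have : ∀ j : ℕ, ∀ x : R, (x : Ω) ∈ B → ((a : MulAut R) ^ j) x = x := by
          intro j
          induction j with
          | zero => intro x _; rfl
          | succ j ihj => intro x hx; rw [pow_succ, MulAut.mul_apply, ha x hx, ihj x hx]
        exact this _
      have hbd : ∀ x : R, ((x⁻¹ * b x : R) : Ω) ∈ B := fun x => by
        have h1 : θ ⟨b x, hRS (b x).2⟩ = θ ⟨x, hRS x.2⟩ := congrArg Subtype.val (hc x)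
        refine (hker (⟨x, hRS x.2⟩⁻¹ * ⟨b x, hRS (b x).2⟩)).1 ?_
        rw [map_mul, map_inv, h1, inv_mul_cancel]
      have hbpow : ∀ (x : R) (j : ℕ), (b ^ j) x = x * (x⁻¹ * b x) ^ j := by
        intro x j
        induction j with
        | zero => simp
        | succ j ihj =>
          rw [pow_succ', MulAut.mul_apply, ihj, map_mul, map_pow, hbB _ (hbd x), pow_succ',
            ← mul_assoc, mul_inv_cancel_left]
      obtain ⟨r, hr⟩ := IsPGroup.iff_card.1 (hS.to_le hRS)
      refine ⟨i + r, Subtype.ext (Subtype.ext (MulEquiv.ext fun x => ?_))⟩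
      simp only [SubgroupClass.coe_pow, OneMemClass.coe_one, MulAut.one_apply]
      rw [pow_add, pow_mul, ← hb, hbpow, ← hr, pow_card_eq_one', mul_one]
    have hCR : centralizerIn S B ≤ R := by
      refine le_sup_right.trans (FusionAlperin.le_of_normalizer_self hS
        (sup_le hRS (centralizerIn_le B)) le_sup_left fun x hx hxN => ?_)
      have hx' : x ∈ ((R ⊔ centralizerIn S B : Subgroup Ω) : Set Ω) := hx
      rw [Subgroup.coe_mul_of_left_le_normalizer_right R (centralizerIn S B)
        (hRS.trans (FusionModel.le_normalizer_centralizerIn hBn))] at hx'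
      obtain ⟨r, hr, y, hy, rfl⟩ := hx'
      have hyN : y ∈ Subgroup.normalizer (R : Set Ω) := by
        have := mul_mem (inv_mem (Subgroup.le_normalizer hr)) hxN
        rwa [inv_mul_cancel_left] at this
      refine R.mul_mem hr (FusionBatch.mem_of_mem_pCore hS hRc hRr ⟨hy.1, hyN⟩ ?_)
      have hcm : R.normalizerMonoidHom ⟨y, hyN⟩ ∈ F.autGroup R :=
        autInducedBy_le_autGroup F hRS (mem_autInducedBy.2 ⟨y, hy.1, fun _ => rfl⟩)
      exact ⟨⟨_, hcm⟩, Cfsg.Agent.Cores.le_pCore hKn hKp fun x hx =>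
        Subtype.ext ((mem_centralizerIn_iff_conj.1 hy).2 ⟨x, hx⟩), rfl⟩
    refine ⟨sup_le hBR hCR, fun α hα x hx => ?_⟩
    have hle : (C.subgroupOf R).map (R.subtype.comp α.toMonoidHom) ≤ C := by
      rw [hC, Subgroup.subgroupOf_sup hBR hCR, Subgroup.map_sup]
      refine sup_le_sup ?_ ?_
      · intro y hy
        obtain ⟨z, hz, rfl⟩ := (mem_map_subgroupOf _).1 hy
        exact hBmap α hα z hz
      · intro y hy
        obtain ⟨z, hz, rfl⟩ := (mem_map_subgroupOf _).1 hy
        refine ⟨hRS (α z).2, fun b hb => ?_⟩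
        have hb' := hBmap α⁻¹ (inv_mem hα) ⟨b, hBR hb⟩ hb
        have e : (α⁻¹ ⟨b, hBR hb⟩ : R) * z = z * α⁻¹ ⟨b, hBR hb⟩ := Subtype.ext (hz.2 _ hb')
        have e2 := congrArg (fun w : R => ((α w : R) : Ω)) e
        simpa using e2
    exact hle ((mem_map_subgroupOf _).2 ⟨x, hx, rfl⟩)
  have hCB : C ≤ B := le_sSup (s := {Q | F.IsNormal Q}) hCN
  have hBc : F.IsCentric B := centric_of_fullyCentralized
    (saturated_fullyNormalized hS hF (FusionCrit.isFullyNormalized_of_normal F hBS hBn)).1
    (le_sup_right.trans hCB)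
  obtain ⟨L, hL, ι, hM⟩ := FusionModel.exists_model_of_normal_centric hS hF hB hBc
  have hLp := key F hF₀ hyp L ι hM
  obtain ⟨hLfin, ⟨hinj, hreal⟩, -, -⟩ := hM
  intro P hP a
  obtain ⟨g, hg⟩ := (hreal P hP _ fun x => hP ((a : MulAut P) x).2).1 (autGroup_mem_hom F hP a.2)
  obtain ⟨k, hk⟩ := hLp g
  refine ⟨k, Subtype.ext (MulEquiv.ext fun x => Subtype.ext ?_)⟩
  have := mulAut_pow_compat (fun y : P => ι ⟨y, hP y.2⟩) (a := (a : MulAut P))
    (b := MulAut.conj g) (fun y => hg y) (p ^ k) x
  rw [← map_pow, hk, map_one, MulAut.one_apply] at this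
  simpa using congrArg Subtype.val (hinj this)

end Cfsg.Agent.FusionSys.InnerReduction
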