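import Cfsg.Agent.FusionSys.Essential

/-!
In a `p`-group of maximal class the centralizer `X` of the second centre has index `p`; an
automorphism of the second centre moving the centre makes `X` essential.
-/
set_option autoImplicit false

open Cfsg Cfsg.FusionSystem
open scoped commutatorElement

namespace Cfsg.Agent.FusionSys

/-- If `Z_{i+1}` has cyclic quotient it is everything. -/
theorem upperCentralSeries_succ_eq_top_of_index_le {G : Type*} [Group G] [Finite G] {p : ℕ}
    [Fact p.Prime] (hG : IsPGroup p G) (i : ℕ)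
    (h : (Subgroup.upperCentralSeries G (i + 1)).index ≤ p) :
    Subgroup.upperCentralSeries G (i + 1) = ⊤ := by
  set N := Subgroup.upperCentralSeries G i
  set M := Subgroup.upperCentralSeries G (i + 1)
  obtain ⟨k, hk⟩ := hG.index M
  have hk1 : k ≤ 1 :=
    (Nat.pow_le_pow_iff_right (Fact.out : p.Prime).one_lt).1 (hk ▸ (pow_one p).symm ▸ h)
  have : IsCyclic (G ⧸ M) := by
    rcases Nat.le_one_iff_eq_zero_or_eq_one.1 hk1 with rfl | rfl
    · haveI : Subsingleton (G ⧸ M) := (Nat.card_eq_one_iff_unique.1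
        (by rw [← Subgroup.index_eq_card, hk, pow_zero])).1
      infer_instance
    · exact isCyclic_of_prime_card (p := p) (by rw [← Subgroup.index_eq_card, hk, pow_one])
  have hle : N ≤ M := Subgroup.upperCentralSeries_mono G (Nat.le_succ i)
  let f : G ⧸ N →* G ⧸ M := QuotientGroup.map N M (MonoidHom.id G) hle
  have hker : f.ker ≤ Subgroup.center (G ⧸ N) := by
    intro a ha
    obtain ⟨a, rfl⟩ := QuotientGroup.mk_surjective a
    have ha' : a ∈ M := (QuotientGroup.eq_one_iff a).1 ha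
    refine Subgroup.mem_center_iff.2 fun b => ?_
    obtain ⟨b, rfl⟩ := QuotientGroup.mk_surjective b
    rw [← QuotientGroup.mk_mul, ← QuotientGroup.mk_mul, eq_comm, QuotientGroup.eq]
    have h1 := (Subgroup.mem_upperCentralSeries_succ_iff.1 ha' b)
    have h2 := (inferInstance : N.Normal).conj_mem _ (N.inv_mem h1) (a * b)⁻¹
    rw [commutatorElement_def] at h2
    simpa [mul_assoc] using h2
  refine eq_top_iff.2 fun a _ => Subgroup.mem_upperCentralSeries_succ_iff.2 fun b => ?_
  rw [← QuotientGroup.eq_one_iff]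
  show QuotientGroup.mk' N ⁅a, b⁆ = 1
  rw [map_commutatorElement, commutatorElement_eq_one_iff_mul_comm]
  exact commutative_of_cyclic_center_quotient f hker _ _

/-- In a group of maximal class and order at least `p ^ 4` the first two centres have orders
`p` and `p ^ 2`. -/
theorem card_upperCentralSeries_of_maxClass {G : Type*} [Group G] [Finite G] {p : ℕ}
    [hp : Fact p.Prime] (hG : IsPGroup p G) {n : ℕ} (hn : Nat.card G = p ^ n) (h4 : 4 ≤ n)
    (hmax : (⊤ : Subgroup G).lowerCentralSeries (n - 2) ≠ ⊥) :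
    Nat.card (Subgroup.upperCentralSeries G 1) = p ∧
      Nat.card (Subgroup.upperCentralSeries G 2) = p ^ 2 := by
  haveI := hG.isNilpotent
  set c := Group.nilpotencyClass G with hc
  have hc1 : n - 1 ≤ c := by
    by_contra h
    exact hmax (Subgroup.lowerCentralSeries_eq_bot_iff_nilpotencyClass_le.2 (by omega))
  set Z := Subgroup.upperCentralSeries G
  have hstep : ∀ i < c, Z i < Z (i + 1) := by
    intro i hi
    refine lt_of_le_of_ne (Subgroup.upperCentralSeries_mono G (Nat.le_succ i)) fun he => ?_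
    have hst : ∀ j, Z (i + j) = Z i := by
      intro j
      induction j with
      | zero => rfl
      | succ j ih =>
        ext a
        rw [show i + (j + 1) = (i + j) + 1 from rfl]
        show a ∈ Subgroup.upperCentralSeries G (i + j + 1) ↔ _
        rw [Subgroup.mem_upperCentralSeries_succ_iff]
        show (∀ y, ⁅a, y⁆ ∈ Z (i + j)) ↔ _
        rw [ih, he]
        show (∀ y, ⁅a, y⁆ ∈ Z (i + 1)) ↔ _
        rw [← he]
        exact Subgroup.mem_upperCentralSeries_succ_iff.symm.trans (by rw [show Subgroup.upperCentralSeries G (i + 1) = Z i from he.symm])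
    have h1 : Z c = ⊤ := Subgroup.upperCentralSeries_nilpotencyClass
    have h2 := hst (c - i)
    rw [Nat.add_sub_cancel' hi.le, h1] at h2
    have := Subgroup.upperCentralSeries_eq_top_iff_nilpotencyClass_le.1 h2.symm
    omega
  have hdiv : ∀ i, ∃ e, Nat.card (Z i) = p ^ e := fun i => (hG.to_subgroup (Z i)).exists_card_eq
  choose e he using hdiv
  have hlt : ∀ i < c, e i < e (i + 1) := by
    intro i hi
    refine (Nat.pow_lt_pow_iff_right hp.out.one_lt).1 ?_
    rw [← he, ← he]
    by_contra h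
    exact (hstep i hi).ne (Subgroup.eq_of_le_of_card_ge (hstep i hi).le (not_lt.1 h))
  have hgrow : ∀ i j, i + j ≤ c → e i + j ≤ e (i + j) := by
    intro i j
    induction j with
    | zero => simp
    | succ j ih =>
      intro h
      have := ih (by omega)
      have := hlt (i + j) (by omega)
      rw [← add_assoc i j 1]
      omega
  have hpen : e (c - 1) + 2 ≤ n := by
    by_contra h
    have hne : Z (c - 1) ≠ ⊤ := fun ht => by
      have := Subgroup.upperCentralSeries_eq_top_iff_nilpotencyClass_le.1 ht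
      omega
    have h1 := (Z (c - 1)).card_mul_index
    rw [he, hn] at h1
    obtain ⟨k, hk⟩ := hG.index (Z (c - 1))
    rw [hk, ← pow_add] at h1
    have h2 := Nat.pow_right_injective hp.out.two_le h1
    refine hne ?_
    rw [show c - 1 = (c - 2) + 1 by omega]
    refine upperCentralSeries_succ_eq_top_of_index_le hG _ ?_
    rw [show c - 2 + 1 = c - 1 by omega, show Subgroup.upperCentralSeries G (c - 1) = Z (c - 1) from rfl, hk]
    exact (Nat.pow_le_pow_right hp.out.pos (show k ≤ 1 by omega)).trans (pow_one p).le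
  have h01 := hgrow 0 1 (by omega)
  have h02 := hgrow 0 2 (by omega)
  have h1c := hgrow 1 (c - 2) (by omega)
  rw [show 1 + (c - 2) = c - 1 by omega] at h1c
  have h2c := hgrow 2 (c - 3) (by omega)
  rw [show 2 + (c - 3) = c - 1 by omega] at h2c
  rw [Nat.zero_add] at h01 h02
  refine ⟨?_, ?_⟩
  · rw [he, show e 1 = 1 by omega, pow_one]
  · rw [he, show e 2 = 2 by omega]

variable {Ω : Type*} [Group Ω] {S : Subgroup Ω}

/-- A subgroup whose outer group has a Sylow `p`-subgroup of order `p` which is not normal is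
essential. -/
theorem isEssential_of_card_prime [Finite S] {p : ℕ} [Fact p.Prime] {F : FusionSystem S}
    {P : Subgroup Ω} (hc : F.IsCentric P) (hfn : F.IsFullyNormalized P)
    (hN : ((Inn P).subgroupOf (F.autGroup P)).Normal)
    (R : Sylow p (F.autGroup P ⧸ (Inn P).subgroupOf (F.autGroup P)))
    (hR : Nat.card R = p) (hnn : ¬ (R : Subgroup (F.autGroup P ⧸ (Inn P).subgroupOf (F.autGroup P))).Normal) :
    F.IsEssential p P := by
  haveI : Finite P := finite_of_le ‹_› hc.1
  refine ⟨hc, hfn, hN, Subgroup.normalizer ((R : Subgroup (F.autGroup P ⧸ (Inn P).subgroupOf (F.autGroup P))) : Set (F.autGroup P ⧸ (Inn P).subgroupOf (F.autGroup P))), ?_, ?_, R, ?_⟩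
  · exact hR ▸ Subgroup.card_subgroup_dvd_card _
  · exact fun h => hnn (Subgroup.normalizer_eq_top_iff.1 h)
  · refine iSup_le fun ⟨Q, hQ, hQr⟩ => ?_
    have hQne : Q ≠ ⊥ := by
      rintro rfl
      refine hQr fun A _ _ => ?_
      rw [Nat.sub_self, pow_zero]
      calc Nat.card A ≤ Nat.card (⊥ : Subgroup (F.autGroup P ⧸ (Inn P).subgroupOf (F.autGroup P))) :=
            Subgroup.card_le_card_group A
        _ = 1 := Subgroup.card_bot
    have heq : Q = R := by
      refine Subgroup.eq_of_le_of_card_ge hQ ?_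
      show Nat.card R ≤ _
      rw [hR]
      have hd : Nat.card Q ∣ p := hR ▸ Subgroup.card_dvd_of_le hQ
      rcases (Nat.dvd_prime Fact.out).1 hd with h | h
      · exact absurd (Subgroup.eq_bot_of_card_eq Q h) hQne
      · exact h.ge
    show Subgroup.normalizer (Q : Set (F.autGroup P ⧸ (Inn P).subgroupOf (F.autGroup P))) ≤ _
    rw [heq]

theorem isEssential_centralizer_of_eq_second_center [Finite S] {p : ℕ} [hp : Fact p.Prime]
    (hS : IsPGroup p S) {n : ℕ} (hn : Nat.card S = p ^ n) (h4 : 4 ≤ n)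
    (hmax : Subgroup.lowerCentralSeries S (n - 2) ≠ ⊥) {F : FusionSystem S} (hF : F.IsSaturated p)
    (Z₂ : Subgroup Ω) (hZ₂ : Z₂ = (Subgroup.upperCentralSeries ↥S 2).map S.subtype)
    (φ : ↥Z₂ →* Ω)
    (hφ : φ ∈ F.Hom Z₂)
    (hφZ : φ.range = Z₂)
    (hmove : ∃ (z : Ω) (hz : z ∈ Z₂),
      z ∈ ((Subgroup.center ↥S).map S.subtype) ∧ φ ⟨z, hz⟩ ∉ ((Subgroup.center ↥S).map S.subtype)) :
    F.IsEssential p (S ⊓ Subgroup.centralizer
      (Z₂ : Set Ω)) := by
  have hmax' : (⊤ : Subgroup S).lowerCentralSeries (n - 2) ≠ ⊥ := by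
    intro h
    refine hmax ?_
    have h1 := Subgroup.map_lowerCentralSeries (S := (⊤ : Subgroup S)) S.subtype (n - 2)
    rw [← MonoidHom.range_eq_map, Subgroup.range_subtype, h, Subgroup.map_bot] at h1
    exact h1.symm
  obtain ⟨hc1, hc2⟩ := card_upperCentralSeries_of_maxClass hS hn h4 hmax'
  set X := S ⊓ Subgroup.centralizer (Z₂ : Set Ω) with hX
  obtain ⟨z, hz, hzZ, hw⟩ := hmove
  set w := φ ⟨z, hz⟩ with hwdef
  have hwZ₂ : w ∈ Z₂ := hφZ.le ⟨⟨z, hz⟩, hwdef.symm⟩
  have hwS : w ∈ S := Subgroup.map_subtype_le _ (hZ₂.le hwZ₂)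
  set w' : S := ⟨w, hwS⟩
  have hw' : w' ∈ Subgroup.upperCentralSeries ↥S 2 := by
    obtain ⟨a, ha, hae⟩ := hZ₂.le hwZ₂
    rwa [show w' = a from Subtype.ext hae.symm]
  have hwc : w' ∉ Subgroup.center ↥S := fun h => hw ⟨w', h, rfl⟩
  -- `Z₂` is generated by the centre and `w`
  have hgen : Subgroup.upperCentralSeries ↥S 2 ≤ Subgroup.center ↥S ⊔ Subgroup.zpowers w' := by
    have hle : Subgroup.center ↥S ⊔ Subgroup.zpowers w' ≤ Subgroup.upperCentralSeries ↥S 2 := by
      refine sup_le ?_ (Subgroup.zpowers_le.2 hw')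
      rw [← Subgroup.upperCentralSeries_one]
      exact Subgroup.upperCentralSeries_mono ↥S one_le_two
    refine (Subgroup.eq_of_le_of_card_ge hle ?_).ge
    obtain ⟨k, hk⟩ := (hS.to_subgroup (Subgroup.center ↥S ⊔ Subgroup.zpowers w')).exists_card_eq
    rw [hc2, hk]
    refine Nat.pow_le_pow_right hp.out.pos ?_
    by_contra hlt
    refine hwc ?_
    have heq : Subgroup.center ↥S = Subgroup.center ↥S ⊔ Subgroup.zpowers w' := by
      refine Subgroup.eq_of_le_of_card_ge le_sup_left ?_
      rw [hk, ← Subgroup.upperCentralSeries_one, hc1]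
      exact (Nat.pow_le_pow_right hp.out.pos (show k ≤ 1 by omega)).trans (pow_one p).le
    rw [heq]
    exact Subgroup.mem_sup_right (Subgroup.mem_zpowers w')
  have hXs : X.subgroupOf S = Subgroup.centralizer ({w'} : Set S) := by
    ext g
    rw [Subgroup.mem_subgroupOf, Subgroup.mem_centralizer_singleton_iff]
    constructor
    · intro hg
      exact Subtype.ext (Subgroup.mem_centralizer_iff.1 hg.2 w hwZ₂).symm
    · intro hg
      refine ⟨g.2, Subgroup.mem_centralizer_iff.2 ?_⟩
      intro v hv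
      obtain ⟨a, ha, rfl⟩ := hZ₂.le hv
      have hle : Subgroup.center ↥S ⊔ Subgroup.zpowers w' ≤ Subgroup.centralizer ({g} : Set S) :=
        sup_le (Subgroup.center_le_centralizer _)
          (Subgroup.zpowers_le.2 (Subgroup.mem_centralizer_singleton_iff.2 hg.symm))
      exact congrArg Subtype.val (Subgroup.mem_centralizer_singleton_iff.1 (hle (hgen ha)))
  -- `X` has index `p`
  have hidx : (X.subgroupOf S).index = p := by
    rw [hXs]
    set C := Subgroup.centralizer ({w'} : Set S)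
    obtain ⟨k, hk⟩ := hS.index C
    have hle : C.index ≤ p := by
      rw [Subgroup.index_eq_card, ← hc1]
      refine Nat.card_le_card_of_injective (fun q : S ⧸ C => (⟨⁅q.out, w'⁆, ?_⟩ :
        Subgroup.upperCentralSeries ↥S 1)) fun a b hab => ?_
      · rw [← commutatorElement_inv]
        exact inv_mem (Subgroup.mem_upperCentralSeries_succ_iff.1 hw' _)
      · have h1 : a.out * w' * a.out⁻¹ = b.out * w' * b.out⁻¹ := by
          have h2 : ⁅a.out, w'⁆ = ⁅b.out, w'⁆ := congrArg Subtype.val hab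
          exact mul_right_cancel (b := w'⁻¹) (by simpa [commutatorElement_def] using h2)
        rw [← a.out_eq', ← b.out_eq', QuotientGroup.eq]
        refine Subgroup.mem_centralizer_singleton_iff.2 ?_
        calc a.out⁻¹ * b.out * w' = a.out⁻¹ * (b.out * w' * b.out⁻¹) * b.out := by group
          _ = a.out⁻¹ * (a.out * w' * a.out⁻¹) * b.out := by rw [h1]
          _ = w' * (a.out⁻¹ * b.out) := by group
    have hne : C.index ≠ 1 := fun h => hwc (Subgroup.mem_center_iff.2 fun g =>
      Subgroup.mem_centralizer_singleton_iff.1 ((Subgroup.index_eq_one.1 h).ge (Subgroup.mem_top g)))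
    rw [hk] at hle hne ⊢
    have hk1 : k ≤ 1 := (Nat.pow_le_pow_iff_right hp.out.one_lt).1 ((pow_one p).symm ▸ hle)
    rw [show k = 1 by rcases Nat.le_one_iff_eq_zero_or_eq_one.1 hk1 with rfl | rfl
                      · simp at hne
                      · rfl, pow_one]
  have hXS : X ≤ S := inf_le_left
  haveI : Finite X := finite_of_le ‹_› hXS
  have hZ₂X : Z₂ ≤ X := by
    rw [hZ₂]
    refine le_inf (Subgroup.map_subtype_le _) ?_
    rintro _ ⟨a, ha, rfl⟩
    refine Subgroup.mem_centralizer_iff.2 ?_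
    intro v hv
    obtain ⟨b, hb, rfl⟩ := hZ₂.le hv
    haveI := IsPGroup.isMulCommutative_of_card_eq_prime_sq (G := Subgroup.upperCentralSeries ↥S 2) hc2
    exact congrArg (fun u : Subgroup.upperCentralSeries ↥S 2 => ((u : S) : Ω))
      (mul_comm' (⟨b, hb⟩ : Subgroup.upperCentralSeries ↥S 2) ⟨a, ha⟩)
  have hnormal : ∀ {H : Subgroup S}, H.Normal → normalizerIn S (H.map S.subtype) = S := by
    intro H hH
    refine le_antisymm inf_le_left fun g hg => ⟨hg, Subgroup.mem_normalizer_iff.2 fun u => ?_⟩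
    constructor
    · rintro ⟨a, ha, rfl⟩
      exact ⟨⟨g, hg⟩ * a * ⟨g, hg⟩⁻¹, hH.conj_mem a ha _, rfl⟩
    · rintro ⟨a, ha, hau⟩
      refine ⟨⟨g, hg⟩⁻¹ * a * ⟨g, hg⟩, ?_, ?_⟩
      · simpa using hH.conj_mem a ha (⟨g, hg⟩ : S)⁻¹
      · show g⁻¹ * (a : Ω) * g = u
        rw [show (a : Ω) = g * u * g⁻¹ from hau]
        group
  have hXn : normalizerIn S X = S := by
    rw [← Subgroup.map_subgroupOf_eq_of_le hXS]
    refine hnormal ?_
    rw [hXs]
    refine ⟨fun a ha g => Subgroup.mem_centralizer_singleton_iff.2 ?_⟩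
    have h1 : w'⁻¹ * (g⁻¹ * w' * g) ∈ Subgroup.center ↥S := by
      rw [← Subgroup.upperCentralSeries_one]
      have h := Subgroup.mem_upperCentralSeries_succ_iff.1 (inv_mem hw') g⁻¹
      rw [commutatorElement_def] at h
      simpa [mul_assoc] using h
    set u := w'⁻¹ * (g⁻¹ * w' * g) with hu
    have hu' : g⁻¹ * w' * g = w' * u := (mul_inv_cancel_left w' _).symm
    have h2 : a * (w' * u) = w' * u * a :=
      (Commute.mul_right (Subgroup.mem_centralizer_singleton_iff.1 ha : Commute a w')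
        (Subgroup.mem_center_iff.1 h1 a : Commute a u)).eq
    calc g * a * g⁻¹ * w' = g * (a * (g⁻¹ * w' * g)) * g⁻¹ := by group
      _ = g * ((g⁻¹ * w' * g) * a) * g⁻¹ := by rw [hu', h2]
      _ = w' * (g * a * g⁻¹) := by group
  have hfnX : F.IsFullyNormalized X := ⟨hXS, fun Q _ => by
    rw [hXn]
    exact Subgroup.card_le_of_le (normalizerIn_le Q)⟩
  have hcX : F.IsCentric X := centric_of_fullyCentralized (saturated_fullyNormalized hS hF hfnX).1
    (inf_le_inf_left S (Subgroup.centralizer_le hZ₂X))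
  have hfnZ : F.IsFullyNormalized Z₂ := ⟨hZ₂.le.trans (Subgroup.map_subtype_le _), fun Q _ => by
    rw [hZ₂, hnormal (inferInstance : (Subgroup.upperCentralSeries ↥S 2).Normal)]
    exact Subgroup.card_le_of_le (normalizerIn_le Q)⟩
  -- extend `φ` to an automorphism `α` of `X`
  obtain ⟨ψ, hψ, hψe, -, hψm⟩ :=
    receptive_extend (saturated_receptive_of_fullyNormalized hS hF hfnZ) hφ hφZ
  have hXN : X ≤ extender S Z₂ φ := centralizerIn_le_extender (S := S) φ
  have hext : Z₂ ≤ extender S Z₂ φ := le_extender (le_S F hφ) (map_mem_S F hφ)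
  set ψX := restr hXN ψ
  have hψX : ψX ∈ F.Hom X := restr_mem F hXN hψ
  have hψXle : ∀ u : X, ψX u ∈ X := fun u => ⟨map_mem_S F hψ _, fun y hy =>
    map_mem_centralizer hext hψm (g := Subgroup.inclusion hXN u) (fun v hv => u.2.2 v hv) y hy⟩
  have hψXr : ψX.range = X := range_eq_of_image_le (F.injective_of_mem hψX)
    (by rintro _ ⟨u, rfl⟩; exact hψXle u) le_rfl
  set α : F.autGroup X := ⟨toIso F hψX hψXr, toIso_mem_autGroup F hψX hψXr⟩
  have hαz : ((α : MulAut X) ⟨z, hZ₂X hz⟩ : Ω) = w := by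
    refine (toIso_coe F hψX hψXr _).trans ?_
    exact hψe ⟨z, hz⟩
  -- the outer group
  haveI hIn : ((Inn X).subgroupOf (F.autGroup X)).Normal := by
    refine ⟨fun a ha g => ?_⟩
    obtain ⟨r, hr⟩ := ha
    refine ⟨(g : MulAut X) r, MulEquiv.ext fun y => ?_⟩
    simp only [Subgroup.coe_subtype, Subgroup.coe_mul, Subgroup.coe_inv, MulAut.mul_apply]
    rw [show (a : MulAut X) = MulAut.conj r from hr.symm]
    simp
  obtain ⟨-, T, hT⟩ := (saturated_fullyNormalized hS hF hfnX).2
  set π := QuotientGroup.mk' ((Inn X).subgroupOf (F.autGroup X))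
  set R := T.mapSurjective (f := π) (QuotientGroup.mk'_surjective _) with hR
  have hgN : ∀ g : S, (g : Ω) ∈ Subgroup.normalizer (X : Set Ω) := fun g =>
    (hXn.ge g.2).2
  let cS : S →* F.autGroup X :=
    { toFun := fun g => ⟨X.normalizerMonoidHom ⟨g, hgN g⟩,
        autInducedBy_le_autGroup F hXS (mem_autInducedBy.2 ⟨g, g.2, fun _ => rfl⟩)⟩
      map_one' := by
        refine Subtype.ext (MulEquiv.ext fun y => Subtype.ext ?_)
        show ((1 : S) : Ω) * y * ((1 : S) : Ω)⁻¹ = y
        simp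
      map_mul' := fun a b => by
        refine Subtype.ext (MulEquiv.ext fun y => Subtype.ext ?_)
        show ((a * b : S) : Ω) * y * ((a * b : S) : Ω)⁻¹ =
          (a : Ω) * ((b : Ω) * y * (b : Ω)⁻¹) * (a : Ω)⁻¹
        rw [Subgroup.coe_mul]
        group }
  have hTr : (T : Subgroup (F.autGroup X)) = cS.range := by
    ext a
    rw [hT, Subgroup.mem_subgroupOf, mem_autInducedBy]
    constructor
    · rintro ⟨g, hg, hge⟩
      exact ⟨⟨g, hg⟩, Subtype.ext (MulEquiv.ext fun y => Subtype.ext (hge y).symm)⟩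
    · rintro ⟨g, rfl⟩
      exact ⟨g, g.2, fun y => rfl⟩
  have hkerR : (π.comp cS).ker = X.subgroupOf S := by
    ext g
    rw [MonoidHom.mem_ker, MonoidHom.comp_apply, Subgroup.mem_subgroupOf]
    refine (QuotientGroup.eq_one_iff _).trans ?_
    exact FusionAlperin.autInducedBy_mem_inn_iff hcX ⟨g.2, hgN g⟩
  have hRcard : Nat.card R = p := by
    show Nat.card ((T : Subgroup (F.autGroup X)).map π) = p
    rw [hTr, MonoidHom.map_range, ← Subgroup.index_ker, hkerR, hidx]
  refine isEssential_of_card_prime hcX hfnX hIn R hRcard fun hnorm => ?_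
  -- every element of `S` fixes `w`
  refine hwc (Subgroup.mem_center_iff.2 fun t => ?_)
  have hTn : ∀ a ∈ (T : Subgroup (F.autGroup X)), α⁻¹ * a * α ∈ (T : Subgroup (F.autGroup X)) := by
    intro a ha
    have h1 : π a ∈ (R : Subgroup _) := ⟨a, ha, rfl⟩
    have h2 := hnorm.conj_mem _ h1 (π α)⁻¹
    rw [inv_inv, ← map_inv, ← map_mul, ← map_mul] at h2
    obtain ⟨b, hb, hbe⟩ := h2
    have h3 : b⁻¹ * (α⁻¹ * a * α) ∈ (Inn X).subgroupOf (F.autGroup X) := QuotientGroup.eq.1 hbe
    have h4 : b⁻¹ * (α⁻¹ * a * α) ∈ (T : Subgroup (F.autGroup X)) := by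
      rw [hT]
      exact inn_le_autInducedBy hXS h3
    have := mul_mem hb h4
    rwa [mul_inv_cancel_left] at this
  obtain ⟨s, hs⟩ := hTr.le (hTn (cS t) (hTr.ge ⟨t, rfl⟩))
  have hst : cS t * α = α * cS s := by rw [hs, mul_assoc, mul_inv_cancel_left]
  have h := congrArg (fun a : F.autGroup X => (((a : MulAut X) ⟨z, hZ₂X hz⟩ : X) : Ω)) hst
  have hfixz : (cS s : MulAut X) ⟨z, hZ₂X hz⟩ = ⟨z, hZ₂X hz⟩ := by
    refine Subtype.ext ?_
    show (s : Ω) * z * (s : Ω)⁻¹ = z
    obtain ⟨z', hz', rfl⟩ := hzZ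
    rw [show (s : Ω) * S.subtype z' = S.subtype z' * s from
      congrArg Subtype.val (Subgroup.mem_center_iff.1 hz' s), mul_inv_cancel_right]
  simp only [Subgroup.coe_mul, MulAut.mul_apply] at h
  rw [hfixz, hαz] at h
  replace h : (t : Ω) * ((α : MulAut X) ⟨z, hZ₂X hz⟩ : Ω) * (t : Ω)⁻¹ = w := h
  rw [hαz] at h
  exact Subtype.ext (mul_inv_eq_iff_eq_mul.1 h)

end Cfsg.Agent.FusionSys
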