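import Cfsg.Agent.FusionSys.TransvectionPair
import Cfsg.Agent.FusionAux.NormalRadical
import Cfsg.Agent.FusionAlperin.NormalCriteria
import Cfsg.Agent.PGroup.Frattini
import Cfsg.Agent.H73.MetaSubgroups

/-!
For a metacyclic strongly closed subgroup `P` not contained in a centric radical `Q`: the action
of the stabilizer of `P`-cosets on `(P ⊓ Q)/Φ(P ⊓ Q)` and the extension of its elements to
`Q⟨x⟩`, `x` in `N_P(Q)`.
-/
set_option autoImplicit false

open Cfsg Cfsg.FusionSystem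
open scoped Pointwise

namespace Cfsg.Agent.FusionSys

/-- A homomorphic image of a metacyclic group is metacyclic. -/
theorem isMetacyclic_of_surjective {G H : Type*} [Group G] [Group H] (f : G →* H)
    (hf : Function.Surjective f) (h : Cfsg.IsMetacyclic G) : Cfsg.IsMetacyclic H := by
  obtain ⟨N, hN, hNc, hQc⟩ := h
  have hN' : (N.map f).Normal := hN.map f hf
  haveI := hNc
  haveI := hQc
  refine ⟨N.map f, hN', isCyclic_of_surjective _ (f.subgroupMap_surjective N), ?_⟩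
  refine isCyclic_of_surjective (QuotientGroup.map N (N.map f) f (Subgroup.le_comap_map f N)) ?_
  intro y
  obtain ⟨y, rfl⟩ := QuotientGroup.mk_surjective y
  obtain ⟨x, rfl⟩ := hf y
  exact ⟨x, rfl⟩

/-- A subgroup of a metacyclic subgroup is metacyclic. -/
theorem isMetacyclic_of_le {G : Type*} [Group G] {H K : Subgroup G} (hle : H ≤ K)
    (h : Cfsg.IsMetacyclic ↥K) : Cfsg.IsMetacyclic ↥H :=
  isMetacyclic_of_surjective (Subgroup.subgroupOfEquivOfLe hle).toMonoidHom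
    (Subgroup.subgroupOfEquivOfLe hle).surjective (H73.Meta.isMetacyclic_subgroup h _)

/-- The action of the automorphism group on the quotient by the Frattini subgroup. -/
noncomputable def modFrattini (H : Type*) [Group H] : MulAut H →* MulAut (H ⧸ frattini H) where
  toFun e := QuotientGroup.congr (frattini H) (frattini H) e
    (Subgroup.characteristic_iff_map_eq.1 inferInstance e)
  map_one' := MulEquiv.ext fun x => QuotientGroup.induction_on x fun _ => rfl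
  map_mul' u v := MulEquiv.ext fun x => QuotientGroup.induction_on x fun _ => rfl

theorem modFrattini_apply {H : Type*} [Group H] (e : MulAut H) (x : H) :
    modFrattini H e (QuotientGroup.mk x) = QuotientGroup.mk (e x) := rfl

/-- `|H / Φ(H)| ≤ p²` for a metacyclic `p`-group `H`. -/
theorem card_frattini_quotient_le {H : Type*} [Group H] [Finite H] {p : ℕ} [Fact p.Prime]
    (hH : IsPGroup p H) (hm : Cfsg.IsMetacyclic H) : Nat.card (H ⧸ frattini H) ≤ p ^ 2 := by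
  classical
  obtain ⟨N, hN, hNc, hQc⟩ := hm
  haveI := hNc
  haveI := hQc
  obtain ⟨a, ha⟩ := IsCyclic.exists_generator (α := N)
  obtain ⟨bq, hb⟩ := IsCyclic.exists_generator (α := H ⧸ N)
  obtain ⟨b, rfl⟩ := QuotientGroup.mk_surjective bq
  have hgen : Subgroup.closure ((({(a : H), b} : Finset H) : Set H)) = ⊤ := by
    refine eq_top_iff.2 fun x _ => ?_
    obtain ⟨k, hk⟩ := Subgroup.mem_zpowers_iff.1 (hb x)
    have hx : (b ^ k)⁻¹ * x ∈ N := by
      rw [← QuotientGroup.eq, QuotientGroup.mk_zpow]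
      exact hk
    obtain ⟨j, hj⟩ := Subgroup.mem_zpowers_iff.1 (ha ⟨_, hx⟩)
    have hjx : (a : H) ^ j = (b ^ k)⁻¹ * x := congrArg Subtype.val hj
    rw [show x = b ^ k * ((b ^ k)⁻¹ * x) by group, ← hjx]
    exact mul_mem (zpow_mem (Subgroup.subset_closure (by simp)) k)
      (zpow_mem (Subgroup.subset_closure (by simp)) j)
  rw [← Subgroup.index_eq_card]
  exact (PGroup.index_frattini_le_pow_card hH hgen).trans
    (Nat.pow_le_pow_right (Nat.Prime.pos Fact.out) Finset.card_le_two)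

variable {Ω : Type*} [Group Ω] {S : Subgroup Ω} {F : FusionSystem S} {P Q : Subgroup Ω}

theorem sc_aut_mem (hP : F.StronglyClosed P) (hQ : Q ≤ S) (α : F.autGroup Q) {x : Q}
    (hx : (x : Ω) ∈ P) : ((α : MulAut Q) x : Ω) ∈ P :=
  FusionAlperin.sc_map_mem hP (autGroup_mem_hom F hQ α.2) hx

/-- Restriction of `Aut_F(Q)` to `P ⊓ Q` for a strongly closed `P`. -/
noncomputable def resAut (hP : F.StronglyClosed P) (hQ : Q ≤ S) :
    F.autGroup Q →* MulAut ↥(P ⊓ Q) where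
  toFun α :=
    { toFun := fun z => ⟨((α : MulAut Q) ⟨z, z.2.2⟩ : Ω), sc_aut_mem hP hQ α z.2.1, Subtype.prop _⟩
      invFun := fun z => ⟨((α⁻¹ : F.autGroup Q) : MulAut Q) ⟨z, z.2.2⟩,
        sc_aut_mem hP hQ α⁻¹ z.2.1, Subtype.prop _⟩
      left_inv := fun z => by
        ext
        show (((α : MulAut Q)⁻¹) ((α : MulAut Q) ⟨z, z.2.2⟩) : Ω) = z
        rw [MulAut.inv_apply_self]
      right_inv := fun z => by
        ext
        show ((α : MulAut Q) (((α : MulAut Q)⁻¹) ⟨z, z.2.2⟩) : Ω) = z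
        rw [MulAut.apply_inv_self]
      map_mul' := fun a b => Subtype.ext (congrArg (fun q : Q => (q : Ω))
        (map_mul (α : MulAut Q) ⟨a, a.2.2⟩ ⟨b, b.2.2⟩)) }
  map_one' := rfl
  map_mul' _ _ := rfl

/-- The elements of `Aut_F(Q)` fixing every coset of `P`. -/
def cosetStab (hP : F.StronglyClosed P) (hQ : Q ≤ S) : Subgroup (F.autGroup Q) where
  carrier := {α | ∀ q : Q, (q : Ω)⁻¹ * ((α : MulAut Q) q : Ω) ∈ P}
  one_mem' q := by simp
  mul_mem' {a b} ha hb q := by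
    have h := P.mul_mem (hb q) (ha ((b : MulAut Q) q))
    simpa [mul_assoc] using h
  inv_mem' {a} ha q := by
    have h := P.inv_mem (ha ((a : MulAut Q).symm q))
    simpa [mul_assoc] using h

theorem cosetStab_normal (hP : F.StronglyClosed P) (hQ : Q ≤ S) :
    (cosetStab hP hQ).Normal := by
  refine ⟨fun a ha g q => ?_⟩
  have h : ((((g : MulAut Q).symm q)⁻¹ * (a : MulAut Q) ((g : MulAut Q).symm q) : Q) : Ω) ∈ P := by
    simpa using ha ((g : MulAut Q).symm q)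
  simpa using sc_aut_mem hP hQ g h

/-- The action of `cosetStab` on `(P ⊓ Q) / Φ(P ⊓ Q)`. -/
noncomputable def cosetRho (hP : F.StronglyClosed P) (hQ : Q ≤ S) :
    cosetStab hP hQ →* MulAut (↥(P ⊓ Q) ⧸ frattini ↥(P ⊓ Q)) :=
  (modFrattini _).comp ((resAut hP hQ).comp (cosetStab hP hQ).subtype)

theorem cosetRho_apply (hP : F.StronglyClosed P) (hQ : Q ≤ S) (a : cosetStab hP hQ)
    (z : ↥(P ⊓ Q)) :
    cosetRho hP hQ a (QuotientGroup.mk z) = QuotientGroup.mk (resAut hP hQ a z) := rfl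

theorem cosetRho_ker_isPGroup [Finite S] {p : ℕ} [Fact p.Prime] (hS : IsPGroup p S)
    (hP : F.StronglyClosed P) (hQ : Q ≤ S) : IsPGroup p (cosetRho hP hQ).ker := by
  haveI : Finite ↥(P ⊓ Q) := finite_of_le ‹_› (inf_le_right.trans hQ)
  haveI : Finite Q := finite_of_le ‹_› hQ
  intro a
  have hH : IsPGroup p ↥(P ⊓ Q) := hS.to_le (inf_le_right.trans hQ)
  set r := resAut hP hQ a.1.1 with hr
  obtain ⟨k, m, hm, hn⟩ := Nat.exists_eq_pow_mul_and_not_dvd
    (orderOf_pos r).ne' p (Nat.Prime.ne_one Fact.out)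
  have h1 : r ^ p ^ k = 1 := by
    refine PGroup.mulAut_eq_one_of_frattini hH _ ?_ fun z => ?_
    · rw [orderOf_pow, hn, Nat.gcd_mul_right_left, Nat.mul_div_cancel_left _
        (pow_pos (Nat.Prime.pos Fact.out) k)]
      exact ((Nat.Prime.coprime_iff_not_dvd Fact.out).2 hm).symm
    · have h2 : cosetRho hP hQ ((a : cosetStab hP hQ) ^ p ^ k) (QuotientGroup.mk z) =
          QuotientGroup.mk z := by
        rw [map_pow, show cosetRho hP hQ a.1 = 1 from a.2, one_pow, MulAut.one_apply]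
      rw [cosetRho_apply, Subgroup.coe_pow, map_pow] at h2
      exact QuotientGroup.eq.1 h2.symm
  set b : cosetStab hP hQ := a.1 ^ p ^ k
  have hbr : resAut hP hQ b.1 = 1 := by rw [Subgroup.coe_pow, map_pow, ← hr, h1]
  have hbfix : ∀ x ∈ P.subgroupOf Q, ((b : F.autGroup Q) : MulAut Q) x = x := fun x hx =>
    Subtype.ext (congrArg (fun z : ↥(P ⊓ Q) => (z : Ω)) (DFunLike.congr_fun hbr ⟨x, hx, x.2⟩))
  obtain ⟨e, he⟩ := FusionAux.exists_pow_fix_series (hS.to_le hQ)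
    (α := ((b : F.autGroup Q) : MulAut Q))
    (fun i => if i = 0 then ⊥ else if i = 1 then P.subgroupOf Q else ⊤)
    (fun x hx => by
      rw [if_pos rfl, Subgroup.mem_bot] at hx
      rw [hx, map_one])
    2 (fun i _ => by
      rcases i with _ | _ | i <;> simp)
    (fun i hi x hx => by
      interval_cases i
      · simp at hx ⊢
        simp [hbfix x hx]
      · simp
        exact b.2 x) 2 le_rfl
  refine ⟨k + e, Subtype.ext (Subtype.ext (Subtype.ext ?_))⟩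
  simp only [Subgroup.coe_pow, Subgroup.coe_one, pow_add, pow_mul]
  exact MulEquiv.ext fun x => he x (by simp)

theorem cosetStab_pNormal [Finite S] {p : ℕ} [Fact p.Prime] (hP : F.StronglyClosed P)
    (hc : F.IsCentric Q) (hr : F.IsRadical p Q) {g : Ω} (hg : g ∈ normalizerIn S Q)
    (M : Subgroup (cosetStab hP hc.1)) (hMn : M.Normal) (hMp : IsPGroup p M)
    {a : cosetStab hP hc.1} (haM : a ∈ M)
    (ha : ∀ x : Q, ((a.1 : MulAut Q) x : Ω) = g * x * g⁻¹) : g ∈ Q := by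
  haveI := cosetStab_normal hP hc.1
  have h1 : a.1 ∈ pCore p (F.autGroup Q) :=
    Cores.map_subtype_pCore_le (Subgroup.mem_map_of_mem _ (Cores.le_pCore hMn hMp haM))
  exact FusionAux.mem_of_normal_pGroup hc hr Cores.pCore_isPGroup hg h1 ha

/-- Conjugation by an element of `N_P(Q)`, as an element of `cosetStab`. -/
noncomputable def conjStab (hP : F.StronglyClosed P) (hQ : Q ≤ S) {x : Ω} (hxP : x ∈ P)
    (hxN : x ∈ Subgroup.normalizer (Q : Set Ω)) : cosetStab hP hQ :=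
  ⟨⟨Q.normalizerMonoidHom ⟨x, hxN⟩, autInducedBy_le_autGroup F hQ
      (mem_autInducedBy.2 ⟨x, hP.1 hxP, fun _ => rfl⟩)⟩, fun q => by
    show (q : Ω)⁻¹ * (x * q * x⁻¹) ∈ P
    have h : (q : Ω)⁻¹ * x * q ∈ P := by
      have hle : Subgroup.zpowers x ≤ P := Subgroup.zpowers_le.2 hxP
      have hh := hP.2 _ hle _ (F.conj_mem (hle.trans hP.1) (S.inv_mem (hQ q.2)))
        ⟨x, Subgroup.mem_zpowers x⟩
      simpa [Cfsg.conjHom] using hh
    simpa [mul_assoc] using P.mul_mem h (P.inv_mem hxP)⟩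

theorem conjStab_apply (hP : F.StronglyClosed P) (hQ : Q ≤ S) {x : Ω} (hxP : x ∈ P)
    (hxN : x ∈ Subgroup.normalizer (Q : Set Ω)) (q : Q) :
    (((conjStab hP hQ hxP hxN).1 : MulAut Q) q : Ω) = x * q * x⁻¹ := rfl

theorem conjStab_pow [Finite S] {p : ℕ} (hS : IsPGroup p S) (hP : F.StronglyClosed P) (hQ : Q ≤ S)
    {x : Ω} (hxP : x ∈ P) (hxN : x ∈ Subgroup.normalizer (Q : Set Ω)) :
    ∃ k : ℕ, conjStab hP hQ hxP hxN ^ p ^ k = 1 := by
  obtain ⟨k, hk⟩ := hS ⟨x, hP.1 hxP⟩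
  refine ⟨k, Subtype.ext (Subtype.ext ?_)⟩
  simp only [Subgroup.coe_pow, Subgroup.coe_one]
  show Q.normalizerMonoidHom ⟨x, hxN⟩ ^ p ^ k = 1
  rw [← map_pow, show (⟨x, hxN⟩ : Subgroup.normalizer (Q : Set Ω)) ^ p ^ k = 1 from
    Subtype.ext (congrArg Subtype.val hk :), map_one]

/-- An element of `N_P(Q)` outside `Q`, with `p`-th power inside. -/
theorem exists_outside [Finite S] {p : ℕ} [Fact p.Prime] (hS : IsPGroup p S)
    (hP : F.StronglyClosed P) (hQ : Q ≤ S) (hne : ¬ P ≤ Q) :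
    ∃ x ∈ P, x ∈ Subgroup.normalizer (Q : Set Ω) ∧ x ∉ Q ∧ x ^ p ∈ Q := by
  obtain ⟨x, hxP, hxN, hxQ⟩ : ∃ x ∈ P, x ∈ Subgroup.normalizer (Q : Set Ω) ∧ x ∉ Q := by
    by_contra hcon
    push Not at hcon
    refine hne (le_sup_left.trans (FusionAlperin.le_of_normalizer_self hS (sup_le hP.1 hQ)
      le_sup_right fun g hgK hgN => ?_))
    have hnorm : Q ≤ Subgroup.normalizer (P : Set Ω) := by
      intro q hq
      haveI := finite_of_le ‹Finite S› hP.1
      refine Subgroup.mem_normalizer_fintype (S := (P : Set Ω)) fun n hn => ?_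
      have hle : Subgroup.zpowers n ≤ P := Subgroup.zpowers_le.2 hn
      exact hP.2 _ hle _ (F.conj_mem (hle.trans hP.1) (hQ hq)) ⟨n, Subgroup.mem_zpowers n⟩
    have hmem : g ∈ (P : Set Ω) * (Q : Set Ω) := by
      rw [← Subgroup.coe_mul_of_right_le_normalizer_left P Q hnorm]
      exact hgK
    obtain ⟨a, ha, b, hb, rfl⟩ := hmem
    have hbN : b ∈ Subgroup.normalizer (Q : Set Ω) := Subgroup.le_normalizer hb
    have haN : a ∈ Subgroup.normalizer (Q : Set Ω) := by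
      have h := mul_mem hgN (inv_mem hbN)
      rwa [mul_inv_cancel_right] at h
    exact mul_mem (hcon a ha haN) hb
  obtain ⟨k, hk⟩ := hS ⟨x, hP.1 hxP⟩
  have hex : ∃ n : ℕ, x ^ p ^ n ∈ Q :=
    ⟨k, by rw [show x ^ p ^ k = 1 from congrArg Subtype.val hk]; exact one_mem Q⟩
  classical
  have h0 : Nat.find hex ≠ 0 := fun h => hxQ (by simpa [h] using Nat.find_spec hex)
  refine ⟨x ^ p ^ (Nat.find hex - 1), pow_mem hxP _, pow_mem hxN _,
    Nat.find_min hex (Nat.sub_one_lt h0), ?_⟩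
  rw [← pow_mul, ← pow_succ, Nat.sub_one_add_one h0]
  exact Nat.find_spec hex

theorem conjStab_rho_ne_one [Finite S] {p : ℕ} [Fact p.Prime] (hS : IsPGroup p S)
    (hP : F.StronglyClosed P) (hc : F.IsCentric Q) (hr : F.IsRadical p Q) {x : Ω} (hxP : x ∈ P)
    (hxN : x ∈ Subgroup.normalizer (Q : Set Ω)) (hxQ : x ∉ Q) :
    cosetRho hP hc.1 (conjStab hP hc.1 hxP hxN) ≠ 1 := fun h =>
  hxQ (cosetStab_pNormal hP hc hr ⟨hP.1 hxP, hxN⟩ _ (MonoidHom.normal_ker _)
    (cosetRho_ker_isPGroup hS hP hc.1) h fun _ => rfl)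

/-- An element of `cosetStab` commuting with `x` on `(P ⊓ Q)/Φ` extends to `Q⟨x⟩` and moves `x`
only inside `x (P ⊓ Q)`. -/
theorem exists_extension [Finite S] {p : ℕ} [Fact p.Prime] (hS : IsPGroup p S)
    (hF : F.IsSaturated p) (hP : F.StronglyClosed P) (hc : F.IsCentric Q) (hr : F.IsRadical p Q)
    {x : Ω} (hxP : x ∈ P) (hxN : x ∈ Subgroup.normalizer (Q : Set Ω))
    (σ : cosetStab hP hc.1)
    (hcomm : cosetRho hP hc.1 σ * cosetRho hP hc.1 (conjStab hP hc.1 hxP hxN) =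
      cosetRho hP hc.1 (conjStab hP hc.1 hxP hxN) * cosetRho hP hc.1 σ) :
    ∃ (N : Subgroup Ω) (hQN : Q ≤ N) (hxm : x ∈ N) (ψ : N →* Ω), ψ ∈ F.Hom N ∧
      (∀ q : Q, ψ (Subgroup.inclusion hQN q) = ((σ.1 : MulAut Q) q : Ω)) ∧
      x⁻¹ * ψ ⟨x, hxm⟩ ∈ P ⊓ Q := by
  set τ := conjStab hP hc.1 hxP hxN
  set c := σ * τ * σ⁻¹ * τ⁻¹
  have hck : c ∈ (cosetRho hP hc.1).ker := by
    rw [MonoidHom.mem_ker]
    simp only [c, map_mul, map_inv, hcomm]
    group
  haveI := cosetStab_normal hP hc.1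
  have hcI : (c.1 : MulAut Q) ∈ Inn Q := by
    rw [← hr.2]
    exact Subgroup.mem_map_of_mem _ (Cores.map_subtype_pCore_le (Subgroup.mem_map_of_mem _
      (Cores.le_pCore (MonoidHom.normal_ker _) (cosetRho_ker_isPGroup hS hP hc.1) hck)))
  obtain ⟨r, hr'⟩ := hcI
  have hkey : ∀ q : Q, ((σ.1 : MulAut Q) ((τ.1 : MulAut Q) q) : Ω) =
      (r : Ω) * x * ((σ.1 : MulAut Q) q : Ω) * ((r : Ω) * x)⁻¹ := by
    intro q
    have h1 : ((MulAut.conj r) ((τ.1 : MulAut Q) ((σ.1 : MulAut Q) q)) : Ω) =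
        ((σ.1 : MulAut Q) ((τ.1 : MulAut Q) q) : Ω) := by
      rw [show MulAut.conj r = (c.1 : MulAut Q) from hr']
      simp [c, MulAut.mul_apply]
    rw [← h1]
    show (r : Ω) * (x * ((σ.1 : MulAut Q) q : Ω) * x⁻¹) * (r : Ω)⁻¹ = _
    group
  let φ : Q →* Ω := Q.subtype.comp ((σ.1 : MulAut Q) : Q →* Q)
  have hφ : φ ∈ F.Hom Q := autGroup_mem_hom F hc.1 σ.1.2
  have hrange : φ.range = Q := by
    refine le_antisymm (fun y ⟨q, hq⟩ => hq ▸ ((σ.1 : MulAut Q) q).2) fun y hy => ?_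
    obtain ⟨q, hq⟩ := (σ.1 : MulAut Q).surjective ⟨y, hy⟩
    exact ⟨q, congrArg Subtype.val hq⟩
  obtain ⟨ψ, hψ, hψe, -, -⟩ := receptive_extend
    (saturated_fullyCentralized hS hF (centric_fullyCentralized hc)) hφ hrange
  have hxm : x ∈ extender S Q φ := by
    refine Subgroup.subset_closure ⟨hP.1 hxP, hxN, (r : Ω) * x, S.mul_mem (hc.1 r.2) (hP.1 hxP),
      fun q hq => ?_⟩
    exact hkey q
  have hQN := le_extender (le_S F hφ) (map_mem_S F hφ)
  refine ⟨_, hQN, hxm, ψ, hψ, hψe, ?_⟩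
  set y := ψ ⟨x, hxm⟩
  have hyP : y ∈ P := FusionAlperin.sc_map_mem hP hψ hxP
  refine ⟨P.mul_mem (P.inv_mem hxP) hyP, ?_⟩
  have hz : ((r : Ω) * x)⁻¹ * y ∈ centralizerIn S Q := by
    refine mem_centralizerIn_iff_conj.2
      ⟨S.mul_mem (S.inv_mem (S.mul_mem (hc.1 r.2) (hP.1 hxP))) (hP.1 hyP), fun z => ?_⟩
    obtain ⟨q, hq⟩ := (σ.1 : MulAut Q).surjective z
    subst hq
    have h2 : y * ((σ.1 : MulAut Q) q : Ω) * y⁻¹ = ((σ.1 : MulAut Q) ((τ.1 : MulAut Q) q) : Ω) := by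
      have hψe' : ∀ q : Q, ψ (Subgroup.inclusion hQN q) = ((σ.1 : MulAut Q) q : Ω) := hψe
      rw [← hψe' q, ← hψe' ((τ.1 : MulAut Q) q), ← map_inv, ← map_mul, ← map_mul]
      exact congrArg ψ (Subtype.ext (conjStab_apply hP hc.1 hxP hxN q).symm)
    calc ((r : Ω) * x)⁻¹ * y * ((σ.1 : MulAut Q) q : Ω) * (((r : Ω) * x)⁻¹ * y)⁻¹
        = ((r : Ω) * x)⁻¹ * (y * ((σ.1 : MulAut Q) q : Ω) * y⁻¹) * ((r : Ω) * x) := by group
      _ = _ := by rw [h2, hkey]; group
  have hzQ := centralizerIn_self_centric hc hz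
  have h1 : x⁻¹ * (r : Ω) * x ∈ Q :=
    (Subgroup.mem_normalizer_iff''.1 hxN r).1 r.2
  simpa [mul_assoc] using Q.mul_mem h1 hzQ

end Cfsg.Agent.FusionSys
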