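import Cfsg.Agent.S2794
import Cfsg.Prelude.Def_FusionComponents
import Cfsg.Agent.FusionSys.Basic

/-!
The fusion system of a Qd(p)-free group is solvable: modulo any proper strongly closed subgroup
there is a nontrivial subgroup normal in the factor system. The proof descends through
`N(Z(J(P))) / Z(J(P))`.
-/
set_option autoImplicit false

open Cfsg

namespace Cfsg.Agent.FusionSys

universe u

/-- In a Qd(p)-free group the normalizer of `Z(J(P))` controls strong fusion in `P`. -/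
theorem qdFree_control {G : Type u} [Group G] [Finite G] {p : ℕ} [Fact p.Prime] (hp : p ≠ 2)
    (hfree : ¬ Cfsg.Involves ↥(Cfsg.qd p) G) (X : Type u) [Group X] [Finite X]
    (hX : CF.IsSec X G) (S : Sylow p X) {D : Subgroup X} (hD : D ≤ (S : Subgroup X)) {g : X}
    (hg : ∀ d ∈ D, g * d * g⁻¹ ∈ (S : Subgroup X)) :
    ∃ x ∈ Subgroup.normalizer (Cfsg.centerThompsonAOf (S : Subgroup X) : Set X),
      ∀ d ∈ D, x * d * x⁻¹ = g * d * g⁻¹ := by
  have h𝓦 : ∀ W ∈ ({S2794.zjFun} : Set (∀ (Q : Type u) [Group Q], Subgroup Q)),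
      Cfsg.IsCharPFunctor p W := fun W hW => (Set.mem_singleton_iff.1 hW) ▸ S2794.zjFun_charP
  have h : CF.FusIn {Cfsg.inducedFunctor S2794.zjFun} ⊤ (S : Subgroup X) := by
    rw [← CF.fam_singleton]
    refine CF.fusIn_of_sections (G := G) h𝓦 ?_ _ hX S
    intro Y _ _ hY hC T
    rw [CF.fam_singleton]
    refine CF.fusIn_singleton fun D' _ g' hg' _ => ⟨g', ⟨hg', ?_⟩, fun d _ => rfl⟩
    have hn : (Cfsg.centerThompsonAOf (T : Subgroup Y)).Normal := by
      refine S0664.result hp ?_ hC T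
      rintro ⟨K₁, R₁, hR₁, ⟨e⟩⟩
      obtain ⟨K₀, R₀, hR₀, ⟨e₀⟩⟩ := hY.exists_equiv
      obtain ⟨K₂, R₂, hR₂, ⟨e₂⟩⟩ := Stability.section_comap e₀.toMonoidHom e₀.surjective hR₁ e
      exact hfree (LocalP.QdStab.section_trans hR₂ e₂)
    rw [S2794.induced_zjFun, CF.Nz, Subgroup.normalizer_eq_top (h := hn)]
    trivial
  obtain ⟨x, hx, he⟩ := CF.agree_of_fusIn_singleton h hD (Subgroup.mem_top g) (by
    rintro _ ⟨d, hd, rfl⟩
    exact hg d hd)
  rw [S2794.induced_zjFun] at hx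
  exact ⟨x, hx.2, he⟩

/-- The descent: above a proper strongly closed subgroup there is a subgroup `Y` which is
preserved, modulo `R`, by enough of the fusion. -/
theorem qdFree_step {G : Type u} [Group G] [Finite G] {p : ℕ} [Fact p.Prime] (hp : p ≠ 2)
    (hfree : ¬ Cfsg.Involves ↥(Cfsg.qd p) G) :
    ∀ (n : ℕ) (X : Type u) [Group X] [Finite X], CF.IsSec X G → Nat.card X = n →
      ∀ (P : Sylow p X) (R : Subgroup X), R < (P : Subgroup X) →
      (∀ g : X, ∀ r ∈ R, g * r * g⁻¹ ∈ (P : Subgroup X) → g * r * g⁻¹ ∈ R) →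
      ∃ Y : Subgroup X, R < Y ∧ Y ≤ (P : Subgroup X) ∧
        ∀ (g : X) (Q : Subgroup X), Q ≤ (P : Subgroup X) → R ≤ Q →
          (∀ q ∈ Q, g * q * g⁻¹ ∈ (P : Subgroup X)) →
          ∃ h : X, (∀ y ∈ Y, h * y * h⁻¹ ∈ Y) ∧
            ∀ q ∈ Q, h * q * h⁻¹ ∈ (P : Subgroup X) ∧ (g * q * g⁻¹)⁻¹ * (h * q * h⁻¹) ∈ R := by
  intro n
  induction n using Nat.strong_induction_on with
  | _ n ih =>
    intro X _ _ hX hn P R hRP hsc
    set Z := Cfsg.centerThompsonAOf (P : Subgroup X) with hZdef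
    have hPne : (P : Subgroup X) ≠ ⊥ := fun he => not_lt_bot (he ▸ hRP)
    have hZne : Z ≠ ⊥ := Modules.centerThompsonAOf_ne_bot P.2 hPne
    have hZP : Z ≤ (P : Subgroup X) := Modules.centerThompsonAOf_le _
    by_cases hZR : Z ≤ R
    swap
    · refine ⟨R ⊔ Z, lt_of_le_of_ne le_sup_left fun he => hZR (he.symm ▸ le_sup_right),
        sup_le hRP.le hZP, fun g Q hQ hRQ hg => ?_⟩
      obtain ⟨x, hxZ, hx⟩ := qdFree_control hp hfree X hX P hQ hg
      refine ⟨x, ?_, fun q hq => ⟨(hx q hq).symm ▸ hg q hq, ?_⟩⟩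
      swap
      · rw [hx q hq, inv_mul_cancel]
        exact one_mem R
      have hle : R ⊔ Z ≤ (R ⊔ Z).comap (MulAut.conj x).toMonoidHom := by
        refine sup_le (fun r hr => Subgroup.mem_sup_left ?_) (fun z hz => Subgroup.mem_sup_right ?_)
        · show x * r * x⁻¹ ∈ R
          rw [hx r (hRQ hr)]
          exact hsc g r hr (hg r (hRQ hr))
        · exact (Subgroup.mem_normalizer_iff.1 hxZ z).1 hz
      exact fun y hy => hle hy
    -- pass to `N(Z) / Z`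
    let L : Subgroup X := Subgroup.normalizer (Z : Set X)
    let N : Subgroup L := Z.subgroupOf L
    have hZL : Z ≤ L := Subgroup.le_normalizer
    have hN : N.Normal := Subgroup.normal_in_normalizer
    have hPL : (P : Subgroup X) ≤ L := by
      intro a ha
      obtain ⟨x, hxZ, hx⟩ := qdFree_control hp hfree X hX P le_rfl (g := a)
        fun d hd => mul_mem (mul_mem ha hd) (inv_mem ha)
      refine Stability.mem_normalizer_of_conj_mem fun z hz => ?_
      rw [← hx z (hZP hz)]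
      exact (Subgroup.mem_normalizer_iff.1 hxZ z).1 hz
    let f : L →* L ⧸ N := QuotientGroup.mk' N
    have hf : Function.Surjective f := QuotientGroup.mk'_surjective N
    let PL : Sylow p L := P.subtype hPL
    let P' : Sylow p (L ⧸ N) := PL.mapSurjective (f := f) hf
    let R' : Subgroup (L ⧸ N) := (R.subgroupOf L).map f
    have hker : ∀ {S : Subgroup X}, Z ≤ S → ∀ l : L, f l ∈ (S.subgroupOf L).map f → (l : X) ∈ S := by
      rintro S hS l ⟨a, ha, hal⟩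
      have h1 : a⁻¹ * l ∈ N := QuotientGroup.eq.1 hal
      have h2 : (a : X) * ((a⁻¹ * l : L) : X) ∈ S := mul_mem (ha : (a : X) ∈ S) (hS h1)
      simpa using h2
    have hP' : (P' : Subgroup (L ⧸ N)) = ((P : Subgroup X).subgroupOf L).map f := rfl
    have hlt : R' < (P' : Subgroup (L ⧸ N)) := by
      rw [hP']
      refine lt_of_le_of_ne (Subgroup.map_mono (Subgroup.comap_mono hRP.le)) fun he => ?_
      exact hRP.not_ge fun a ha => hker hZR ⟨a, hPL ha⟩ (he.ge ⟨⟨a, hPL ha⟩, ha, rfl⟩)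
    have hsc' : ∀ g : L ⧸ N, ∀ r ∈ R', g * r * g⁻¹ ∈ (P' : Subgroup (L ⧸ N)) → g * r * g⁻¹ ∈ R' := by
      intro g r hr hgr
      obtain ⟨l, rfl⟩ := hf g
      obtain ⟨a, ha, rfl⟩ := hr
      rw [hP', ← map_inv, ← map_mul, ← map_mul] at hgr
      rw [← map_inv, ← map_mul, ← map_mul]
      exact ⟨l * a * l⁻¹, hsc l a ha (by simpa using hker hZP _ hgr), rfl⟩
    have hsec : CF.IsSec (L ⧸ N) G := by
      obtain ⟨K, φ, hφ⟩ := hX
      refine ⟨(L.comap φ).map K.subtype, f.comp ((φ.subgroupComap L).comp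
        (Subgroup.equivMapOfInjective (L.comap φ) K.subtype K.subtype_injective).symm.toMonoidHom), ?_⟩
      exact hf.comp ((φ.subgroupComap_surjective_of_surjective L hφ).comp
        (MulEquiv.surjective _))
    have hcard : Nat.card (L ⧸ N) < n := by
      rw [← hn]
      have h1 : 1 < Nat.card N := by
        refine Finite.one_lt_card_iff_nontrivial.2 ((Subgroup.nontrivial_iff_ne_bot N).2 ?_)
        intro he
        exact hZne (disjoint_self.1 ((Subgroup.subgroupOf_eq_bot.1 he).mono_right hZL))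
      have h2 := Subgroup.card_eq_card_quotient_mul_card_subgroup N
      have h3 : Nat.card L ≤ Nat.card X := Subgroup.card_le_card_group L
      have h4 : 0 < Nat.card (L ⧸ N) := Nat.card_pos
      calc Nat.card (L ⧸ N) < Nat.card (L ⧸ N) * Nat.card N := lt_mul_of_one_lt_right h4 h1
        _ ≤ Nat.card X := h2 ▸ h3
    obtain ⟨Y', hRY, hYP, hY⟩ := ih _ hcard (L ⧸ N) hsec rfl P' R' hlt hsc'
    refine ⟨(Y'.comap f).map L.subtype, ?_, ?_, fun g Q hQ hRQ hg => ?_⟩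
    · refine lt_of_le_of_ne (fun r hr => ⟨⟨r, hPL (hRP.le hr)⟩,
        hRY.le ⟨⟨r, hPL (hRP.le hr)⟩, hr, rfl⟩, rfl⟩) fun he => ?_
      refine hRY.not_ge fun y hy => ?_
      obtain ⟨l, rfl⟩ := hf y
      exact ⟨l, (he.ge ⟨l, hy, rfl⟩ : (l : X) ∈ R), rfl⟩
    · rintro _ ⟨l, hl, rfl⟩
      exact hker hZP l (hP'.le (hYP hl))
    obtain ⟨x, hxZ, hx⟩ := qdFree_control hp hfree X hX P hQ hg
    obtain ⟨h', hh', hhq⟩ := hY (f ⟨x, hxZ⟩) ((Q.subgroupOf L).map f)
      (hP'.ge.trans' (Subgroup.map_mono (Subgroup.comap_mono hQ)))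
      (Subgroup.map_mono (Subgroup.comap_mono hRQ)) (by
        rintro _ ⟨a, ha, rfl⟩
        rw [hP', ← map_inv, ← map_mul, ← map_mul]
        refine ⟨_, ?_, rfl⟩
        show x * (a : X) * x⁻¹ ∈ (P : Subgroup X)
        exact (hx _ ha).symm ▸ hg _ ha)
    obtain ⟨m, rfl⟩ := hf h'
    refine ⟨m, ?_, fun q hq => ?_⟩
    · rintro _ ⟨l, hl, rfl⟩
      refine ⟨m * l * m⁻¹, ?_, rfl⟩
      show f (m * l * m⁻¹) ∈ Y'
      rw [map_mul, map_mul, map_inv]
      exact hh' _ hl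
    · obtain ⟨h1, h2⟩ := hhq (f ⟨q, hPL (hQ hq)⟩) ⟨⟨q, hPL (hQ hq)⟩, hq, rfl⟩
      rw [hP', ← map_inv, ← map_mul, ← map_mul] at h1
      simp only [← map_inv, ← map_mul] at h2
      refine ⟨hker hZP _ h1, ?_⟩
      have h3 := hker hZR _ h2
      rw [← hx q hq]
      simpa [mul_assoc] using h3

variable {G : Type u} [Group G] [Finite G]

/-- **The fusion system of a Qd(p)-free group is solvable.** -/
theorem isSolvableSystem_of_qdFree {p : ℕ} [Fact p.Prime] (hp : p ≠ 2)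
    (hfree : ¬ Cfsg.Involves ↥(Cfsg.qd p) G) (P : Sylow p G) :
    (Cfsg.groupFusionSystem (P : Subgroup G)).IsSolvableSystem := by
  intro R hR hne _ E hE
  set F := Cfsg.groupFusionSystem (P : Subgroup G)
  set S := (P : Subgroup G)
  set θ := QuotientGroup.mk' (R.subgroupOf S)
  have hθ : Function.Surjective θ := QuotientGroup.mk'_surjective _
  have hθ1 : ∀ s : S, θ s = 1 ↔ (s : G) ∈ R := hE.2.1
  have hsc : ∀ g : G, ∀ r ∈ R, g * r * g⁻¹ ∈ S → g * r * g⁻¹ ∈ R := by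
    intro g r hr hgr
    have hle : Subgroup.zpowers r ≤ R := Subgroup.zpowers_le.2 hr
    have hcl : Subgroup.zpowers r ≤ S.comap (MulAut.conj g).toMonoidHom :=
      Subgroup.zpowers_le.2 hgr
    exact hR.2 _ hle (Cfsg.conjHom _ g) ⟨hle.trans hR.1, fun x => hcl x.2, g, fun x => rfl⟩
      ⟨r, Subgroup.mem_zpowers r⟩
  obtain ⟨Y, hRY, hYS, hY⟩ := qdFree_step hp hfree _ G (CF.IsSec.refl G) rfl P R
    (lt_of_le_of_ne hR.1 hne) hsc
  set Y' : Subgroup (S ⧸ R.subgroupOf S) := (Y.subgroupOf S).map θ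
  suffices hnorm : E.IsNormal Y' by
    intro hbot
    have h1 : Y' = ⊥ := le_bot_iff.1 (hbot ▸ le_sSup hnorm)
    exact hRY.not_ge fun y hy => (hθ1 ⟨y, hYS hy⟩).1
      (Subgroup.mem_bot.1 (h1.le ⟨⟨y, hYS hy⟩, hy, rfl⟩))
  refine ⟨le_top, fun P' φ' hφ' => ?_⟩
  obtain ⟨-, φ, ⟨hQS, hφS, g, hg⟩, hQS', hφS', hP', hind⟩ := (hE.2.2.2 P' φ').1 hφ'
  set Q := Cfsg.FusionSystem.preimageAlong θ P'
  have hmemQ : ∀ s : S, θ s ∈ P' → (s : G) ∈ Q := fun s hs => ⟨s, hs, rfl⟩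
  have hRQ : R ≤ Q := fun r hr => hmemQ ⟨r, hR.1 hr⟩ (by rw [(hθ1 ⟨r, _⟩).2 hr]; exact one_mem _)
  have hgQ : ∀ q ∈ Q, g * q * g⁻¹ ∈ S := fun q hq => hg ⟨q, hq⟩ ▸ hφS ⟨q, hq⟩
  obtain ⟨h, hhY, hhQ⟩ := hY g Q hQS hRQ hgQ
  set W : Subgroup (S ⧸ R.subgroupOf S) := P' ⊔ Y'
  have hW : W.comap θ ≤ (Q ⊔ Y).subgroupOf S := by
    have h0 : W ≤ ((Q ⊔ Y).subgroupOf S).map θ := by
      refine sup_le (fun a ha => ?_) (Subgroup.map_mono (Subgroup.comap_mono le_sup_right))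
      obtain ⟨s, rfl⟩ := hθ a
      exact ⟨s, Subgroup.mem_sup_left (hmemQ s ha), rfl⟩
    refine (Subgroup.comap_mono h0).trans ?_
    rw [Subgroup.comap_map_eq, sup_le_iff]
    exact ⟨le_rfl, fun s hs => Subgroup.mem_sup_left (hRQ ((hθ1 s).1 hs))⟩
  have hconj : ∀ s : S, θ s ∈ W → h * (s : G) * h⁻¹ ∈ S := by
    intro s hs
    have hle : Q ⊔ Y ≤ S.comap (MulAut.conj h).toMonoidHom :=
      sup_le (fun q hq => (hhQ q hq).1) (fun y hy => hYS (hhY y hy))
    exact hle (hW (show s ∈ W.comap θ from hs))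
  -- the induced map on `W`
  let ψ₀ : W.comap θ →* S ⧸ R.subgroupOf S := θ.comp
    (((MulAut.conj h).toMonoidHom.comp (S.subtype.comp (W.comap θ).subtype)).codRestrict S
      fun s => hconj s.1 s.2)
  let π : W.comap θ →* W := θ.subgroupComap W
  have hπ : Function.Surjective π := θ.subgroupComap_surjective_of_surjective W hθ
  have hk : π.ker ≤ ψ₀.ker := by
    intro s hs
    have hsR : ((s : S) : G) ∈ R := (hθ1 _).1 (congrArg Subtype.val hs)
    refine (hθ1 _).2 ?_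
    show h * ((s : S) : G) * h⁻¹ ∈ R
    have h1 := mul_mem (hsc g _ hsR (hgQ _ (hRQ hsR))) (hhQ _ (hRQ hsR)).2
    rwa [mul_inv_cancel_left] at h1
  let ψ' : W →* S ⧸ R.subgroupOf S := π.liftOfSurjective hπ ⟨ψ₀, hk⟩
  have hψ' : ∀ s : W.comap θ, ψ' (π s) = ψ₀ s := fun s =>
    DFunLike.congr_fun (π.liftOfRightInverse_comp _ (Function.rightInverse_surjInv hπ) ⟨ψ₀, hk⟩) s
  have hψ : ψ' ∈ E.Hom W := by
    refine (hE.2.2.2 W ψ').2 ⟨le_top, Cfsg.conjHom _ h, ⟨?_, ?_, h, fun x => rfl⟩, ?_⟩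
    · exact Subgroup.map_subtype_le _
    · rintro ⟨_, s, hs, rfl⟩
      exact hconj s hs
    · refine ⟨Subgroup.map_subtype_le _, ?_, ?_, ?_⟩
      · rintro ⟨_, s, hs, rfl⟩
        exact hconj s hs
      · rintro ⟨_, s, hs, rfl⟩
        exact hs
      · rintro ⟨_, s, hs, rfl⟩
        exact hψ' ⟨s, hs⟩
  refine ⟨ψ', hψ, fun x => ?_, ?_⟩
  · obtain ⟨s, hs⟩ := hθ (x : S ⧸ R.subgroupOf S)
    have hsQ : θ s ∈ P' := hs.symm ▸ x.2
    have hsW : s ∈ W.comap θ := Subgroup.mem_sup_left hsQ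
    have h1 : Subgroup.inclusion le_sup_left x = π ⟨s, hsW⟩ := Subtype.ext hs.symm
    rw [h1, hψ']
    have h2 : φ' x = φ' ⟨θ s, hsQ⟩ := congrArg φ' (Subtype.ext hs.symm)
    rw [h2]
    have h3 := hind ⟨s, hmemQ s hsQ⟩
    refine Eq.trans ?_ h3.symm
    symm
    refine QuotientGroup.eq.2 ?_
    refine Subgroup.mem_subgroupOf.2 ?_
    simp only [Subgroup.coe_mul, Subgroup.coe_inv]
    rw [hg]
    exact (hhQ _ (hmemQ s hsQ)).2
  · refine Cfsg.Agent.FusionSys.eq_of_le_of_card_le ?_ ?_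
    · intro z hz
      obtain ⟨w, hw, rfl⟩ := hz
      obtain ⟨y, hy, hyw⟩ := (hw : (w : S ⧸ R.subgroupOf S) ∈ Y')
      have hyW : y ∈ W.comap θ := Subgroup.mem_sup_right ⟨y, hy, rfl⟩
      have h1 : w = π ⟨y, hyW⟩ := Subtype.ext hyw.symm
      rw [h1, hψ']
      exact ⟨⟨h * (y : G) * h⁻¹, hconj _ hyW⟩, hhY _ hy, rfl⟩
    · exact ((Subgroup.card_map_of_injective (E.injective_of_mem hψ)).trans
        (Nat.card_congr (Subgroup.subgroupOfEquivOfLe le_sup_right).toEquiv)).ge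

end Cfsg.Agent.FusionSys
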