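import Mathlib
import Cfsg.Agent.Cores.Basic

/-!
Elementary dichotomy for a group acting on an elementary abelian group of order at most `p ^ 2`:
a `p`-element acting nontrivially lies in a normal `p`-subgroup, or some element acts as the
inversion (`p` odd), respectively as a map of order three (`p = 2`).
-/
set_option autoImplicit false

open Cfsg

namespace Cfsg.Agent.FusionSys

variable {V : Type*} [Group V] [Finite V] {K : Type*} [Group K] {p : ℕ} [Fact p.Prime]

private theorem pow_apply_eq {h : V ≃* V} {v d : V} (hd : h d = d) (hv : h v = v * d) (n : ℕ) :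
    (h ^ n) v = v * d ^ n := by
  induction n with
  | zero => simp
  | succ n ih =>
    rw [pow_succ', MulAut.mul_apply, ih, map_mul, map_pow, hd, hv, mul_assoc, ← pow_succ']

/-- The data of two transvections with different fixed lines. -/
theorem exists_transvection_pair (hexp : ∀ v : V, v ^ p = 1) (hcomm : ∀ a b : V, a * b = b * a)
    (hcard : Nat.card V ≤ p ^ 2) (ρ : K →* MulAut V) (hker : IsPGroup p ρ.ker) (T : K)
    (hTp : ∃ k : ℕ, T ^ p ^ k = 1) (hT : ρ T ≠ 1)
    (hno : ∀ M : Subgroup K, M.Normal → IsPGroup p M → T ∉ M) :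
    ∃ (e f : V) (g : K) (b : ℕ), Subgroup.closure {e, f} = ⊤ ∧ ρ T e = e ∧ ρ T f = f * e ∧
      ρ (g * T * g⁻¹) f = f ∧ ρ (g * T * g⁻¹) e = e * f ^ b ∧ ¬ p ∣ b := by
  have hp : p.Prime := Fact.out
  have hV : IsPGroup p V := fun v => ⟨1, by rw [pow_one]; exact hexp v⟩
  set β := ρ T with hβ
  let F : Subgroup V :=
    { carrier := {v | β v = v}
      one_mem' := map_one β
      mul_mem' := fun {u v} (hu : β u = u) (hv : β v = v) => by
        show β (u * v) = u * v
        rw [map_mul, hu, hv]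
      inv_mem' := fun {u} (hu : β u = u) => by
        show β u⁻¹ = u⁻¹
        rw [map_inv, hu] }
  obtain ⟨k, hk⟩ := hTp
  have hβk : β ^ p ^ k = 1 := by rw [hβ, ← map_pow, hk, map_one]
  have hG : IsPGroup p (Subgroup.zpowers β) := by
    intro x
    obtain ⟨i, hi⟩ := Subgroup.mem_zpowers_iff.1 x.2
    refine ⟨k, Subtype.ext ?_⟩
    rw [Subgroup.coe_pow, Subgroup.coe_one, ← hi, ← zpow_natCast (β ^ i), ← zpow_mul, mul_comm,
      zpow_mul, zpow_natCast, hβk, one_zpow]
  have hmod := hG.card_modEq_card_fixedPoints V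
  have hfix : MulAction.fixedPoints (Subgroup.zpowers β) V = (F : Set V) := by
    ext y
    refine ⟨fun h => h ⟨β, Subgroup.mem_zpowers β⟩, fun h g => ?_⟩
    have hs : Subgroup.zpowers β ≤ MulAction.stabilizer (MulAut V) y := Subgroup.zpowers_le.2 h
    exact hs g.2
  rw [hfix, SetLike.coe_sort_coe] at hmod
  have hFne : F ≠ ⊤ := fun h => hT (MulEquiv.ext fun v => (h.ge (Subgroup.mem_top v) : v ∈ F))
  obtain ⟨d, hd⟩ := hV.exists_card_eq
  obtain ⟨c, hcd, hc⟩ := (Nat.dvd_prime_pow hp).1 (hd ▸ F.card_subgroup_dvd_card)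
  have hd2 : d ≤ 2 := (Nat.pow_le_pow_iff_right hp.one_lt).1 (hd ▸ hcard)
  have hlt : c < d := lt_of_le_of_ne hcd fun h => hFne (F.eq_top_of_card_eq (by rw [hc, hd, h]))
  have hc1 : c = 1 := by
    by_contra h
    have h0 : c = 0 := by omega
    rw [hd, hc, h0, pow_zero] at hmod
    have h1 : p ∣ 1 := (hmod.dvd_iff dvd_rfl).1 (dvd_pow_self p (by omega))
    exact hp.ne_one (Nat.dvd_one.1 h1)
  rw [hc1, pow_one] at hc
  have hd22 : d = 2 := by omega
  rw [hd22] at hd
  have hclos : ∀ e w : V, e ∈ F → e ≠ 1 → w ∉ F → Subgroup.closure {e, w} = ⊤ := by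
    intro e w he he1 hw
    refine Subgroup.eq_top_of_card_eq _ ?_
    obtain ⟨i, hi2, hi⟩ := (Nat.dvd_prime_pow hp).1
      (hd ▸ (Subgroup.closure {e, w}).card_subgroup_dvd_card)
    have hz : Subgroup.zpowers e = F := by
      refine Subgroup.eq_of_le_of_card_ge (Subgroup.zpowers_le.2 he) ?_
      rw [hc, Nat.card_zpowers, orderOf_eq_prime (hexp e) he1]
    have hFle : F ≤ Subgroup.closure {e, w} :=
      hz ▸ Subgroup.zpowers_le.2 (Subgroup.subset_closure (by simp))
    have hFlt : F < Subgroup.closure {e, w} := lt_of_le_of_ne hFle fun h =>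
      hw (h ▸ Subgroup.subset_closure (by simp))
    have hgt : Nat.card F < Nat.card (Subgroup.closure {e, w}) := by
      by_contra hh
      exact hFlt.ne (Subgroup.eq_of_le_of_card_ge hFle (not_lt.1 hh))
    rw [hi, hd]
    rw [hc, hi] at hgt
    have : 1 < i := (Nat.pow_lt_pow_iff_right hp.one_lt).1 ((pow_one p).symm ▸ hgt)
    rw [show i = 2 by omega]
  obtain ⟨e₀, he₀F, he₀⟩ : ∃ e₀ ∈ F, e₀ ≠ 1 := by
    refine F.ne_bot_iff_exists_ne_one.1 ?_ |>.elim fun a ha => ⟨a, a.2, fun h => ha (Subtype.ext h)⟩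
    intro h
    rw [h, Subgroup.card_bot] at hc
    exact hp.ne_one hc.symm
  -- `β` acts trivially on `V / F`
  have hVF : ∀ v : V, v⁻¹ * β v ∈ F := by
    intro v
    by_cases hv : v ∈ F
    · rw [show β v = v from hv, inv_mul_cancel]
      exact one_mem F
    have hmem : ∀ w : V, ∃ j : ℕ, (v ^ j)⁻¹ * w ∈ F := by
      intro w
      have hw : w ∈ Subgroup.closure {e₀, v} := (hclos e₀ v he₀F he₀ hv).ge (Subgroup.mem_top w)
      have hle : Subgroup.closure {e₀, v} ≤
          { carrier := {w | ∃ j : ℕ, (v ^ j)⁻¹ * w ∈ F}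
            one_mem' := ⟨0, by simp⟩
            mul_mem' := fun {a b} ⟨i, hi⟩ ⟨j, hj⟩ => ⟨i + j, by
              have h := F.mul_mem hi hj
              letI : CommGroup V := { ‹Group V› with mul_comm := hcomm }
              rwa [mul_mul_mul_comm, ← mul_inv, ← pow_add] at h⟩
            inv_mem' := fun {a} ⟨i, hi⟩ => ⟨i * (p - 1), by
              have h := F.inv_mem hi
              have h1 : v ^ (i * (p - 1)) = (v ^ i)⁻¹ := by
                rw [pow_mul, eq_inv_iff_mul_eq_one, ← pow_succ, Nat.sub_add_cancel hp.one_le, hexp]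
              rw [h1, inv_inv, hcomm (v ^ i) a⁻¹]
              rwa [mul_inv_rev, inv_inv] at h⟩ : Subgroup V } := by
        refine (Subgroup.closure_le _).2 ?_
        rintro x (rfl | rfl)
        · exact ⟨0, by simpa using he₀F⟩
        · exact ⟨1, by simp⟩
      exact hle hw
    obtain ⟨j, hj⟩ := hmem (β v)
    have hit : ∀ n : ℕ, (v ^ j ^ n)⁻¹ * (β ^ n) v ∈ F := by
      intro n
      induction n with
      | zero => simp
      | succ n ih =>
        set w := (v ^ j ^ n)⁻¹ * (β ^ n) v with hw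
        have h1 : (β ^ (n + 1)) v = (β v) ^ j ^ n * w := by
          rw [pow_succ', MulAut.mul_apply, show (β ^ n) v = v ^ j ^ n * w by rw [hw]; group,
            map_mul, map_pow, show β w = w from ih]
        have h2 : (β v) ^ j ^ n = v ^ j ^ (n + 1) * ((v ^ j)⁻¹ * β v) ^ j ^ n := by
          rw [pow_succ', pow_mul, ← Commute.mul_pow (hcomm _ _),
            mul_inv_cancel_left]
        rw [h1, h2, mul_assoc, inv_mul_cancel_left]
        exact mul_mem (pow_mem hj _) ih
    have h3 := hit (p ^ k)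
    rw [hβk, MulAut.one_apply] at h3
    have hord : ∀ n : ℕ, v ^ n ∈ F → p ∣ n := by
      intro n hn
      by_contra hnd
      refine hv ?_
      obtain ⟨m, -, hm⟩ := Nat.exists_mul_mod_eq_one_of_coprime
        ((hp.coprime_iff_not_dvd.2 hnd).symm) hp.one_lt
      have h : (v ^ n) ^ m = v := by
        rw [← pow_mul, ← Nat.div_add_mod (n * m) p, hm, pow_add, pow_mul, hexp, one_pow, one_mul,
          pow_one]
      exact h ▸ pow_mem hn m
    set N := j ^ p ^ k with hN
    have h4 : p ∣ N + (p - 1) := by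
      refine hord _ ?_
      have hinv : v ^ (p - 1) = v⁻¹ := by
        rw [eq_inv_iff_mul_eq_one, ← pow_succ, Nat.sub_add_cancel hp.one_le, hexp]
      rw [pow_add, hinv, hcomm]
      simpa [mul_inv_rev] using F.inv_mem h3
    have hj1 : (j : ZMod p) = 1 := by
      have h5 := (ZMod.natCast_eq_zero_iff _ _).2 h4
      rw [Nat.cast_add, hN, Nat.cast_pow, ZMod.pow_card_pow, Nat.cast_sub hp.one_le,
        ZMod.natCast_self, Nat.cast_one, zero_sub, add_neg_eq_zero] at h5
      exact h5
    have hvj : v ^ j = v := by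
      have h6 : j % p = 1 := by
        have := congrArg ZMod.val hj1
        rwa [ZMod.val_natCast, ZMod.val_one] at this
      rw [← Nat.div_add_mod j p, h6, pow_add, pow_mul, hexp, one_pow, one_mul, pow_one]
    rwa [hvj] at hj
  by_cases hinv : ∀ g : K, ρ g e₀ ∈ F
  · exfalso
    have hze : Subgroup.zpowers e₀ = F := by
      refine Subgroup.eq_of_le_of_card_ge (Subgroup.zpowers_le.2 he₀F) ?_
      rw [hc, Nat.card_zpowers, orderOf_eq_prime (hexp e₀) he₀]
    have hinvF : ∀ (g : K), ∀ u ∈ F, ρ g u ∈ F := by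
      intro g u hu
      rw [← hze] at hu
      obtain ⟨i, rfl⟩ := Subgroup.mem_zpowers_iff.1 hu
      rw [map_zpow]
      exact zpow_mem (hinv g) i
    let M : Subgroup K :=
      { carrier := {m | (∀ u ∈ F, ρ m u = u) ∧ ∀ v, v⁻¹ * ρ m v ∈ F}
        one_mem' := by simp
        mul_mem' := fun {a b} ⟨ha, ha'⟩ ⟨hb, hb'⟩ => ⟨fun u hu => by
            rw [map_mul, MulAut.mul_apply, hb u hu, ha u hu], fun v => by
            have h := mul_mem (hb' v) (ha' (ρ b v))
            simpa [mul_assoc] using h⟩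
        inv_mem' := fun {a} ⟨ha, ha'⟩ => by
          have hsymm : ∀ v, ρ a⁻¹ (ρ a v) = v := fun v => by
            rw [← MulAut.mul_apply, ← map_mul, inv_mul_cancel, map_one, MulAut.one_apply]
          refine ⟨fun u hu => ?_, fun v => ?_⟩
          · conv_lhs => rw [← ha u hu]
            exact hsymm u
          · have h := inv_mem (ha' (ρ a⁻¹ v))
            have h' : ρ a (ρ a⁻¹ v) = v := by
              rw [← MulAut.mul_apply, ← map_mul, mul_inv_cancel, map_one, MulAut.one_apply]
            rwa [h', mul_inv_rev, inv_inv] at h }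
    have hMn : M.Normal := by
      refine ⟨fun m hm g => ⟨fun u hu => ?_, fun v => ?_⟩⟩
      · have h1 : ρ g⁻¹ u ∈ F := hinvF g⁻¹ u hu
        rw [map_mul, map_mul, MulAut.mul_apply, MulAut.mul_apply, hm.1 _ h1, ← MulAut.mul_apply,
          ← map_mul, mul_inv_cancel, map_one, MulAut.one_apply]
      · have h1 := hinvF g _ (hm.2 (ρ g⁻¹ v))
        have h' : ρ g (ρ g⁻¹ v) = v := by
          rw [← MulAut.mul_apply, ← map_mul, mul_inv_cancel, map_one, MulAut.one_apply]
        rw [map_mul, map_inv, h'] at h1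
        simpa [map_mul, MulAut.mul_apply] using h1
    have hMp : IsPGroup p M := by
      intro m
      have h1 : (m : K) ^ p ∈ ρ.ker := by
        rw [MonoidHom.mem_ker, map_pow]
        ext v
        have h := pow_apply_eq (h := ρ m) (v := v) (d := v⁻¹ * ρ m v) (m.2.1 _ (m.2.2 v))
          (by rw [mul_inv_cancel_left]) p
        rw [h, hexp, mul_one, MulAut.one_apply]
      obtain ⟨i, hi⟩ := hker ⟨_, h1⟩
      refine ⟨i + 1, Subtype.ext ?_⟩
      rw [Subgroup.coe_pow, pow_succ', pow_mul]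
      exact congrArg Subtype.val hi
    exact hno M hMn hMp ⟨fun u hu => hu, hVF⟩
  · push Not at hinv
    obtain ⟨g, hg⟩ := hinv
    set f := ρ g e₀ with hf
    set e := f⁻¹ * β f with he
    have heF : e ∈ F := hVF f
    have he1 : e ≠ 1 := fun h => hg (inv_mul_eq_one.1 h).symm
    have hgen := hclos e f heF he1 hg
    have hconj : ∀ u, ρ (g * T * g⁻¹) (ρ g u) = ρ g (β u) := fun u => by
      rw [← MulAut.mul_apply, ← map_mul, inv_mul_cancel_right, map_mul]
      rfl
    have hTf : ρ (g * T * g⁻¹) f = f := by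
      rw [hf, hconj, show β e₀ = e₀ from he₀F]
    have hze : Subgroup.zpowers e₀ = F := by
      refine Subgroup.eq_of_le_of_card_ge (Subgroup.zpowers_le.2 he₀F) ?_
      rw [hc, Nat.card_zpowers, orderOf_eq_prime (hexp e₀) he₀]
    have hdiff : e⁻¹ * ρ (g * T * g⁻¹) e ∈ Subgroup.zpowers f := by
      have h1 := hVF (ρ g⁻¹ e)
      rw [← hze] at h1
      obtain ⟨i, hi⟩ := Subgroup.mem_zpowers_iff.1 h1
      refine Subgroup.mem_zpowers_iff.2 ⟨i, ?_⟩
      have h' : ρ g (ρ g⁻¹ e) = e := by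
        rw [← MulAut.mul_apply, ← map_mul, mul_inv_cancel, map_one, MulAut.one_apply]
      rw [hf, ← map_zpow, hi, map_mul, map_inv, h', ← hconj, h']
    obtain ⟨i, hi⟩ := Subgroup.mem_zpowers_iff.1 hdiff
    refine ⟨e, f, g, (i % p).toNat, hgen, heF, by rw [he, mul_inv_cancel_left], hTf, ?_, ?_⟩
    all_goals
      have hfi : f ^ (i % p).toNat = e⁻¹ * ρ (g * T * g⁻¹) e := by
        rw [← hi, ← zpow_natCast, Int.toNat_of_nonneg
          (Int.emod_nonneg _ (Int.natCast_ne_zero.2 hp.ne_zero))]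
        conv_rhs => rw [← Int.emod_add_mul_ediv i p, zpow_add, zpow_mul, zpow_natCast, hexp,
          one_zpow, mul_one]
    · rw [hfi, mul_inv_cancel_left]
    · intro hdvd
      have hfix' : ρ (g * T * g⁻¹) e = e := by
        obtain ⟨c', hc'⟩ := hdvd
        rw [hc', pow_mul, hexp, one_pow] at hfi
        exact (inv_mul_eq_one.1 hfi.symm).symm
      have hone : ρ (g * T * g⁻¹) = 1 := by
        ext v
        have hle : Subgroup.closure {e, f} ≤
            MonoidHom.eqLocus (ρ (g * T * g⁻¹)).toMonoidHom (MonoidHom.id V) := by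
          refine (Subgroup.closure_le _).2 ?_
          rintro x (rfl | rfl)
          · exact hfix'
          · exact hTf
        exact hle (hgen.ge (Subgroup.mem_top v))
      apply hT
      rw [map_mul, map_mul, map_inv, conj_eq_one_iff] at hone
      exact hone

/-- For odd `p`, some element acts as the inversion. -/
theorem exists_inversion (hp : p ≠ 2) (hexp : ∀ v : V, v ^ p = 1)
    (hcomm : ∀ a b : V, a * b = b * a) (hcard : Nat.card V ≤ p ^ 2) (ρ : K →* MulAut V)
    (hker : IsPGroup p ρ.ker) (T : K) (hTp : ∃ k : ℕ, T ^ p ^ k = 1) (hT : ρ T ≠ 1)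
    (hno : ∀ M : Subgroup K, M.Normal → IsPGroup p M → T ∉ M) :
    ∃ σ : K, ∀ v : V, ρ σ v = v⁻¹ := by
  obtain ⟨e, f, g, b, hgen, hTe, hTf, hgf, hge, hb⟩ :=
    exists_transvection_pair hexp hcomm hcard ρ hker T hTp hT hno
  set k := ((-1 : ZMod p) * (b : ZMod p)⁻¹).val
  have hk : p ∣ b * k + 1 := by
    rw [← ZMod.natCast_eq_zero_iff]
    have hb0 : (b : ZMod p) ≠ 0 := fun h => hb ((ZMod.natCast_eq_zero_iff _ _).1 h)
    rw [Nat.cast_add, Nat.cast_mul, ZMod.natCast_zmod_val, Nat.cast_one]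
    field_simp
    ring
  have hfbk : f ^ (b * k) = f⁻¹ := by
    obtain ⟨c, hc⟩ := hk
    rw [eq_inv_iff_mul_eq_one, ← pow_succ, hc, pow_mul, hexp, one_pow]
  set t' := (g * T * g⁻¹) ^ k
  have hte : ρ t' e = e * f⁻¹ := by
    rw [map_pow, pow_apply_eq (d := f ^ b) (by rw [map_pow, hgf]) hge, ← pow_mul, hfbk]
  have htf : ρ t' f = f := by
    rw [map_pow, pow_apply_eq (d := (1 : V)) (map_one _) (by rw [mul_one]; exact hgf), one_pow,
      mul_one]
  set w := T * t' * T
  have hwe : ρ w e = f⁻¹ := by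
    rw [map_mul, map_mul, MulAut.mul_apply, MulAut.mul_apply, hTe, hte, map_mul, map_inv, hTe, hTf,
      mul_inv_rev, ← mul_assoc, mul_inv_cancel, one_mul]
  have hwf : ρ w f = e := by
    rw [map_mul, map_mul, MulAut.mul_apply, MulAut.mul_apply, hTf, map_mul, htf, hte, map_mul,
      map_mul, map_inv, hTe, hTf, hcomm e (f * e)⁻¹, mul_inv_cancel_left]
  refine ⟨w * w, fun v => ?_⟩
  let inv : V →* V :=
    { toFun := fun v => v⁻¹
      map_one' := inv_one
      map_mul' := fun a c => by rw [mul_inv_rev, hcomm] }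
  have hle : Subgroup.closure {e, f} ≤ MonoidHom.eqLocus (ρ (w * w)).toMonoidHom inv := by
    refine (Subgroup.closure_le _).2 ?_
    rintro x (rfl | rfl)
    · show ρ (w * w) x = x⁻¹
      rw [map_mul, MulAut.mul_apply, hwe, map_inv, hwf]
    · show ρ (w * w) x = x⁻¹
      rw [map_mul, MulAut.mul_apply, hwf, hwe]
  exact hle (hgen.ge (Subgroup.mem_top v))

/-- For `p = 2`, some element acts with order three, moving everything. -/
theorem exists_order_three {V : Type*} [Group V] [Finite V] {K : Type*} [Group K]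
    (hexp : ∀ v : V, v ^ 2 = 1) (hcard : Nat.card V ≤ 2 ^ 2) (ρ : K →* MulAut V)
    (hker : IsPGroup 2 ρ.ker) (T : K) (hTp : ∃ k : ℕ, T ^ 2 ^ k = 1) (hT : ρ T ≠ 1)
    (hno : ∀ M : Subgroup K, M.Normal → IsPGroup 2 M → T ∉ M) :
    ∃ (e f : V) (σ : K), Subgroup.closure {e, f} = ⊤ ∧ ρ T e = e ∧ ρ T f = f * e ∧
      ρ σ e = e * f ∧ ρ σ f = e := by
  have hself : ∀ v : V, v * v = 1 := fun v => by rw [← pow_two]; exact hexp v
  have hcomm : ∀ a b : V, a * b = b * a := fun a b => by
    have h := inv_eq_of_mul_eq_one_right (hself (a * b))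
    rw [mul_inv_rev, inv_eq_of_mul_eq_one_right (hself a), inv_eq_of_mul_eq_one_right (hself b)] at h
    exact h.symm
  obtain ⟨e, f, g, b, hgen, hTe, hTf, hgf, hge, hb⟩ :=
    exists_transvection_pair hexp hcomm hcard ρ hker T hTp hT hno
  have hfb : f ^ b = f := by
    rw [← Nat.div_add_mod b 2, show b % 2 = 1 by omega, pow_add, pow_mul, hexp, one_pow, one_mul,
      pow_one]
  rw [hfb] at hge
  refine ⟨e, f, g * T * g⁻¹ * T, hgen, hTe, hTf, ?_, ?_⟩
  · rw [map_mul, MulAut.mul_apply, hTe, hge]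
  · rw [map_mul, MulAut.mul_apply, hTf, map_mul, hgf, hge, hcomm e f, ← mul_assoc, hself, one_mul]

end Cfsg.Agent.FusionSys
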