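import Cfsg.Agent.FusionSys.EssentialFlag
import Cfsg.Agent.FusionSys.TransvectionPair
import Cfsg.Agent.PGroup.ClassTwo
import Cfsg.Agent.Stability.SL2Basic
import Cfsg.Agent.CharTwo.QuaternionQuotient
import Cfsg.Prelude.Def_Transfer

/-!
Essential subgroups with a Frattini quotient of order `p²`: abelian ones, and those of order `p³`.
-/

set_option autoImplicit false

open Cfsg Cfsg.FusionSystem Cfsg.Agent.FusionSys

namespace Cfsg.Agent.FusionSys

section Group

variable {H : Type*} [Group H]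

/-- The power map of a commutative group. -/
def commPowHom (hc : ∀ a b : H, a * b = b * a) (n : ℕ) : H →* H where
  toFun x := x ^ n
  map_one' := one_pow n
  map_mul' a b := (show Commute a b from hc a b).mul_pow n

lemma frattini_eq_range_pow [Finite H] {p : ℕ} [Fact p.Prime] (hH : IsPGroup p H)
    (hc : ∀ a b : H, a * b = b * a) : frattini H = (commPowHom hc p).range := by
  refine le_antisymm ((PGroup.frattini_le_iff hH).2 ⟨?_, fun x => ⟨x, rfl⟩⟩) ?_
  · rw [_root_.commutator_def, Subgroup.commutator_le]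
    intro a _ b _
    rw [commutatorElement_eq_one_iff_mul_comm.2 (hc a b)]
    exact one_mem _
  · rintro _ ⟨x, rfl⟩
    exact PGroup.pow_mem_frattini hH x

/-- An abelian `p`-group with Frattini quotient of order `p²` in which every element outside the
Frattini subgroup has order `p^a` is homocyclic of rank two. -/
theorem equiv_of_order_max [Finite H] {p : ℕ} [Fact p.Prime] (hH : IsPGroup p H)
    (hc : ∀ a b : H, a * b = b * a) (hidx : (frattini H).index = p ^ 2) {a : ℕ} (ha0 : a ≠ 0)
    (hexp : ∀ x : H, x ^ p ^ a = 1) (hmax : ∀ x : H, x ∉ frattini H → x ^ p ^ (a - 1) ≠ 1) :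
    Nonempty (H ≃* Multiplicative (ZMod (p ^ a) × ZMod (p ^ a))) := by
  have hp : p.Prime := Fact.out
  haveI : NeZero (p ^ a) := ⟨pow_ne_zero _ hp.pos.ne'⟩
  have hne : frattini H ≠ ⊤ := fun h => by
    rw [h, Subgroup.index_top] at hidx
    exact (Nat.one_lt_pow two_ne_zero hp.one_lt).ne hidx
  obtain ⟨x, -, hx⟩ := SetLike.exists_of_lt (lt_top_iff_ne_top.2 hne)
  have hΦc : ∀ N : Subgroup H, N.Normal := fun N => ⟨fun n hn g => by
    rwa [hc g n, mul_assoc, mul_inv_cancel, mul_one]⟩
  haveI := hΦc (frattini H)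
  set X := frattini H ⊔ Subgroup.zpowers x
  have hXtop : X ≠ ⊤ := by
    intro h
    have h1 := PGroup.card_sup_zpowers_le (N := frattini H) hp.pos (PGroup.pow_mem_frattini hH x)
    rw [show frattini H ⊔ Subgroup.zpowers x = ⊤ from h, Subgroup.card_top,
      ← (frattini H).card_mul_index, hidx] at h1
    have h2 := Nat.le_of_mul_le_mul_left h1 Nat.card_pos
    have := hp.two_le
    nlinarith
  obtain ⟨y, -, hy⟩ := SetLike.exists_of_lt (lt_top_iff_ne_top.2 hXtop)
  let f : Multiplicative (ZMod (p ^ a) × ZMod (p ^ a)) →* H :=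
    MonoidHom.mk' (fun z => x ^ z.toAdd.1.val * y ^ z.toAdd.2.val) fun z w => by
      have e : ∀ (u : H) (i j : ZMod (p ^ a)), u ^ (i + j).val = u ^ i.val * u ^ j.val := by
        intro u i j
        rw [← pow_add, ZMod.val_add, ← pow_mod_natCard]
        conv_rhs => rw [← Nat.mod_add_div (i.val + j.val) (p ^ a), pow_add, pow_mul, hexp,
          one_pow, mul_one]
        rw [pow_mod_natCard]
      simp only [toAdd_mul, Prod.fst_add, Prod.snd_add, e]
      rw [mul_assoc, ← mul_assoc (x ^ w.toAdd.1.val), hc (x ^ w.toAdd.1.val), mul_assoc,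
        ← mul_assoc]
  have key : ∀ i j : ℕ, x ^ i * y ^ j = 1 → p ^ a ∣ i ∧ p ^ a ∣ j := by
    intro i j hij
    have hind : ∀ u v : ℕ, x ^ u * y ^ v ∈ frattini H → p ∣ u ∧ p ∣ v := by
      intro u v huv
      have hv : p ∣ v := by
        by_contra hv
        refine hy ?_
        obtain ⟨m, -, hm⟩ := Nat.exists_mul_mod_eq_one_of_coprime
          ((hp.coprime_iff_not_dvd.2 hv).symm) hp.one_lt
        have h1 : y ^ v ∈ X := by
          have := mul_mem (inv_mem (Subgroup.mem_sup_right (S := frattini H)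
            (pow_mem (Subgroup.mem_zpowers x) u))) (Subgroup.mem_sup_left (T := Subgroup.zpowers x) huv)
          simpa using this
        have h2 : (y ^ v) ^ m = (y ^ p) ^ (v * m / p) * y := by
          rw [← pow_mul, ← pow_mul, ← pow_succ]
          congr 1
          have := Nat.div_add_mod (v * m) p
          omega
        have h3 : y = ((y ^ p) ^ (v * m / p))⁻¹ * (y ^ v) ^ m := by rw [h2, inv_mul_cancel_left]
        rw [h3]
        exact mul_mem (inv_mem (pow_mem (Subgroup.mem_sup_left (PGroup.pow_mem_frattini hH y)) _))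
          (pow_mem h1 m)
      obtain ⟨v', rfl⟩ := hv
      refine ⟨?_, dvd_mul_right p v'⟩
      by_contra hu
      refine hx ?_
      obtain ⟨m, -, hm⟩ := Nat.exists_mul_mod_eq_one_of_coprime
        ((hp.coprime_iff_not_dvd.2 hu).symm) hp.one_lt
      have hyp : y ^ (p * v') ∈ frattini H := by
        rw [pow_mul]; exact pow_mem (PGroup.pow_mem_frattini hH y) v'
      have h1 : x ^ u ∈ frattini H := by
        simpa using mul_mem huv (inv_mem hyp)
      have h2 : (x ^ u) ^ m = (x ^ p) ^ (u * m / p) * x := by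
        rw [← pow_mul, ← pow_mul, ← pow_succ]
        congr 1
        have := Nat.div_add_mod (u * m) p
        omega
      have h3 : x = ((x ^ p) ^ (u * m / p))⁻¹ * (x ^ u) ^ m := by rw [h2, inv_mul_cancel_left]
      rw [h3]
      exact mul_mem (inv_mem (pow_mem (PGroup.pow_mem_frattini hH x) _)) (pow_mem h1 m)
    have step : ∀ t ≤ a, p ^ t ∣ i ∧ p ^ t ∣ j := by
      intro t
      induction t with
      | zero => simp
      | succ t ih =>
        intro ht
        obtain ⟨⟨i', rfl⟩, ⟨j', rfl⟩⟩ := ih (by omega)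
        have h1 : (x ^ i' * y ^ j') ^ p ^ t = 1 := by
          rw [(show Commute (x ^ i') (y ^ j') from hc _ _).mul_pow, ← pow_mul, ← pow_mul,
            mul_comm i', mul_comm j']
          exact hij
        have h2 : x ^ i' * y ^ j' ∈ frattini H := by
          by_contra hw
          refine hmax _ hw ?_
          rw [show a - 1 = t + (a - 1 - t) by omega, pow_add, pow_mul, h1, one_pow]
        obtain ⟨hi, hj⟩ := hind _ _ h2
        rw [pow_succ]
        exact ⟨mul_dvd_mul_left _ hi, mul_dvd_mul_left _ hj⟩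
    exact step a le_rfl
  have hinj : Function.Injective f := (injective_iff_map_eq_one f).2 fun z hz => by
    obtain ⟨h1, h2⟩ := key _ _ hz
    have h1' := Nat.eq_zero_of_dvd_of_lt h1 (ZMod.val_lt _)
    have h2' := Nat.eq_zero_of_dvd_of_lt h2 (ZMod.val_lt _)
    refine Multiplicative.toAdd.injective (Prod.ext ?_ ?_)
    · exact (ZMod.val_eq_zero _).1 h1'
    · exact (ZMod.val_eq_zero _).1 h2'
  have hsurj : Function.Surjective f := by
    rw [← MonoidHom.range_eq_top]
    refine PGroup.eq_top_of_sup_frattini ?_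
    haveI := hΦc (f.range ⊔ frattini H)
    by_contra htop
    have hx' : x ∈ f.range := ⟨Multiplicative.ofAdd (1, 0), by
      show x ^ _ * y ^ _ = x
      haveI : Fact (1 < p ^ a) := ⟨Nat.one_lt_pow ha0 hp.one_lt⟩
      simp [ZMod.val_one]⟩
    have hy' : y ∈ f.range := ⟨Multiplicative.ofAdd (0, 1), by
      show x ^ _ * y ^ _ = y
      haveI : Fact (1 < p ^ a) := ⟨Nat.one_lt_pow ha0 hp.one_lt⟩
      simp [ZMod.val_one]⟩
    have hXlt : X < f.range ⊔ frattini H := by
      refine lt_of_le_of_ne (sup_le le_sup_right (Subgroup.zpowers_le.2 (Subgroup.mem_sup_left hx')))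
        fun h => hy (h.ge (Subgroup.mem_sup_left hy'))
    have hΦX : frattini H < X := lt_of_le_of_ne le_sup_left fun h =>
      hx (h.ge (Subgroup.mem_sup_right (Subgroup.mem_zpowers x)))
    have h3 := Subgroup.index_strictAnti hΦX
    have h4 := Subgroup.index_strictAnti hXlt
    obtain ⟨e1, he1⟩ := hH.index X
    obtain ⟨e2, he2⟩ := hH.index (f.range ⊔ frattini H)
    rw [hidx, he1] at h3
    rw [he1, he2] at h4
    have h5 := (Nat.pow_lt_pow_iff_right hp.one_lt).1 h3
    have h6 := (Nat.pow_lt_pow_iff_right hp.one_lt).1 h4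
    refine htop (Subgroup.index_eq_one.1 ?_)
    rw [he2, show e2 = 0 by omega, pow_zero]
  exact ⟨(MulEquiv.ofBijective f ⟨hinj, hsurj⟩).symm⟩

end Group

variable {Ω : Type*} [Group Ω] {S : Subgroup Ω} [Finite S] {p : ℕ} [Fact p.Prime]

/-- An abelian essential subgroup with Frattini quotient of order at most `p²`. -/
theorem abelian_essential_structure (hS : IsPGroup p S) {F : FusionSystem S} (hF : F.IsSaturated p)
    {H : Subgroup Ω} (hH : F.IsEssential p H) (hc : ∀ a b : H, a * b = b * a)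
    (hΦ : (frattini H).index ≤ p ^ 2) :
    (frattini H).index = p ^ 2 ∧ ∃ a : ℕ, a ≠ 0 ∧ (∀ x : H, x ^ p ^ a = 1) ∧
      ∀ x : H, x ∉ frattini H → x ^ p ^ (a - 1) ≠ 1 := by
  have hp : p.Prime := Fact.out
  haveI : Finite H := finite_of_le ‹_› hH.1.1
  have hHp : IsPGroup p H := hS.to_le hH.1.1
  have hHne : frattini H ≠ ⊤ := by
    intro h
    obtain ⟨g, hg, hgH⟩ := exists_mem_normalizerIn_not_mem hS hF hH
    refine hgH (mem_of_stabilizes_flag hS hH.1 (FusionAlperin.isRadical_of_essential hS hH)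
      (M := ⊤) le_top (fun _ _ _ _ => Subgroup.mem_top _) hg (fun x _ => ?_)
      fun x => Subgroup.mem_top _)
    rw [h]; exact Subgroup.mem_top _
  obtain ⟨e, he⟩ := hHp.index (frattini H)
  have he2 : e ≤ 2 := (Nat.pow_le_pow_iff_right hp.one_lt).1 (he ▸ hΦ)
  have he0 : e ≠ 0 := fun h => hHne (Subgroup.index_eq_one.1 (by rw [he, h, pow_zero]))
  have he1 : e ≠ 1 := fun h => frattini_index_ne_prime hS hF hH (by rw [he, h, pow_one])
  have hidx : (frattini H).index = p ^ 2 := by rw [he, show e = 2 by omega]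
  refine ⟨hidx, ?_⟩
  have hex : ∃ a, ∀ x : H, x ^ p ^ a = 1 := by
    obtain ⟨r, hr⟩ := IsPGroup.iff_card.1 hHp
    exact ⟨r, fun x => hr ▸ pow_card_eq_one'⟩
  classical
  refine ⟨Nat.find hex, ?_, Nat.find_spec hex, ?_⟩
  · intro h
    have := Nat.find_spec hex
    rw [h] at this
    refine hHne ((Subgroup.eq_top_iff' _).2 fun x => ?_)
    have h1 := this x
    rw [pow_zero, pow_one] at h1
    exact h1 ▸ one_mem _
  set a := Nat.find hex with ha
  intro x hx hxa
  set M := (commPowHom hc (p ^ (a - 1))).ker with hM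
  have hmem : ∀ z : H, z ∈ M ↔ z ^ p ^ (a - 1) = 1 := fun z => MonoidHom.mem_ker
  have hΦM : frattini H ≤ M := by
    rw [frattini_eq_range_pow hHp hc]
    rintro _ ⟨z, rfl⟩
    refine (hmem _).2 ?_
    show (z ^ p) ^ p ^ (a - 1) = 1
    rw [← pow_mul, ← pow_succ']
    by_cases h0 : a = 0
    · rw [h0]
      have := Nat.find_spec hex z
      rw [← ha, h0, pow_zero, pow_one] at this
      rw [this, one_pow]
    · rw [show a - 1 + 1 = a by omega]
      exact Nat.find_spec hex z
  have hMne : M ≠ ⊤ := by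
    intro h
    have hlt : a - 1 < a ∨ a = 0 := by omega
    rcases hlt with hlt | hlt
    · exact Nat.find_min hex hlt fun z => (hmem z).1 (h ▸ Subgroup.mem_top z)
    · have := Nat.find_spec hex x
      rw [← ha, hlt, pow_zero, pow_one] at this
      exact hx (this ▸ one_mem _)
  have hlt : frattini H < M := lt_of_le_of_ne hΦM fun h => hx (h ▸ (hmem x).2 hxa)
  have h1 := Subgroup.index_strictAnti hlt
  obtain ⟨i, hi⟩ := hHp.index M
  rw [hidx, hi] at h1
  have h2 := (Nat.pow_lt_pow_iff_right hp.one_lt).1 h1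
  have h3 : i ≠ 0 := fun h => hMne (Subgroup.index_eq_one.1 (by rw [hi, h, pow_zero]))
  refine false_of_flag hS hF hH hΦM (by rw [hi, show i = 1 by omega, pow_one]) hΦ
    fun α _ z hz => (hmem _).2 ?_
  rw [← map_pow, (hmem z).1 hz, map_one]

/-- For `p ≥ 5` an abelian essential subgroup of rank two is elementary. -/
theorem abelian_essential_exponent (hS : IsPGroup p S) {F : FusionSystem S} (hF : F.IsSaturated p)
    {H : Subgroup Ω} (hH : F.IsEssential p H) (hc : ∀ a b : H, a * b = b * a) (hp5 : 5 ≤ p)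
    (hidx : (frattini H).index = p ^ 2) {a : ℕ} (hexp : ∀ x : H, x ^ p ^ a = 1)
    (hmax : ∀ x : H, x ∉ frattini H → x ^ p ^ (a - 1) ≠ 1) : a ≤ 1 := by
  by_contra ha
  have hp : p.Prime := Fact.out
  have hHS := hH.1.1
  haveI : Finite H := finite_of_le ‹_› hHS
  have hHp : IsPGroup p H := hS.to_le hHS
  -- an element inducing an automorphism of order `p`
  obtain ⟨g, hg, hgH, hgp⟩ : ∃ g ∈ normalizerIn S H, g ∉ H ∧ g ^ p ∈ H := by
    obtain ⟨g₀, hg₀, hg₀H⟩ := exists_mem_normalizerIn_not_mem hS hF hH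
    obtain ⟨k, hk⟩ := hS ⟨g₀, hg₀.1⟩
    have hk' : g₀ ^ p ^ k = 1 := congrArg Subtype.val hk
    classical
    have hex : ∃ i, g₀ ^ p ^ i ∈ H := ⟨k, hk' ▸ one_mem H⟩
    have h0 : Nat.find hex ≠ 0 := fun h => hg₀H (by
      have := Nat.find_spec hex; rwa [h, pow_zero, pow_one] at this)
    refine ⟨g₀ ^ p ^ (Nat.find hex - 1), pow_mem hg₀ _, Nat.find_min hex (by omega), ?_⟩
    rw [← pow_mul, ← pow_succ, show Nat.find hex - 1 + 1 = Nat.find hex by omega]
    exact Nat.find_spec hex
  set β : MulAut H := H.normalizerMonoidHom ⟨g, hg.2⟩ with hβ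
  have hβp : β ^ p = 1 := by
    refine MulEquiv.ext fun x => Subtype.ext ?_
    rw [hβ, ← map_pow]
    show g ^ p * (x : Ω) * (g ^ p)⁻¹ = x
    have hcomm : g ^ p * (x : Ω) = (x : Ω) * g ^ p := congrArg Subtype.val (hc ⟨g ^ p, hgp⟩ x)
    rw [hcomm]
    simp [mul_assoc]
  letI : CommGroup H := { (inferInstance : Group H) with mul_comm := hc }
  let e : AddMonoid.End (Additive H) := MonoidHom.toAdditive β.toMonoidHom
  have he : ∀ z : H, e (Additive.ofMul z) = Additive.ofMul (β z) := fun z => rfl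
  have hep : e ^ p = 1 := by
    refine AddMonoidHom.ext fun z => ?_
    have key : ∀ n, (e ^ n) z = Additive.ofMul ((β ^ n) z.toMul) := by
      intro n
      induction n with
      | zero => rfl
      | succ n ih =>
        rw [pow_succ', AddMonoid.End.coe_mul, Function.comp_apply, ih, he, pow_succ']
        rfl
    exact (key p).trans (by rw [hβp]; rfl)
  set δ := e - 1 with hδ
  have hδz : ∀ z : H, δ (Additive.ofMul z) = Additive.ofMul (z⁻¹ * β z) := by
    intro z
    show e (Additive.ofMul z) - Additive.ofMul z = _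
    rw [he, mul_comm z⁻¹, sub_eq_add_neg]
    rfl
  -- the Frattini subgroup is `p H`
  have hΦ : ∀ z : H, z ∈ frattini H ↔ ∃ w : Additive H, p • w = Additive.ofMul z := by
    intro z
    rw [frattini_eq_range_pow hHp hc]
    exact ⟨fun ⟨w, hw⟩ => ⟨Additive.ofMul w, congrArg Additive.ofMul hw⟩,
      fun ⟨w, hw⟩ => ⟨w.toMul, congrArg Additive.toMul hw⟩⟩
  haveI hΦn : (frattini H).Normal := inferInstance
  -- `δ ∘ δ` maps into `p H`
  have hβΦ : ∀ z ∈ frattini H, β z ∈ frattini H := fun z hz =>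
    (Subgroup.characteristic_iff_le_comap.1 inferInstance β) hz
  obtain ⟨y, hy⟩ : ∃ y : H, y⁻¹ * β y ∉ frattini H := by
    by_contra! hall
    exact hgH (mem_of_stabilizes_flag hS hH.1 (FusionAlperin.isRadical_of_essential hS hH)
      (M := ⊤) le_top (fun _ _ _ _ => Subgroup.mem_top _) hg (fun x _ => hall x)
      fun x => Subgroup.mem_top _)
  let D : H →* H :=
    { toFun := fun z => z⁻¹ * β z
      map_one' := by simp
      map_mul' := fun u v => by rw [map_mul, mul_inv, mul_mul_mul_comm] }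
  have hD2 : ∀ z, D (D z) ∈ frattini H := by
    -- the image of `D` modulo the Frattini subgroup
    set M := frattini H ⊔ D.range with hM
    have hMinv : ∀ z ∈ M, β z ∈ M := by
      intro z hz
      have h1 : z⁻¹ * β z ∈ M := Subgroup.mem_sup_right ⟨z, rfl⟩
      simpa using mul_mem hz h1
    haveI : M.Normal := inferInstance
    have hyM : frattini H < M := lt_of_le_of_ne le_sup_left fun h =>
      hy (h.ge (Subgroup.mem_sup_right ⟨y, rfl⟩))
    have hMne : M ≠ ⊤ := by
      intro h
      have h1 : D.range = ⊤ := PGroup.eq_top_of_sup_frattini (by rw [sup_comm, ← hM, h])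
      have h2 : Function.Injective D :=
        Finite.injective_iff_surjective.2 (MonoidHom.range_eq_top.1 h1)
      haveI : Nontrivial H := ⟨⟨y⁻¹ * β y, 1, fun hh => hy (hh ▸ one_mem _)⟩⟩
      have hmod := (show IsPGroup p (Subgroup.zpowers β) from fun b => ⟨1, Subtype.ext (by
        obtain ⟨i, hi⟩ := Subgroup.mem_zpowers_iff.1 b.2
        rw [pow_one, Subgroup.coe_pow, Subgroup.coe_one, ← hi, ← zpow_natCast (β ^ i), ← zpow_mul,
          mul_comm, zpow_mul, zpow_natCast, hβp, one_zpow])⟩).card_modEq_card_fixedPoints H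
      obtain ⟨r, hr⟩ := IsPGroup.iff_card.1 hHp
      have hr0 : r ≠ 0 := fun h => by
        have := Finite.one_lt_card (α := H); rw [hr, h, pow_zero] at this; exact lt_irrefl _ this
      haveI : Subsingleton (MulAction.fixedPoints (Subgroup.zpowers β) H) := by
        refine ⟨fun u v => Subtype.ext ?_⟩
        have hfix : ∀ u : MulAction.fixedPoints (Subgroup.zpowers β) H, (u : H) = 1 := fun u =>
          h2 (by
            show (u : H)⁻¹ * β u = _
            rw [show β u = u from u.2 ⟨β, Subgroup.mem_zpowers β⟩, inv_mul_cancel, map_one])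
        rw [hfix u, hfix v]
      have hc1 : Nat.card (MulAction.fixedPoints (Subgroup.zpowers β) H) = 1 := by
        haveI : Nonempty (MulAction.fixedPoints (Subgroup.zpowers β) H) :=
          ⟨⟨1, fun b => map_one (b : MulAut H)⟩⟩
        exact Nat.card_unique
      rw [hr, hc1] at hmod
      exact hp.ne_one (Nat.dvd_one.1 ((hmod.dvd_iff dvd_rfl).1 (dvd_pow_self p hr0)))
    obtain ⟨i, hi⟩ := hHp.index M
    have hi1 := Subgroup.index_strictAnti hyM
    rw [hidx, hi] at hi1
    have hi2 := (Nat.pow_lt_pow_iff_right hp.one_lt).1 hi1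
    have hi3 : i ≠ 0 := fun h => hMne (Subgroup.index_eq_one.1 (by rw [hi, h, pow_zero]))
    have hrel : (frattini H).relIndex M = p := by
      have h3 := Subgroup.relIndex_mul_index (le_sup_left : frattini H ≤ M)
      rw [hi, hidx, show i = 1 by omega, pow_one, sq] at h3
      exact Nat.eq_of_mul_eq_mul_right hp.pos h3
    intro z
    exact layer_trivial hS hHS (le_sup_left : frattini H ≤ M) hrel hg hβΦ hMinv (D z)
      (Subgroup.mem_sup_right ⟨z, rfl⟩)
  have hδ2 : ∀ z : Additive H, ∃ w : Additive H, p • w = (δ ^ 2) z := by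
    intro z
    obtain ⟨w, hw⟩ := (hΦ _).1 (hD2 z.toMul)
    refine ⟨w, hw.trans ?_⟩
    rw [sq, AddMonoid.End.coe_mul, Function.comp_apply, ← ofMul_toMul z, hδz, hδz]
    rfl
  have hδk : ∀ k, 2 ≤ k → ∀ z : Additive H, ∃ w : Additive H, p • w = (δ ^ k) z := by
    intro k hk z
    obtain ⟨j, rfl⟩ : ∃ j, k = j + 2 := ⟨k - 2, by omega⟩
    obtain ⟨w, hw⟩ := hδ2 z
    exact ⟨(δ ^ j) w, by rw [pow_add, AddMonoid.End.coe_mul, Function.comp_apply, ← hw, map_nsmul]⟩
  have hexpand : e ^ p = ∑ k ∈ Finset.range (p + 1), δ ^ k * (p.choose k) := by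
    rw [show e = δ + 1 by rw [hδ, sub_add_cancel], (Commute.one_right δ).add_pow]
    simp
  have hmain : ∀ z : Additive H, ∃ w : Additive H, (p * p) • w = p • δ z := by
    intro z
    have h0 := DFunLike.congr_fun (hexpand.symm.trans hep) z
    have hadd : ∀ u v : AddMonoid.End (Additive H), (u + v) z = u z + v z := fun _ _ => rfl
    have hsum : ∀ (t : Finset ℕ) (q : ℕ → AddMonoid.End (Additive H)),
        (∑ k ∈ t, q k) z = ∑ k ∈ t, q k z := fun t q =>
      map_sum (AddMonoidHom.mk' (fun u : AddMonoid.End (Additive H) => u z) hadd) q t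
    rw [Finset.sum_range_succ', show p = p - 1 + 1 by omega, Finset.sum_range_succ',
      show p - 1 + 1 = p by omega] at h0
    simp only [pow_zero, Nat.choose_zero_right, Nat.cast_one, mul_one] at h0
    obtain ⟨W, hW⟩ : ∃ W : Additive H,
        (p * p) • W = (∑ k ∈ Finset.range (p - 1), δ ^ (k + 1 + 1) * (p.choose (k + 1 + 1)) :
          AddMonoid.End (Additive H)) z := by
      rw [hsum]
      refine Finset.sum_induction _ (fun v => ∃ W : Additive H, (p * p) • W = v) ?_ ⟨0, by simp⟩ ?_
      · rintro u v ⟨U, rfl⟩ ⟨V, rfl⟩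
        exact ⟨U + V, smul_add _ _ _⟩
      · intro k hk
        have hk1 := Finset.mem_range.1 hk
        rw [AddMonoid.End.coe_mul, Function.comp_apply, AddMonoid.End.natCast_apply, map_nsmul]
        by_cases hkp : k + 1 + 1 = p
        · obtain ⟨j, hj⟩ : ∃ j, k + 1 + 1 = j + 2 + 2 := ⟨k + 1 + 1 - 4, by omega⟩
          obtain ⟨w, hw⟩ := hδ2 z
          obtain ⟨w', hw'⟩ := hδ2 w
          refine ⟨(δ ^ j) w', ?_⟩
          have h22 : (δ ^ (2 + 2)) z = (p * p) • w' := by
            rw [pow_add, AddMonoid.End.coe_mul, Function.comp_apply, ← hw, map_nsmul, ← hw',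
              mul_nsmul]
          rw [show p.choose (k + 1 + 1) = 1 by rw [hkp, Nat.choose_self], one_nsmul, hj,
            show j + 2 + 2 = j + (2 + 2) by omega, pow_add, AddMonoid.End.coe_mul,
            Function.comp_apply, h22, map_nsmul]
        · obtain ⟨c, hc'⟩ := hp.dvd_choose_self (Nat.succ_ne_zero (k + 1)) (by omega)
          obtain ⟨w, hw⟩ := hδk (k + 1 + 1) (by omega) z
          refine ⟨c • w, ?_⟩
          rw [hc', ← hw, ← mul_nsmul, ← mul_nsmul]
          congr 1
          ring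
    refine ⟨-W, ?_⟩
    rw [hadd, hadd, ← hW] at h0
    simp only [zero_add, pow_one, Nat.choose_one_right, AddMonoid.End.coe_mul, Function.comp_apply,
      AddMonoid.End.natCast_apply, map_nsmul, AddMonoid.End.coe_one, id_eq] at h0
    rw [smul_neg, neg_eq_iff_add_eq_zero]
    exact add_eq_right.1 h0
  obtain ⟨w, hw⟩ := hmain (Additive.ofMul y)
  rw [hδz] at hw
  set d := y⁻¹ * β y
  have h1 : d ^ p = (w.toMul ^ p) ^ p := by
    rw [← pow_mul]
    exact (congrArg Additive.toMul hw).symm
  have h2 : (d * (w.toMul ^ p)⁻¹) ^ p = 1 := by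
    rw [mul_pow, inv_pow, ← h1, mul_inv_cancel]
  have h3 : d * (w.toMul ^ p)⁻¹ ∈ frattini H := by
    by_contra h
    refine hmax _ h ?_
    rw [show a - 1 = 1 + (a - 2) by omega, pow_add, pow_one, pow_mul, h2, one_pow]
  have h4 := mul_mem h3 (PGroup.pow_mem_frattini hHp w.toMul)
  rw [inv_mul_cancel_right] at h4
  exact hy h4

end Cfsg.Agent.FusionSys
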