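import Cfsg.Agent.FusionSys.SmallEssential

/-!
Essential subgroups of order `p²` contain `SL(2,p)` in their automorphism groups.
-/

set_option autoImplicit false

open Cfsg Cfsg.FusionSystem Cfsg.Agent.FusionSys Cfsg.Agent.Stability

namespace Cfsg.Agent.FusionSys

variable {Ω : Type*} [Group Ω] {S : Subgroup Ω} [Finite S] {p : ℕ} [Fact p.Prime]

/-- `SL(2,p)` inside the automizer of an elementary abelian essential subgroup of order `p²`. -/
theorem exists_SL_of_essential (hS : IsPGroup p S) {F : FusionSystem S}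
    {H : Subgroup Ω} (hH : F.IsEssential p H) (hcomm : ∀ a b : H, a * b = b * a)
    (hexp : ∀ v : H, v ^ p = 1) (hcard : Nat.card H = p ^ 2) :
    ∃ K : Subgroup ↥(F.autGroup H),
      Nonempty (↥K ≃* Matrix.SpecialLinearGroup (Fin 2) (ZMod p)) := by
  have hp : p.Prime := Fact.out
  haveI : Finite H := finite_of_le ‹_› hH.1.1
  have hinn : Inn H = ⊥ := by
    rw [eq_bot_iff]
    rintro _ ⟨x, rfl⟩
    refine Subgroup.mem_bot.2 (MulEquiv.ext fun y => ?_)
    rw [MulAut.conj_apply, hcomm x y, mul_inv_cancel_right]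
    rfl
  set A := F.autGroup H
  obtain ⟨T, hT1, hTp⟩ : ∃ T : A, (T : MulAut H) ≠ 1 ∧ ∃ k : ℕ, T ^ p ^ k = 1 := by
    obtain ⟨-, -, hI, E, hE⟩ := hH
    have hd : p ∣ Nat.card A := hE.1.trans (Subgroup.card_quotient_dvd_card _)
    obtain ⟨T, hT⟩ := exists_prime_orderOf_dvd_card' p hd
    refine ⟨T, fun h => ?_, 1, by rw [pow_one, ← hT, pow_orderOf_eq_one]⟩
    rw [show T = 1 from Subtype.ext h, orderOf_one] at hT
    exact hp.ne_one hT.symm
  obtain ⟨e, f, g, b, hgen, hTe, hTf, hUf, hUe, hb⟩ :=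
    exists_transvection_pair hexp hcomm hcard.le A.subtype
      (by
        rw [(MonoidHom.ker_eq_bot_iff _).2 A.subtype_injective]
        exact IsPGroup.of_bot) T hTp hT1
      fun M hM hMp hTM => hT1 (by
        have h1 := FusionAlperin.noOuterPNormal_of_essential hH (M.map A.subtype)
          (Subgroup.map_subtype_le _) (by
            rintro α hα _ ⟨m, hm, rfl⟩
            exact ⟨⟨α, hα⟩ * m * ⟨α, hα⟩⁻¹, hM.conj_mem m hm _, rfl⟩) (hMp.map _)
          ⟨T, hTM, rfl⟩
        rw [hinn, Subgroup.mem_bot] at h1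
        exact h1)
  letI : CommGroup H := { (inferInstance : Group H) with mul_comm := hcomm }
  set ψ : (Fin 2 → ZMod p) → H := fun q => e ^ (q 0).val * f ^ (q 1).val with hψ
  have hval : ∀ (u : H) (i j : ZMod p), u ^ (i + j).val = u ^ i.val * u ^ j.val := fun u i j => by
    rw [← pow_add, ZMod.val_add]
    exact (pow_eq_pow_mod _ (hexp u)).symm
  have hvalmul : ∀ (u : H) (i j : ZMod p), u ^ (i * j).val = (u ^ i.val) ^ j.val := fun u i j => by
    rw [← pow_mul, ZMod.val_mul]
    exact (pow_eq_pow_mod _ (hexp u)).symm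
  have hadd : ∀ q r, ψ (q + r) = ψ q * ψ r := fun q r => by
    simp only [hψ, Pi.add_apply, hval]
    rw [mul_mul_mul_comm]
  have hψe : ψ ![1, 0] = e := by simp [hψ, ZMod.val_one]
  have hψf : ψ ![0, 1] = f := by simp [hψ, ZMod.val_one]
  have hsurj : Function.Surjective ψ := by
    intro v
    have hv : v ∈ Subgroup.closure {e, f} := hgen.ge (Subgroup.mem_top v)
    induction hv using Subgroup.closure_induction with
    | mem x hx =>
      rcases hx with rfl | rfl
      · exact ⟨_, hψe⟩
      · exact ⟨_, hψf⟩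
    | one => exact ⟨0, by simp [hψ]⟩
    | mul x y _ _ hx hy =>
      obtain ⟨q, rfl⟩ := hx
      obtain ⟨r, rfl⟩ := hy
      exact ⟨q + r, hadd q r⟩
    | inv x _ hx =>
      obtain ⟨q, rfl⟩ := hx
      exact ⟨-q, eq_inv_of_mul_eq_one_left (by rw [← hadd, neg_add_cancel]; simp [hψ])⟩
  have hbij : Function.Bijective ψ := by
    letI := Fintype.ofFinite H
    refine (Fintype.bijective_iff_surjective_and_card ψ).2 ⟨hsurj, ?_⟩
    rw [← Nat.card_eq_fintype_card, ← Nat.card_eq_fintype_card, hcard]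
    simp
  let E : (Fin 2 → ZMod p) ≃ H := Equiv.ofBijective ψ hbij
  have hEe : ∀ q, E q = ψ q := fun q => rfl
  let act : SL2.S2 (ZMod p) → H → H := fun M v => E (Matrix.mulVec (M : Matrix (Fin 2) (Fin 2) (ZMod p)) (E.symm v))
  have hact_one : ∀ v, act 1 v = v := fun v => by
    show E _ = v
    rw [Matrix.SpecialLinearGroup.coe_one, Matrix.one_mulVec, E.apply_symm_apply]
  have hact_mul : ∀ M N v, act (M * N) v = act M (act N v) := fun M N v => by
    show E _ = E _
    rw [Equiv.symm_apply_apply, Matrix.mulVec_mulVec, ← Matrix.SpecialLinearGroup.coe_mul]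
  have hact_hom : ∀ M u v, act M (u * v) = act M u * act M v := fun M u v => by
    obtain ⟨q, rfl⟩ := E.surjective u
    obtain ⟨r, rfl⟩ := E.surjective v
    have : E q * E r = E (q + r) := (hadd q r).symm
    rw [this]
    simp only [act, Equiv.symm_apply_apply, Matrix.mulVec_add]
    exact hadd _ _
  let Φ : SL2.S2 (ZMod p) →* MulAut H :=
    { toFun := fun M =>
        { toFun := act M
          invFun := act M⁻¹
          left_inv := fun v => by rw [← hact_mul, inv_mul_cancel, hact_one]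
          right_inv := fun v => by rw [← hact_mul, mul_inv_cancel, hact_one]
          map_mul' := hact_hom M }
      map_one' := MulEquiv.ext hact_one
      map_mul' := fun M N => MulEquiv.ext fun v => hact_mul M N v }
  have hΦ : ∀ M q, Φ M (ψ q) = ψ (Matrix.mulVec (M : Matrix (Fin 2) (Fin 2) (ZMod p)) q) := fun M q => by
    show E _ = _
    rw [← hEe, Equiv.symm_apply_apply, hEe]
  have hagree : ∀ α β : MulAut H, α e = β e → α f = β f → α = β := fun α β h1 h2 =>
    MulEquiv.ext fun v => by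
      obtain ⟨q, rfl⟩ := hsurj v
      simp [hψ, h1, h2]
  have hu : Φ (SL2.upperU 1) = (T : MulAut H) := by
    refine hagree _ _ ?_ ?_
    · refine Eq.trans ?_ hTe.symm
      rw [← hψe, hΦ]
      congr 1
      ext i; fin_cases i <;> simp [Matrix.mulVec, dotProduct, Fin.sum_univ_two]
    · refine Eq.trans ?_ hTf.symm
      rw [← hψf, hΦ, ← hψe, ← hadd]
      congr 1
      ext i; fin_cases i <;> simp [Matrix.mulVec, dotProduct, Fin.sum_univ_two]
  have hl : Φ (SL2.lowerU (b : ZMod p)) = ((g * T * g⁻¹ : A) : MulAut H) := by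
    refine hagree _ _ ?_ ?_
    · refine Eq.trans ?_ hUe.symm
      rw [← hψe, hΦ]
      have hv : Matrix.mulVec ((SL2.lowerU (b : ZMod p) : SL2.S2 (ZMod p)) : Matrix (Fin 2) (Fin 2) (ZMod p))
          ![1, 0] = ![1, (b : ZMod p)] := by
        ext i; fin_cases i <;> simp [Matrix.mulVec, dotProduct, Fin.sum_univ_two]
      rw [hv]
      show e ^ (1 : ZMod p).val * f ^ ((b : ZMod p)).val = e ^ _ * f ^ _ * f ^ b
      simp [ZMod.val_one, ZMod.val_natCast]
      exact (pow_eq_pow_mod b (hexp f)).symm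
    · refine Eq.trans ?_ hUf.symm
      rw [← hψf, hΦ]
      congr 1
      ext i; fin_cases i <;> simp [Matrix.mulVec, dotProduct, Fin.sum_univ_two]
  have hrange : Φ.range ≤ A := by
    rw [MonoidHom.range_eq_map, ← SL2.closure_upperU_lowerU, MonoidHom.map_closure,
      Subgroup.closure_le]
    rintro _ ⟨M, rfl | rfl, rfl⟩
    · rw [SetLike.mem_coe, hu]; exact T.2
    · obtain ⟨c, hc⟩ : ∃ c : ℕ, (c : ZMod p) * b = 1 := by
        refine ⟨((b : ZMod p)⁻¹).val, ?_⟩
        rw [ZMod.natCast_zmod_val, inv_mul_cancel₀]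
        exact fun h => hb ((ZMod.natCast_eq_zero_iff _ _).1 h)
      rw [SetLike.mem_coe, ← hc, ← SL2.lowerU_pow, map_pow, hl]
      exact pow_mem (g * T * g⁻¹).2 c
  have hΦinj : Function.Injective Φ := by
    intro M N h
    have key : ∀ q, Matrix.mulVec (M : Matrix (Fin 2) (Fin 2) (ZMod p)) q = Matrix.mulVec (N : Matrix (Fin 2) (Fin 2) (ZMod p)) q :=
      fun q => hbij.1 (by rw [← hΦ, ← hΦ, h])
    exact Subtype.ext (Matrix.toLin'.injective (LinearMap.ext fun q => by simpa using key q))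
  exact ⟨Φ.range.subgroupOf A, ⟨(Subgroup.subgroupOfEquivOfLe hrange).trans
    (MonoidHom.ofInjective hΦinj).symm⟩⟩

end Cfsg.Agent.FusionSys
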